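import Cfsg.Agent.TAB.F22.FxB_m3
import Cfsg.Prelude.Def_Spor_Fi22
import Cfsg.Prelude.Def_Spor_Fi23
import Cfsg.Prelude.Def_Classical
import Cfsg.Agent.SB.Tor.Refl_m3
import Cfsg.Agent.ClassicalGeometry.HermOrthonormal
import Cfsg.Agent.S2618
import Cfsg.Agent.SB.Cl.Cent_m3
import Cfsg.Agent.H324.FC.Fld
import Cfsg.Agent.SB.C2.Main
import Cfsg.Agent.SB.SporB.Geo
import Cfsg.Agent.SB.D4.Tri_m3
import Cfsg.Agent.S0293
import Cfsg.Agent.H920.FP.Zero
import Cfsg.Agent.H838.PCoreAbs_m3
import Cfsg.Agent.H837.Width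
import Cfsg.Agent.H49.Four.TEight_m3
import Cfsg.Agent.H830.Con24
import Cfsg.Agent.FastGrp
import Cfsg.Agent.Prune
set_option linter.all false

section
prune_inst 0x7f00000000000000000000000000000000000000000000000000000000000000000000000000000000000000000000000000000000000000000000000000000000000000000000000000000000000000003fffffffffffffffffffffffffffaeffbdffffffff

section
prune_inst 0xfcacfdebb8b9dedfff7e77a7dccffdf9b93fffe6dff9cbffe069ff9b9f4b02cdc523ad0be0d0fe0e96401410e87b43fb7eeeffe06fd87ffffd1ff45ffbff9ffdf7bd08519c88b40f380ffe03e0678e7f000000000000000000000000000010000200000000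

-- part: SB/SporD/Fi/Defs
section
set_option linter.all false

/-!
# S5765, the rows `Fi22` and `Fi23`: interface (helper93)

See `notes/SB/fi2223.md` for the proofs on paper.
-/

set_option autoImplicit false

namespace Cfsg.Agent.SB.SporD.Fi

open Subgroup Cfsg Cfsg.Agent.H786.FC

/-- the members of `D` which commute with all members of `E` -/
def CD {G : Type*} [Group G] (D E : Set G) : Set G := {d | d ∈ D ∧ ∀ e ∈ E, Commute d e}

/-- a class of 3-transpositions of Fischer type -/
structure Two {G : Type*} [Group G] (D : Set G) : Prop where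
  sq : ∀ a ∈ D, a * a = 1
  ne : ∀ a ∈ D, a ≠ 1
  aut : ∀ σ : MulAut G, ∀ a ∈ D, σ a ∈ D
  three : ∀ a ∈ D, ∀ b ∈ D, ¬ Commute a b → a * b * a = b * a * b
  /-- a product of two commuting members determines its factors -/
  uniq : ∀ a ∈ D, ∀ b ∈ D, ∀ c ∈ D, ∀ d ∈ D, a ≠ b → Commute a b → Commute c d → a * b = c * d → c = a ∨ c = b
  /-- the set of all factors of an involution (2, 3 or 6 members) -/
  invol : ∀ r : G, r * r = 1 → r ≠ 1 → r ∉ D → ∃ H : Finset G, (∀ h ∈ H, h ∈ D) ∧ (∀ h ∈ H, ∀ k ∈ H, Commute h k) ∧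
    ¬ 4 ∣ H.card ∧ (∀ g : G, Commute g r → ∀ h ∈ H, g * h * g⁻¹ ∈ H) ∧
      ∀ h ∈ H, ∀ k ∈ H, h ≠ k → ∀ x ∈ D, ∀ y ∈ D, x ≠ y → Commute x y → r * h * k ≠ x * y
  /-- cliques -/
  clique : ∀ E : Set G, E ⊆ D → E.Nonempty → (∀ a ∈ E, ∀ b ∈ E, Commute a b) →
    ¬ Group.IsSolvable (normalizer (closure (CD D E) : Set G))
  /-- the centraliser of a symmetric group of degree four -/
  tri : ∀ a ∈ D, ∀ b ∈ D, ∀ c ∈ D, a ≠ c → Commute a c → ¬ Commute a b → ¬ Commute c b →
    ¬ Group.IsSolvable (centralizer ({a, b, c} : Set G))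

/-- `O₂(S ⊓ T) = 1` -/
def BoxTwo : Prop :=
  ∀ (G : Type) [Group G] [Finite G] [IsSimpleGroup G], ¬ IsMulCommutative G → ∀ D : Set G, Two D →
    ∀ S : Subgroup (MulAut G), Group.IsSolvable S → MaxInv (InnG G) S → NPar 2 (InnG G) S

def BoxD23 : Prop := ∃ D : Set Spor.Fi23, Two D

/-- a `p`-subgroup meets some conjugate of its normaliser trivially -/
def Reg {Y : Type*} [Group Y] (F : Subgroup Y) : Prop :=
  ∃ x : Y, ∀ v ∈ F, x⁻¹ * v * x ∈ normalizer (F : Set Y) → v = 1

/-- Borel–Tits and the opposite parabolic subgroup -/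
def Opp (p : ℕ) (Y : Type*) [Group Y] : Prop := ∀ F : Subgroup Y, IsPGroup p F → Reg F

def BoxOpp : Prop :=
  Opp 3 (POmega (ZMod 3) (quadFormOdd 3 (ZMod 3))) ∧ Opp 3 (POmega (ZMod 3) (quadFormPlus 4 (ZMod 3)))

/-- the primes `p ≥ 5`, `Fi23` -/
def BoxFive23 : Prop :=
  ∀ S : Subgroup Spor.Fi23, Group.IsSolvable S → NPar 2 ⊤ S →
    (∃ c ∈ fit S, (orderOf c).Prime ∧ 5 ≤ orderOf c) → FitReg ⊤ S

/-- the prime 3, `Fi23` -/
def BoxThree23 : Prop :=
  ∀ S : Subgroup Spor.Fi23, Group.IsSolvable S → MaxInv ⊤ S → IsPGroup 3 (fit S) → FitReg ⊤ S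

end Cfsg.Agent.SB.SporD.Fi
end

-- part: SB/Idem/Fam
section
set_option linter.all false
open scoped Cfsg.Agent.FastGrp

/-!
# S5765, classical rows: the engine for symplectic, unitary and orthogonal groups (helper96)
-/

set_option autoImplicit false

namespace Cfsg.Agent.SB.Idem

open Cfsg.Agent.DS.Cl Cfsg.Agent.DS.Cl.Fwd Module Matrix Ar

/-- all checks for symplectic and unitary groups -/
def Cert.okB (a : Ar) (C : Cert) (ps B : ℕ) (d : ℕ → ℕ) (g : ℕ → ℕ → ℕ → ℕ) (L : List (List ℕ)) : Bool :=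
  C.shOK ps d && C.gramOK a ps B g && allTo 3 fun k => isoOK a C.n B (C.x k) (L.getD k []) &&
    Nat.beq ((L.getD k []).getD 3 0) B

/-- all checks for orthogonal groups -/
def Cert.okO (a : Ar) (C : Cert) (ps B : ℕ) (d : ℕ → ℕ) (g : ℕ → ℕ → ℕ → ℕ) (L : List (List ℕ)) : Bool :=
  C.shOK ps d && C.gramOK a ps B g && allTo 3 fun k => isoOK a C.n B (C.x k) (L.getD k []) &&
    altOK a C.n B ((L.getD k []).getD 3 0)

/-- the symplectic plane -/
def gSp (p r s : ℕ) : ℕ := cond (Nat.beq r 0 && Nat.beq s 1) 1 (cond (Nat.beq r 1 && Nat.beq s 0) (Nat.pred p) 0)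

/-- orthonormal bases -/
def gU (r s : ℕ) : ℕ := cond (Nat.beq r s) 1 0

/-- the forms `x₀² + x₁ x₂` and `x₀ x₂ + x₁ x₃` -/
def gO (d r s : ℕ) : ℕ := cond (Nat.beq d 3) (cond ((Nat.beq r 0 && Nat.beq s 0) || (Nat.beq r 1 && Nat.beq s 2)) 1 0)
  (cond ((Nat.beq r 0 && Nat.beq s 2) || (Nat.beq r 1 && Nat.beq s 3)) 1 0)

variable {K V : Type} [Field K] [Finite K] [AddCommGroup V] [Module K V] [Finite V] (h : HF K V)

theorem b_idem {e : h.EB} (hs : star e = e) (u x : V) : h.b (h.ap e u) x = h.b u (h.ap e x) := by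
  rw [← h.b_star, hs]

omit [Finite K] [Finite V] in
theorem idem_of_mem {e : h.EB} (he : e * e = e) {x : V} (hx : x ∈ LinearMap.range (h.ap e)) : h.ap e x = x := by
  obtain ⟨y, rfl⟩ := hx
  rw [← h.ap_mul, he]

theorem block_sp (hb : ∀ v, h.b v v = 0) {e : h.EB} (he : e * e = e) (hs : star e = e) (hr : Cl.rk h e = 2) :
    ∃ v, BB (h.ap e) 2 v ∧ h.b (v 0) (v 1) = 1 ∧ h.b (v 1) (v 0) = -1 := by
  have : Module.Finite K V := Module.Finite.of_finite
  obtain ⟨w, hw⟩ := exists_BB (E := h.ap e) he hr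
  obtain ⟨u, hu⟩ := h.exists_ne (hw.li.ne_zero 0)
  have h0 := hw.mem 0 (by norm_num)
  change h.b u (w 0) ≠ 0 at hu
  obtain ⟨y, hy⟩ : ∃ y, y = (h.b u (w 0))⁻¹ • h.ap e u := ⟨_, rfl⟩
  have h1 : h.b y (w 0) = 1 := by rw [hy, h.smul_left, b_idem h hs, h0, inv_mul_cancel₀ hu]
  have h2 : h.b (w 0) y = -1 := by
    have h3 := hb (y + w 0)
    rw [h.add_left, h.add_right, h.add_right, hb, hb, h1] at h3
    linear_combination h3
  refine ⟨fun r => cond (Nat.beq r 0) y (w 0), ⟨fun r hr => ?_, li_of_mono h (v := fun r => cond (Nat.beq r 0) y (w 0))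
    (fun r => 1 - r) (fun r hr => ?_) fun r hr s hs hne => ?_, hr⟩, h1, h2⟩
  · interval_cases r
    · change h.ap e y = y
      rw [hy, map_smul, ← h.ap_mul, he]
    · exact h0
  · interval_cases r
    · exact h1 ▸ one_ne_zero
    · exact h2 ▸ neg_ne_zero.2 one_ne_zero
  · interval_cases r <;> interval_cases s
    exacts [absurd rfl hne, hb _, hb _, absurd rfl hne]

theorem four_sp {p : ℕ} (hp : p.Prime) (h4 : p ≤ 4) (hK : Nat.card K = p) {F : FR h.EB} (hA : SS h.EB)
    (hF : Cl.IsSp h F) (C : Cert) (H₀ : C.ok₀ (arP p) = true) (H₁ : C.ok₁ (arP p) = true) (H₂ : C.ok₂ (arP p) = true)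
    (H₃ : C.ok₃ (arP p) false = true) (H₄ : C.ok₄ (arP p) = true) {ps B : ℕ} {L : List (List ℕ)}
    (H₅ : C.okB (arP p) ps B (fun _ => 2) (fun _ => gSp p) L = true)
    {D : Finset h.EB} (hD : Fr D) (ht : D.card = C.t) (hr : ∀ e ∈ D, Cl.rk h e = 2)
    {S : Subgroup (RingAut h.EB)} (hS : S ≤ SAut h.EB) (hinv : Inv S D) : Four F.S S := by
  obtain ⟨_, hk⟩ := prime_field hp hK
  have ha := arP_sound (K := K) hp.pos h4
  obtain ⟨hτ, hb, hL⟩ := hF
  obtain ⟨e, he⟩ := en_of_card ht
  simp only [Cert.okB, Bool.and_eq_true] at H₅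
  obtain ⟨⟨H₅, H₆⟩, H₇⟩ := H₅
  choose! v hv hv1 hv2 using fun b (hb' : b < C.t) =>
    block_sp h hb (hD.idem _ (he.mem b hb')) (hD.symm _ (he.mem b hb')) (hr _ (he.mem b hb'))
  refine four_form h hA ha C false H₀ H₁ H₂ H₃ H₄ H₅ H₆ hD he hv (fun c h1 =>
    ⟨fun s _ => Or.inl (lin_of_prime h c hk s), fun k hk' => lift_max h c hL ?_⟩) hS hinv
  have h2 : gram h c = (arP p).M (fun x : ℕ => (x : K)) C.n B := by
    ext i j
    rcases h1 i j with ⟨h2, h3, -⟩ | ⟨b, hb', r, hr, s, hs, h2, h3, -, h5, -⟩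
    · exact h2.trans h3.symm
    · rw [h5, gram, Matrix.of_apply, h2, h3]
      interval_cases r <;> interval_cases s
      · exact (hb _).trans Nat.cast_zero.symm
      · exact (hv1 b hb').trans Nat.cast_one.symm
      · refine (hv2 b hb').trans ?_
        change _ = ((p - 1 : ℕ) : K)
        rw [Nat.cast_sub hp.pos, CharP.cast_eq_zero K p, Nat.cast_one, zero_sub]
      · exact (hb _).trans Nat.cast_zero.symm
  have h3 := allTo_iff.1 H₇ k hk'
  rw [Bool.and_eq_true, Nat.beq_eq] at h3
  rw [h2, of_isoOK ha (Cert.of_ok₀ ha H₀).1 (fun x => (hτ _).symm) h3.1, h3.2]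

theorem block_u (hU : Cl.IsU h) {e : h.EB} (he : e * e = e) (hs : star e = e) {d : ℕ} (hr : Cl.rk h e = d) :
    ∃ v, BB (h.ap e) d v ∧ ∀ r < d, ∀ s < d, h.b (v r) (v s) = if r = s then 1 else 0 := by
  have : Module.Finite K V := Module.Finite.of_finite
  obtain ⟨hε, y, hy⟩ := hU
  let W := LinearMap.range (h.ap e)
  let β : W →ₛₗ[h.τ] W →ₗ[K] K := LinearMap.mk₂'ₛₗ h.τ (RingHom.id K) (fun v w => h.b w v)
    (fun _ _ _ => h.add_right _ _ _) (fun _ _ _ => h.smul_right _ _ _) (fun _ _ _ => h.add_left _ _ _)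
    fun _ _ _ => h.smul_left _ _ _
  obtain ⟨c, hc⟩ := ClassicalGeometry.HermOrthonormal.exists_orthonormal_basis (σ := h.τ)
    (fun h0 => hy (by rw [h0]; rfl)) h.τ_τ β ⟨fun v w => by
      change h.τ (h.b w v) = h.b v w
      rw [h.swap (w : V) v, hε, one_mul]⟩ fun v hv => Subtype.ext (h.nondeg _ fun u => by
        have h1 : h.b (h.ap e u) v = 0 := hv ⟨h.ap e u, u, rfl⟩
        rwa [b_idem h hs, idem_of_mem h he v.2] at h1)
  obtain rfl : finrank K W = d := hr
  refine ⟨fun r => if h : r < _ then c ⟨r, h⟩ else 0, ⟨fun r hr => ?_, ?_, rfl⟩, fun r hr s hs => ?_⟩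
  · rw [dif_pos hr]
    exact idem_of_mem h he (c ⟨r, hr⟩).2
  · simp only [Fin.is_lt, dif_pos]
    exact c.linearIndependent.map' W.subtype (Submodule.ker_subtype _)
  · simp only [dif_pos hr, dif_pos hs]
    refine (hc ⟨s, hs⟩ ⟨r, hr⟩).trans ?_
    simp only [Fin.mk.injEq, eq_comm]

theorem four_u {p c₀ c₁ : ℕ} [CharP K p] (hp : 0 < p) (h4 : p ≤ 4) {ω : K} (hω : ω ^ 2 = c₁ * ω + c₀)
    (ha : (arQ p c₀ c₁).Sound (evQ ω)) (hk : ∀ y : K, ∃ x x' : ℕ, y = x + x' * ω) {F : FR h.EB} (hA : SS h.EB)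
    (hU : Cl.IsU h) (C : Cert) (H₀ : C.ok₀ (arQ p c₀ c₁) = true) (H₁ : C.ok₁ (arQ p c₀ c₁) = true)
    (H₂ : C.ok₂ (arQ p c₀ c₁) = true) (H₃ : C.ok₃ (arQ p c₀ c₁) true = true) (H₄ : C.ok₄ (arQ p c₀ c₁) = true)
    {ps B : ℕ} {d : ℕ → ℕ} {L : List (List ℕ)} (H₅ : C.okB (arQ p c₀ c₁) ps B d (fun _ => gU) L = true)
    {D : Finset h.EB} (hD : Fr D) {e : ℕ → h.EB} (he : En D C.t e) (hr : ∀ b < C.t, Cl.rk h (e b) = d b)
    {S : Subgroup (RingAut h.EB)} (hS : S ≤ SAut h.EB) (hinv : Inv S D) : Four F.S S := by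
  simp only [Cert.okB, Bool.and_eq_true] at H₅
  obtain ⟨⟨H₅, H₆⟩, H₇⟩ := H₅
  choose! v hv hv1 using fun b (hb' : b < C.t) =>
    block_u h hU (hD.idem _ (he.mem b hb')) (hD.symm _ (he.mem b hb')) (hr b hb')
  have hroot : ∀ y : K, y ^ 2 = c₁ * y + c₀ → y = ω ∨ y = c₁ - ω := fun y hy => by
    have h1 : (y - ω) * (y - (c₁ - ω)) = 0 := by linear_combination hy - hω
    exact (mul_eq_zero.1 h1).imp sub_eq_zero.1 sub_eq_zero.1
  obtain ⟨hε, y, hy⟩ := hU
  have hτ : h.τ ω = c₁ - ω := by
    refine (hroot _ (by rw [← map_pow, hω, map_add, map_mul, map_natCast, map_natCast])).resolve_left fun h1 => hy ?_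
    obtain ⟨x, x', rfl⟩ := hk y
    rw [map_add, map_mul, map_natCast, map_natCast, h1]
  have hstar : ∀ y : K, star (h.eb (y • 1)) = h.eb (h.τ y • 1) := fun y => h.ap_ext fun x => h.ext_right fun u => by
    rw [h.b_star, h.ap_eb, h.ap_eb, LinearMap.smul_apply, LinearMap.smul_apply, h.smul_left, h.smul_right, h.τ_τ]
    rfl
  have hL : F.L = Lmax h.EB := by
    refine F.L_eq (h.smul_mem_center (y / (y - h.τ y))) ?_
    have h1 : y - h.τ y ≠ 0 := sub_ne_zero.2 (Ne.symm hy)
    have h2 : h.τ y - y ≠ 0 := sub_ne_zero.2 hy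
    rw [hstar]
    refine h.ap_ext fun x => ?_
    rw [h.ap_add, h.ap_eb, h.ap_eb, LinearMap.smul_apply, LinearMap.smul_apply, ← add_smul, map_div₀, map_sub, h.τ_τ, show y / (y - h.τ y) + h.τ y / (h.τ y - y) = 1 by field_simp; ring, one_smul]
    rfl
  refine four_form h hA ha C true H₀ H₁ H₂ H₃ H₄ H₅ H₆ hD he hv (fun c h1 => ?_) hS hinv
  have h2 : gram h c = (arQ p c₀ c₁).M (evQ ω) C.n B ∧ gram h c = 1 := by
    constructor <;> ext i j <;> rcases h1 i j with ⟨h2, h3, -, h6⟩ | ⟨b, hb', r, hr, s, hs, h2, h3, h4, h5, -⟩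
    · exact h2.trans h3.symm
    · rw [h5, gram, Matrix.of_apply, h2, h3, hv1 b hb' r hr s hs, gU]
      by_cases hrs : r = s
      · simp [hrs, ha.ev1]
      · rw [if_neg hrs, Bool.eq_false_iff.2 fun e => hrs (Nat.eq_of_beq_eq_true e), cond_false, ha.ev0]
    · rw [Matrix.one_apply_ne h6]
      exact h2
    · rw [gram, Matrix.of_apply, h2, h3, hv1 b hb' r hr s hs, Matrix.one_apply]
      simp only [h4]
  have h3 : ∀ x, piB h c (star x) = ((piB h c x).map h.τ)ᵀ := fun x => by
    ext i j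
    have h3 := h.star_b x (c j) (c i)
    have h4 : ∀ i j, h.b (c i) (c j) = if i = j then 1 else 0 := fun i j =>
      (congrFun (congrFun h2.2 i) j).trans (Matrix.one_apply)
    rw [ap_basis h c, ap_basis h c, b_sum_left, b_sum_right] at h3
    simpa [h4] using h3
  let τ' : K ≃+* K := RingEquiv.ofRingHom h.τ h.τ (RingHom.ext h.τ_τ) (RingHom.ext h.τ_τ)
  let π := RingEquiv.ofBijective (piB h c) (piB_bij h c)
  let κ : RingAut h.EB := (π.trans τ'.mapMatrix).trans π.symm
  have hκ : ∀ x, piB h c (κ x) = (piB h c x).map h.τ := fun x => π.apply_symm_apply _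
  refine ⟨htr_of hA (piB h c) κ (h.eb (ω • 1)) (fun s hs x hx => ?_) (fun s _ => ?_) ((piB_bij h c).1 ?_) fun x => ?_,
    fun k hk' => lift_max h c hL ?_⟩
  · obtain ⟨y, rfl⟩ := cen_scalar h c hx
    obtain ⟨x, x', rfl⟩ := hk y
    have h4 : h.eb (((x : K) + x' * ω) • 1) = x + x' * h.eb (ω • 1) := by
      rw [← eb_natCast, ← eb_natCast, ← h.eb_smul, add_smul, mul_smul]
      rfl
    rw [h4, map_add, map_mul, map_natCast, map_natCast, hs]
  · obtain ⟨y, hy⟩ := cen_scalar h c (map_cen s (h.smul_mem_center ω))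
    have h4 : ∀ y : K, y ^ 2 = c₁ * y + c₀ ↔ h.eb (y • 1) * h.eb (y • 1) = c₁ * h.eb (y • 1) + c₀ := fun y => by
      have : Nontrivial h.EB := hA.nontrivial
      have h5 : Function.Injective (algebraMap K (End K V)) := by
        have : Nontrivial (End K V) := this
        exact (algebraMap K (End K V)).injective
      rw [← h5.eq_iff, sq, map_mul, map_add, map_mul, map_natCast, map_natCast, Algebra.algebraMap_eq_smul_one]
      rfl
    have h5 := congrArg s ((h4 ω).1 hω)
    rw [map_mul, map_add, map_mul, map_natCast, map_natCast, hy] at h5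
    rw [hy, hstar, hτ]
    exact (hroot y ((h4 y).2 h5)).imp (fun e => by rw [e]) fun e => by rw [e]
  · rw [hκ, hstar, piB_smul, piB_smul, Matrix.scalar_apply, Matrix.scalar_apply, Matrix.diagonal_map (map_zero _)]
    simp only [h.τ_τ]
  · rw [hκ, h3, Matrix.trace_transpose]
  · have h4 := allTo_iff.1 H₇ k hk'
    rw [Bool.and_eq_true, Nat.beq_eq] at h4
    rw [h2.1, of_isoOK ha (Cert.of_ok₀ ha H₀).1 (arQ_cj hp ‹_› hτ) h4.1, h4.2]

/-- a standard basis of an orthogonal block -/
structure OB (Q : QuadraticForm K V) (κ : K) (E : End K V) (d : ℕ) (v : ℕ → V) : Prop where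
  bb : BB E d v
  sq : ∀ r < d, Q (v r) = κ * gO d r r
  pol : ∀ r < d, ∀ s < d, r ≠ s → h.b (v r) (v s) = κ * (gO d r s + gO d s r)

theorem four_o {p : ℕ} (hp : p.Prime) (h4 : p ≤ 4) (hK : Nat.card K = p) {F : FR h.EB} (hA : SS h.EB)
    {Q : QuadraticForm K V} (hF : Cl.IsO h F Q) (C : Cert) (H₀ : C.ok₀ (arP p) = true) (H₁ : C.ok₁ (arP p) = true)
    (H₂ : C.ok₂ (arP p) = true) (H₃ : C.ok₃ (arP p) false = true) (H₄ : C.ok₄ (arP p) = true) {ps B : ℕ} {d : ℕ → ℕ}
    {L : List (List ℕ)} (H₅ : C.okO (arP p) ps B d (fun b => gO (d b)) L = true)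
    {D : Finset h.EB} (hD : Fr D) {e : ℕ → h.EB} (he : En D C.t e) {κ : K} {v : ℕ → ℕ → V}
    (hv : ∀ b < C.t, OB h Q κ (h.ap (e b)) (d b) (v b))
    {S : Subgroup (RingAut h.EB)} (hS : S ≤ SAut h.EB) (hinv : Inv S D) : Four F.S S := by
  obtain ⟨_, hk⟩ := prime_field hp hK
  have ha := arP_sound (K := K) hp.pos h4
  simp only [Cert.okO, Bool.and_eq_true] at H₅
  obtain ⟨⟨H₅, H₆⟩, H₇⟩ := H₅
  refine four_form h hA ha C false H₀ H₁ H₂ H₃ H₄ H₅ H₆ hD he (fun b hb => (hv b hb).bb) (fun c h1 =>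
    ⟨fun s _ => Or.inl (lin_of_prime h c hk s), fun k hk' => ?_⟩) hS hinv
  have h3 := allTo_iff.1 H₇ k hk'
  rw [Bool.and_eq_true] at h3
  refine lift_O h c hF (κ := κ) (fun i => ?_) (fun i j hij => ?_)
    (of_isoOK ha (Cert.of_ok₀ ha H₀).1 (τ := id) (fun _ => rfl) h3.1) (of_altOK ha h3.2)
  · rcases h1 i i with ⟨-, -, -, h5⟩ | ⟨b, hb, r, hr, s, hs, h5, -, h7, h8, -⟩
    · exact absurd rfl h5
    · rw [h5, h8, ← h7.1 rfl, (hv b hb).sq r hr]
  · rcases h1 i j with ⟨h5, h6, h7, -⟩ | ⟨b, hb, r, hr, s, hs, h5, h6, h7, h8, h9⟩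
    · rw [h5, h6, h7, add_zero, mul_zero]
    · rw [h5, h6, h8, h9, (hv b hb).pol r hr s hs fun e => hij (h7.2 e)]

end Cfsg.Agent.SB.Idem

private theorem dce_64df446cb723 : _root_.True := by
  try have : _root_.True := by simp only [_root_.Cfsg.Agent.SB.Idem.gU.eq_1]
  try have : _root_.True := by simp only [_root_.Cfsg.Agent.SB.Idem.Cert.okO.eq_1]
  try have : _root_.True := by simp only [_root_.Cfsg.Agent.SB.Idem.Cert.okB.eq_1]
  try have : _root_.True := by simp only [_root_.Cfsg.Agent.SB.Idem.gram.eq_1]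
  exact _root_.True.intro
end

-- part: SB/Fr/Main
section
prune_inst 0x301001007422120000000000200000606800000200000000004000040109000000000000b2900010108200004008000000100020000000000a00000000040000000000001000010400000e010000000000000000000000000000000000000000000000000
set_option linter.all false
open scoped Cfsg.Agent.FastGrp

-- part: SB/Idem/CU
section
/-!
# S5765, classical rows: certificates for unitary groups (helper96; generated by notes/SB/idem/out.py)
-/

set_option autoImplicit false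

namespace Cfsg.Agent.SB.Idem

/-- a row of a table, as one number -/
private def rowT (t T s b c : ℕ) : ℕ := sumTo t fun a => Nat.shiftLeft (tab T (dig s a) b c) (Nat.mul 4 a)

/-- a row of a table, as one number -/
private def rowU (t T b : ℕ) : ℕ := sumTo t fun a => Nat.shiftLeft (tab T a b 0) (Nat.mul 4 a)

private def pre1 (t T T' s₀ s₁ c : ℕ) : Bool :=
  Nat.beq (rowT t T s₀ (dig s₁ 0) c) (rowU t T' 0) && Nat.beq (rowT t T s₀ (dig s₁ 1) c) (rowU t T' 1)

/-- a necessary condition for `okT`, independent of the third permutation -/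
private def pre2 (t T T' s₀ s₁ : ℕ) : Bool :=
  Nat.ble t 1 || (pre1 t T T' s₀ s₁ 0 || (pre1 t T T' s₀ s₁ 1 || (pre1 t T T' s₀ s₁ 2 || pre1 t T T' s₀ s₁ 3)))

private theorem sumTo_congr {n : ℕ} {f g : ℕ → ℕ} (h : ∀ i < n, f i = g i) : sumTo n f = sumTo n g := by
  induction n with
  | zero => rfl
  | succ n ih => rw [sumTo_succ, sumTo_succ, ih fun i hi => h i (Nat.lt_succ_of_lt hi), h n (Nat.lt_succ_self n)]

private theorem pre2_of {t T T' s₀ s₁ s₂ : ℕ} (h : okT t T T' s₀ s₁ s₂ = true) : pre2 t T T' s₀ s₁ = true := by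
  delta pre2
  rcases Nat.lt_or_ge 1 t with ht | ht
  · have h1 : ∀ b < t, Nat.beq (rowT t T s₀ (dig s₁ b) (dig s₂ 0)) (rowU t T' b) = true := fun b hb => by
      have h2 : rowT t T s₀ (dig s₁ b) (dig s₂ 0) = rowU t T' b := sumTo_congr fun a ha => by
        rw [Nat.eq_of_beq_eq_true (allTo_iff.1 (allTo_iff.1 (allTo_iff.1 h a ha) b hb) 0 (by omega))]
      rw [h2, Nat.beq_refl]
    have h3 : pre1 t T T' s₀ s₁ (dig s₂ 0) = true := by
      delta pre1
      rw [h1 0 (by omega), h1 1 ht]
      rfl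
    have h4 : dig s₂ 0 < 4 := Nat.mod_lt _ (by omega)
    generalize dig s₂ 0 = c at h3 h4
    interval_cases c <;> simp only [h3, Bool.or_true, Bool.true_or]
  · rw [Nat.ble_eq_true_of_le ht, Bool.true_or]

private theorem search_eq : search = fun t T₂ T₂' T₃ T₃' fin => (perms t).all fun s₀ => (perms t).all fun s₁ =>
    !pre2 t T₂ T₂' s₀ s₁ || (perms t).all fun s₂ => !okT t T₂ T₂' s₀ s₁ s₂ ||
      (perms t).all fun s₃ => !okT t T₃ T₃' s₀ s₁ s₃ || fin (code s₀ s₁ s₂ s₃) := by
  funext t T₂ T₂' T₃ T₃' fin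
  delta search
  congr 1
  funext s₀
  congr 1
  funext s₁
  cases h : pre2 t T₂ T₂' s₀ s₁
  · refine List.all_eq_true.2 fun s₂ _ => ?_
    cases h1 : okT t T₂ T₂' s₀ s₁ s₂
    · rfl
    · rw [pre2_of h1] at h
      exact absurd h (by decide)
  · rfl


/-- the certificate for U4_23 -/
def cU4_23 : Cert where
  n := 5
  t := 2
  bl := 336
  one := 0x1000001000001000001000001
  X := [0x5111144155500545004541455, 0x1110050550404014515454141, 0x540551500551411555405410]
  XY := [0x5444441145544154540011400, 0x104414050155454414101440, 0x1441541441554411411151514]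
  YX := [0x4501045500450044145111514, 0x5145115155500154055055010, 0x1040110051510054114111144]
  Z := [0x5400111151045010505414155, 0x415015144511110150455400, 0x5015040045510505444455515]
  f := [[0x1000001, 0x1000001000001000000000000],
    [0x1115410145111544540454550, 0x115411145110544541454551],
    [0x1450050010400500141000000, 0x450051010401500140000001],
    [0x1414550555141455450144410, 0x414551555140455451144411]]
  T₂ := 0x4500440000000000550044
  T₂' := 0x5400550000000000440055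
  T₃ := 0x5400440000000000440044
  T₃' := 0x4500550000000000550055
  ex := []
  w := [(0, 0), (1, 0), (3, 1), (1, 0)]
  ws := [0x1000001, 0x4540454550, 0x5050005044, 82177]
  φ := 82177
  j₀ := 0
  P := 0x54050550405405414000001
  Q := 0x5050045050051005140000001
  tree := [(0, 0, 0), (0, 1, 0), (0, 3, 0), (1, 0, 0), (2, 2, 0)]

theorem cU4_23_0 : cU4_23.ok₀ (arQ 2 1 1) = true := by decide +kernel

theorem cU4_23_1 : cU4_23.ok₁ (arQ 2 1 1) = true := by decide +kernel

theorem cU4_23_2 : cU4_23.ok₂ (arQ 2 1 1) = true := by decide +kernel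

theorem cU4_23_3 : cU4_23.ok₃ (arQ 2 1 1) true = true := by decide +kernel

theorem cU4_23_4 : cU4_23.ok₄ (arQ 2 1 1) = true := by decide +kernel

theorem cU4_23_5 : cU4_23.okB (arQ 2 1 1) 580 0x1000001000001000001000001 (fun c => cond (Nat.beq c 0) 2 3) (fun _ => gU)
    [[0x5455414001110041554515455, 0x4111155144400454005451544, 0x4111155144400454005451544, 0x1000001000001000001000001],
    [0x1544510054154110505400141, 0x1110040440505015414545151, 0x1110040440505015414545151, 0x1000001000001000001000001],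
    [0x551051555451540045150140, 0x450441400441511444504510, 0x450441400441511444504510, 0x1000001000001000001000001]] = true := by
  decide +kernel

/-- the certificate for U4_33 -/
def cU4_33 : Cert where
  n := 6
  t := 2
  bl := 1344
  one := 0x100000010000001000000100000010000001
  X := [0x141014505500154510541401015514510500, 0x511405101555455401105111501010050505, 0x501444400504015010045155104154011554]
  XY := [0x51004015554500000055555050014050104, 0x14455054010010041405141514055141504, 0x414000101040051444505100101004150444]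
  YX := [0x440145004450155011444051454055441105, 0x515000450155544440000551510141445550, 0x154510445405550415150141500051011151]
  Z := [0x151510114440405444410455444401055040, 0x401144050405154410415041501415404511, 0x111055010014541011504414441505155150]
  f := [[0x100000010000001, 0x100000010000001000000000000000000000],
    [0x11045100411101151051144514500411501, 0x111045110411100151051044514510411500],
    [0x101544001500110504444005500011505411, 0x1544011500111504444105500001505410],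
    [0x10111105054040444105100145005155040, 0x110111115054041444105000145015155041]]
  T₂ := 0x10000000000010011
  T₂' := 0x10000000000010011
  T₃ := 0x4400540000000000450044
  T₃' := 0x5500450000000000540055
  ex := []
  w := [(0, 0), (1, 1), (3, 1), (1, 1)]
  ws := [0x100000010000001, 0x51044514510411500, 0x555410050041010054, 0x5141004515005141]
  φ := 20801
  j₀ := 0
  P := 0x505040400500101140141541455455441041
  Q := 0x10101441450545505010505411505515511
  tree := [(0, 0, 0), (0, 1, 0), (0, 2, 0), (0, 3, 0), (1, 0, 0), (1, 3, 0)]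

theorem cU4_33_0 : cU4_33.ok₀ (arQ 2 1 1) = true := by decide +kernel

theorem cU4_33_1 : cU4_33.ok₁ (arQ 2 1 1) = true := by decide +kernel

theorem cU4_33_2 : cU4_33.ok₂ (arQ 2 1 1) = true := by decide +kernel

theorem cU4_33_3 : cU4_33.ok₃ (arQ 2 1 1) true = true := by decide +kernel

theorem cU4_33_4 : cU4_33.ok₄ (arQ 2 1 1) = true := by decide +kernel

theorem cU4_33_5 : cU4_33.okB (arQ 2 1 1) 2340 0x100000010000001000000100000010000001 (fun _ => 3) (fun _ => gU)
    [[0x151505405411154150055455101010400140, 0x151015404400145410451501014415410400, 0x151015404400145410451501014415410400, 0x100000010000001000000100000010000001],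
    [0x514150105005115510454105050110551105, 0x411504101444544501104111401010040404, 0x411504101444544501104111401010040404, 0x100000010000001000000100000010000001],
    [0x540010001401105541450115401555440544, 0x401555500405014010054144105145011445, 0x401555500405014010054144105145011445, 0x100000010000001000000100000010000001]] = true := by
  decide +kernel

/-- the certificate for U4_222 -/
def cU4_222 : Cert where
  n := 6
  t := 3
  bl := 2640
  one := 0x100000010000001000000100000010000001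
  X := [0x14400445055005505511504410454044145, 0x411041504415144505501151440551004550, 0x551550105141405111005405145015150511]
  XY := [0x55100041114115501115550051500500045, 0x115410540145115011401411155105011514, 0x445101005150104111151015140155101554]
  YX := [0x101400515044100405451105055114504441, 0x105544155150110500414450444015051451, 0x405004445410440004551450114440014001]
  Z := [0x45511440001011555005150514501544505, 0x45554445000000414501115000144110441, 0x545011110154540100545045140541004041]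
  f := [[0x10000001, 0x1000000100000000000000, 0x100000010000000000000000000000000000],
    [0x10414114014050151501100114014551051, 0x4455000000500144501000405000405000, 0x114041104014551015000000511004154050],
    [0x4050000000500441005010405105001040, 0x14054110500501441045015405115501441, 0x110004100500000000040105000000500400],
    [0x10144100100000000110044500500500500, 0x100104011040011040100104055010500501, 0x10040101140010040010040555500000000]]
  T₂ := 0x4040405011100000101045004410000041500550440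
  T₂' := 0x5050504011100000101054005510000051400440550
  T₃ := 0x10414041500000514004405500000040504500055
  T₃' := 0x10515051400000415005504400000050405400044
  ex := []
  w := [(0, 0), (2, 1)]
  ws := [0x10000001, 0x405115501441]
  φ := 0x501441
  j₀ := 0
  P := 0x454110100010100550455000505015101051
  Q := 0x10041114541144154044015000041154101
  tree := [(0, 0, 0), (0, 1, 0), (0, 1, 1), (0, 2, 0), (0, 3, 0), (0, 3, 1)]

theorem cU4_222_0 : cU4_222.ok₀ (arQ 2 1 1) = true := by decide +kernel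

theorem cU4_222_1 : cU4_222.ok₁ (arQ 2 1 1) = true := by decide +kernel

theorem cU4_222_2 : cU4_222.ok₂ (arQ 2 1 1) = true := by decide +kernel

theorem cU4_222_3 : cU4_222.ok₃ (arQ 2 1 1) true = true := by decide +kernel

theorem cU4_222_4 : cU4_222.ok₄ (arQ 2 1 1) = true := by decide +kernel

theorem cU4_222_5 : cU4_222.okB (arQ 2 1 1) 1092 0x100000010000001000000100000010000001 (fun _ => 2) (fun _ => gU)
    [[0x40540140114455104405541050054055445, 0x15500554044004404411405510545055154, 0x15500554044004404411405510545055154, 0x100000010000001000000100000010000001],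
    [0x451540104040144104045155410555155110, 0x511051405514155404401141550441005440, 0x511051405514155404401141550441005440, 0x100000010000001000000100000010000001],
    [0x514011500045155550511405541011011551, 0x441440104151504111004504154014140411, 0x441440104151504111004504154014140411, 0x100000010000001000000100000010000001]] = true := by
  decide +kernel

/-- the certificate for U4_2222 -/
def cU4_2222 : Cert where
  n := 8
  t := 4
  bl := 64080
  one := 0x1000000001000000001000000001000000001000000001000000001000000001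
  X := [0x4101444514014414550144514044415400501100001140450044051440444111, 0x10004101010141154514500014154040144514415044514045015050105101, 0x4401404040115554155140440014104511545505110010111004501545140445]
  XY := [0x1501511150500050411040505015004455505005551511400451005140144151, 0x1040544054144104104451551145150410444455545000415540005405010004, 0x5101040511104555445514041540155451541540155055540141551110551005]
  YX := [0x1510040514450551111450410504101501044051440151115511511000110111, 0x444441510541514414100054515510110015101515014451011111554544440, 0x4140555155054511144451404004044154115505050450555510151514501514]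
  Z := [0x1044105000451110155514041055511400154440040014514111144040440510, 0x44440541451501551104154151101145101154550541005455101444115041, 0x5115101110505104455000411011411410500445111104445505401005541115]
  f := [[0x1000000001, 0x1000000001000000000000000000, 0x1000000001000000000000000000000000000000000000, 0x1000000001000000000000000000000000000000000000000000000000000000],
    [0x1505414541015451001104004110505154041514155040455404151441015451, 0x1114511010450444150040055400100440510555150040051500400505454441, 0x400100050445015050040000500400014550041000000000100500004001000, 0x1011005500000000100104051011005500000000005001404004050140440011],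
    [0x1515404541415051150400504150104454010040000000005445500141050010, 0x114054510414014151044005101151405510414405450455101151445055451, 0x401450050104141010514001040545455141041415501150504510001051400, 0x105104010150500010510404440415010150500040140505054040],
    [0x544101541415105550154405110041414400545015540411051551144054110, 0x1405005150055544000000004400551504041104040411044501001415045550, 0x444441051151501511515015440404151151501544040411005051401111150, 0x505545441511140040441414151114041511140511110044555500150100511]]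
  T₂ := 0x450151515150450144154000155411414045105044141401504101000000514
  T₂' := 0x540141414140540155145000144511515054104055151501405101000000415
  T₃ := 0x1054444511105410505144551144145111115105540004154005511544554544
  T₃' := 0x1045555411104510404155441155154111114104450005145004411455445455
  ex := []
  w := [(0, 3), (2, 0)]
  ws := [0x1000000001000000000000000000000000000000000000000000000000000000, 0x1515404541415051000000000000000000000000000000000000000000000000]
  φ := 0x41415051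
  j₀ := 0
  P := 0x4154144554045451501105000555550054115110041010005455510010514450
  Q := 0x4101411541040000541001105405551100150010410054110041051401401555
  tree := [(0, 0, 0), (0, 1, 1), (0, 1, 2), (0, 2, 1), (0, 2, 2), (0, 3, 0), (0, 3, 1), (0, 3, 2)]

theorem cU4_2222_0 : cU4_2222.ok₀ (arQ 2 1 1) = true := by decide +kernel

theorem cU4_2222_1 : cU4_2222.ok₁ (arQ 2 1 1) = true := by decide +kernel

theorem cU4_2222_2 : cU4_2222.ok₂ (arQ 2 1 1) = true := by decide +kernel

theorem cU4_2222_3 : cU4_2222.ok₃ (arQ 2 1 1) true = true := by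
  delta Cert.ok₃
  rewrite [search_eq]
  decide +kernel

theorem cU4_2222_4 : cU4_2222.ok₄ (arQ 2 1 1) = true := by decide +kernel

theorem cU4_2222_5 : cU4_2222.okB (arQ 2 1 1) 17476 0x1000000001000000001000000001000000001000000001000000001000000001 (fun _ => 2) (fun _ => gU)
    [[0x4154000414500000000451441114014444441404444110514155041154140541, 0x5101555415015515440155415055514500401100001150540055041550555111, 0x5101555415015515440155415055514500401100001150540055041550555111, 0x1000000001000000001000000001000000001000000001000000001000000001],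
    [0x10444501500100104115410154405000114405014554114454155011004101, 0x10005101010151145415400015145050155415514055415054014040104101, 0x10005101010151145415400015145050155415514055415054014040104101, 0x1000000001000000001000000001000000001000000001000000001000000001],
    [0x4410111440501105015150011114404445415150050050044544011404455155, 0x5501505050114445144150550015105411454404110010111005401454150554, 0x5501505050114445144150550015105411454404110010111005401454150554, 0x1000000001000000001000000001000000001000000001000000001000000001]] = true := by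
  decide +kernel

/-- the certificate for U4_333 -/
def cU4_333 : Cert where
  n := 9
  t := 3
  bl := 173376
  one := 0x100000000010000000001000000000100000000010000000001000000000100000000010000000001
  X := [0x411450055040001445541111155545110101140441104010141050514544555145450510110000554, 0x11415405111010111514455050540541104140555011100541454014144045405040410510145055, 0x540111501105445011155455515555500455010150510505001000514514515041054050544154040]
  XY := [0x555110104450410545145454100144045405101444000005111555144010155010550055115555441, 0x1441454511445010454005454551114100454405041444411454545514445550001501000505151, 0x51145450500154514441101055045155011501045111550554550511001114555514545415441454]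
  YX := [0x155551500511015150144405505005545005540154504454500551140145041501014551014150154, 0x450015040555004500051441041050504055515444444504551510155404440144115004405404454, 0x445514511404141105014014554040150405154050451100515544454544155154541454154551154]
  Z := [0x111555154511144551144555514454451500140545104145555141154111415450451510454115415, 0x440454501055150541500151111114444111051140411554114541411105450141001500504045111, 0x444110045050104104551104044500550550400454500141401504140511051001004555501051001]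
  f := [[0x100000000010000000001, 0x100000000010000000001000000000000000000000000000000, 0x100000000010000000001000000000000000000000000000000000000000000000000000000000000],
    [0x110401515111100545011144000511155414005405040105441505440504141150150505440504141, 0x151041501414404140151041501050150015505415440151041501414054104050150015101401541, 0x141440014515504405141105501541105401500000400054401004054550145100000500541105401],
    [0x4450414010011110501150141501150141414411554010011110511141051115541415501150141, 0x151400141400154104101451510515151144044405101051141440114115051501505414150510150, 0x55050555400145014401501451014101005450004455041151550405054100414044011451440010],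
    [0x45504045501445414410501104454011100050111010541110444051105051510015415455005141, 0x11015504100441014100441014055054401155415415411540451400555155011014414555141450, 0x154511541411004400511140110401145501105514405150451015451450004501001011100144510]]
  T₂ := 0x5150111050400000404050501000000001105050504
  T₂' := 0x4140111040500000505040401000000001104040405
  T₃ := 0x4150450015400000514010004040000000104410450
  T₃' := 0x5140540014500000415010005050000000105510540
  ex := []
  w := [(2, 0), (3, 1), (1, 0), (2, 0)]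
  ws := [0x4450414010011110501150141501150141414411554010011110511141051115541415501150141, 0x555144100055055511555144100555144100055055511055055511500111411500111411555144100, 0x501510444400055151501510444501510444400055151400055151101545515101545515501510444, 0x110051150440014410110051150110051150440014410440014410550045540550045540110051150]
  φ := 0x440014410
  j₀ := 1
  P := 0x410145005104154001404041005000155505054455101454040101544451044051455044141111055
  Q := 0x115000110505454110000141151455141511144011545045515054400151041140445114010401414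
  tree := [(0, 0, 0), (0, 0, 0), (0, 0, 1), (0, 1, 0), (0, 1, 1), (0, 3, 0), (0, 3, 1), (1, 1, 0), (1, 1, 1)]

theorem cU4_333_0 : cU4_333.ok₀ (arQ 2 1 1) = true := by decide +kernel

theorem cU4_333_1 : cU4_333.ok₁ (arQ 2 1 1) = true := by decide +kernel

theorem cU4_333_2 : cU4_333.ok₂ (arQ 2 1 1) = true := by decide +kernel

theorem cU4_333_3 : cU4_333.ok₃ (arQ 2 1 1) true = true := by decide +kernel

theorem cU4_333_4 : cU4_333.ok₄ (arQ 2 1 1) = true := by decide +kernel

theorem cU4_333_5 : cU4_333.okB (arQ 2 1 1) 149796 0x100000000010000000001000000000100000000010000000001000000000100000000010000000001 (fun _ => 3) (fun _ => gU)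
    [[0x405510511144441141101500450401141540501144450011011400041110555545005515555140504, 0x511540044050001554451111144454110101150551105010151040415455444154540410110000445, 0x511540044050001554451111144454110101150551105010151040415455444154540410110000445, 0x100000000010000000001000000000100000000010000000001000000000100000000010000000001],
    [0x15511045111440101114000450404555101115454444505151405410104040015015415510414505, 0x11514504111010111415544040450451105150444011100451545015155054504050510410154044, 0x11514504111010111415544040450451105150444011100451545015155054504050510410154044, 0x100000000010000000001000000000100000000010000000001000000000100000000010000000001],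
    [0x511505505405510144055505414144510501145050155155001444505450500011510154115500500, 0x450111401104554011144544414444400544010140410404001000415415414051045040455145050, 0x450111401104554011144544414444400544010140410404001000415415414051045040455145050, 0x100000000010000000001000000000100000000010000000001000000000100000000010000000001]] = true := by
  decide +kernel

/-- the certificate for U4_3333 -/
def cU4_3333 : Cert where
  n := 12
  t := 4
  bl := 16688448
  one := 0x100000000000010000000000001000000000000100000000000010000000000001000000000000100000000000010000000000001000000000000100000000000010000000000001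
  X := [0x54041055040505005151555150155151515444411005041401001014015045104444014100454400105040450414100114101114515014501011551545445001044051114415100, 0x414544014455100111455044555110045404141105055410400514404144550001415411004110015410045040554541414401100050554414004140045150411054411010151510, 0x45410541104441011554001054114055450440500415415400145400055154401451445411510400411041515414544400045415555401005501101144505555551451501450041]
  XY := [0x555554400110051004054044440010551551041540410511150400415451005011540510454514145110105104510155041514044140441014404550500015144155041141000504, 0x11105004101441151001550044041000145111001505151450410055441441140444411554005115105554515005150101501545044105154541155155411011451001100041500, 0x151414145044504514105410110055054545451550155451110010511111105444110550001110151441444551405005014151404041500055441154015104005150105144005154]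
  YX := [0x555401104011050511045100410411544514414101041450440001145451040100150545444415505511141104144151104540514510450114005154054444441155551550414514, 0x444554541504401140444450004410014540544155454401400040010550515105001100541101511511051144004144014151010151100515155510150005554444104045500015, 0x14101415000041400551155051551404150410111155551411411010501100140511005000040555500500051400511151015505440014004450110551051454414510444454001]
  Z := [0x404514014101041101105151415514144011101114041045040405504101440454054501541114410145145501410105445514104114000500544551411055150000114504451115, 0x545540150440555454004104050104110011501401544000545415540151441054410410110014504400100541500405050144154150415101451001511155105155000051405445, 0x1550511554414544504040411155101500404055501551004111001104000411041404050540110140105444010154441150440014440004411454105014554011004451405151]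
  f := [[0x100000000000010000000000001, 0x100000000000010000000000001000000000000000000000000000000000000000, 0x100000000000010000000000001000000000000000000000000000000000000000000000000000000000000000000000000000000, 0x100000000000010000000000001000000000000000000000000000000000000000000000000000000000000000000000000000000000000000000000000000000000000000000000],
    [0x1405554505014005151400150111144505501055010005001405554505441440110001411041101404445141005100515050141405454040515104000000000000404441504501, 0x54115111440405504555010541554110444144050445454104401444050455010551515141554004005141554004005140451550511505504004105515441001004005504441451, 0x111511551110101410451441111511551110454100104415111005001511101041011544454100104415444001004144111511551110151544511101151115151004010415450150, 0x44001114055500111055051501154505051011005551044014011111044115410450050104415101014140414015041544110141004000000000000444554150010411550515001],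
    [0x44015111010504055501440550051044101000000000000144010510145441000110004140041114041105011104550115000550001051010040144150050540510001045101501, 0x4000440415010100101455500114445115011100011501001000110154005000550541515014014001505114115454014100541040551414050105141045045004444151150450, 0x15405404505115510451005440101100544541055541501010410555111401400405445551445014410040540111444510144511511404415554051005015151414445114051150, 0x155410155100411445051010411044501550550055550000155410155100045401045100104410014450440445110540411044501550104011544110014000454110000000000000],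
    [0x141445154410510500154545101154550405541101110045504004101445405150451040114115044044444104514514550011550550545050044111150555514105044440550141, 0x144014411400501544504001510511105411044011504540151111000154551110441504541405010405100005115140154501040501505414514145001540050511011055401410, 0x54101504055415054040155541015050411100000401414041015155540154041010544400510050041054041411150500140010054015544010114441155544100441505105501, 0x151550041045414010410411151450405405405010015111414110054051000000000000055000104400510140000504104450501005055100540040510140000504414110054051]]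
  T₂ := 0x4500410551154510554545455500540141501504054040154005114511554104
  T₂' := 0x5400510441145410445454544400450151401405045050145004115411445105
  T₃ := 0x404105400110540015410555105401411015051401510550541505101014501
  T₃' := 0x505104500110450014510444104501511014041501410440451404101015401
  ex := []
  w := [(2, 3), (0, 2), (3, 2)]
  ws := [0x155410155100411445051010411044501550550055550000155410155100045401045100104410014450440445110540411044501550104011544110014000454110000000000000, 0x410000000000445000000000044000000000055000000000410000000000401000000000410000000000445000000000044000000000011000000000000000000000000000000, 0x441015451005115054145004441015451005554041514001441015451005554041514001441015451005115054145004441015451005115054145004000000000000000000000000]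
  φ := 0x554041514001
  j₀ := 0
  P := 0x515551010005550411540004410511510005104451041001411045415005100450051001050451150505544101110404050551500505440010400044005151500000511104100000
  Q := 0x41445140004551445155045510054101015101510411001041101510000000054041015155000101010140140445054415405114054011155151000105411510544555114054015
  tree := [(0, 0, 0), (0, 0, 0), (0, 0, 1), (0, 0, 2), (0, 1, 0), (0, 1, 1), (0, 1, 2), (0, 3, 0), (0, 3, 1), (0, 3, 2), (1, 1, 0), (1, 2, 1)]

theorem cU4_3333_0 : cU4_3333.ok₀ (arQ 2 1 1) = true := by decide +kernel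

theorem cU4_3333_1 : cU4_3333.ok₁ (arQ 2 1 1) = true := by decide +kernel

theorem cU4_3333_2 : cU4_3333.ok₂ (arQ 2 1 1) = true := by decide +kernel

theorem cU4_3333_3 : cU4_3333.ok₃ (arQ 2 1 1) true = true := by
  delta Cert.ok₃
  rewrite [search_eq]
  decide +kernel

theorem cU4_3333_4 : cU4_3333.ok₄ (arQ 2 1 1) = true := by decide +kernel

theorem cU4_3333_5 : cU4_3333.okB (arQ 2 1 1) 9586980 0x100000000000010000000000001000000000000100000000000010000000000001000000000000100000000000010000000000001000000000000100000000000010000000000001 (fun _ => 3) (fun _ => gU)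
    [[0x51440101050505404041145450415004451001401441541405100550041155114401154011004441004555014011101511544044115055000115501451411001540055154505140, 0x45051044050404004141444140144141414555511004051501001015014054105555015100545500104050540515100115101115414015401011441454554001055041115514100, 0x45051044050404004141444140144141414555511004051501001015014054105555015100545500104050540515100115101115414015401011441454554001055041115514100, 0x100000000000010000000000001000000000000100000000000010000000000001000000000000100000000000010000000000001000000000000100000000000010000000000001],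
    [0x415145004504105405041541405100454451511150104410411010140151410541001400040044051041154501150015455545540411404414450105540141145451544041010040, 0x515455015544100111544055444110054505151104044510500415505155440001514511005110014510054050445451515501100040445515005150054140511045511010141410, 0x515455015544100111544055444110054505151104044510500415505155440001514511005110014510054050445451515501100040445515005150054140511045511010141410, 0x100000000000010000000000001000000000000100000000000010000000000001000000000000100000000000010000000000001000000000000100000000000010000000000001],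
    [0x40441404414445405140045514004110141401514550055111040114000014051055551550444444554455105011055145501045150104404455150005154145054410555145111, 0x54510451105551011445001045115044540550400514514500154500044145501541554511410500511051414515455500054514444501004401101155404444441541401540051, 0x54510451105551011445001045115044540550400514514500154500044145501541554511410500511051414515455500054514444501004401101155404444441541401540051, 0x100000000000010000000000001000000000000100000000000010000000000001000000000000100000000000010000000000001000000000000100000000000010000000000001]] = true := by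
  decide +kernel

/-- the certificate for U9_22 -/
def cU9_22 : Cert where
  n := 4
  t := 2
  bl := 80
  one := 0x1000010000100001
  X := [0xaa46111196005598, 0x9a19945662014086, 0x8495a582a954599]
  XY := [0x4148112408a8a102, 0x80a489692029255a, 0x506a98a0451598a]
  YX := [0x41415455666250a0, 0xa9452888650056a8, 0xa926860419690815]
  Z := [0x81505166aa626041, 0x106819a552550445, 0xa992114285010a22]
  f := [[0x100001, 0x1000010000000000],
    [0x2449818884045482, 0x288640444818a842],
    [0x2602105a0180940, 0x1190100a50040681],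
    [0x824422922128522, 0x1418821611014a12]]
  T₂ := 0x6800a50000000000840059
  T₂' := 0xa400690000000000480095
  T₃ := 0x4900850000000000a60049
  T₃' := 0x85004900000000006a0085
  ex := []
  w := [(2, 0), (3, 0)]
  ws := [0x2602105a0180940, 0x5a4012a012a012a0]
  φ := 38416
  j₀ := 1
  P := 0x5004a50a14aa08aa
  Q := 0x2521498411095196
  tree := [(0, 0, 0), (0, 0, 0), (0, 1, 0), (0, 3, 0)]

theorem cU9_22_0 : cU9_22.ok₀ (arQ 3 2 0) = true := by decide +kernel

theorem cU9_22_1 : cU9_22.ok₁ (arQ 3 2 0) = true := by decide +kernel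

theorem cU9_22_2 : cU9_22.ok₂ (arQ 3 2 0) = true := by decide +kernel

theorem cU9_22_3 : cU9_22.ok₃ (arQ 3 2 0) true = true := by decide +kernel

theorem cU9_22_4 : cU9_22.ok₄ (arQ 3 2 0) = true := by decide +kernel

theorem cU9_22_5 : cU9_22.okB (arQ 3 2 0) 68 0x1000010000100001 (fun _ => 2) (fun _ => gU)
    [[0xa195a16541096108, 0x668a11115a009954, 0x668a11115a009954, 0x1000010000100001],
    [0x9964a42015089616, 0x5615589aa201804a, 0x5615589aa201804a, 0x1000010000100001],
    [0x5248aa545999859, 0x485969426598955, 0x485969426598955, 0x1000010000100001]] = true := by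
  decide +kernel

/-- the certificate for U9_222 -/
def cU9_222 : Cert where
  n := 6
  t := 3
  bl := 2640
  one := 0x100000010000001000000100000010000001
  X := [0x202a08282588aa19aa24418802159a5a544, 0xa2569104a446060028450264065a08458281, 0x901918a16195499989949408a896894a4696]
  XY := [0x8595580a9a6545a46a82152806029a14058a, 0xa1a8200416525185a9106514455408855919, 0x8154a0a19401656886854411860825050a64]
  YX := [0x594529116a9a0695991a8848109581a0a806, 0x4861126aa12a40804811aa698426412a6840, 0x411990956650466586659056950218940069]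
  Z := [0x41a08a595909a06064a61545218464a29a85, 0x1a45596891a9a664a1911450455280a9648a, 0x509914822154068a2484096928920a69492]
  f := [[0x10000001, 0x1000000100000000000000, 0x100000010000000000000000000000000000],
    [0x4909282a4a4560a00086061560a00280100, 0x218a941149144826a165a016516124881a81, 0x2aa599611244612252922188589428582440],
    [0x10a262018195640190211266a55a11290a10, 0x86106409569a504401982580a8908a50440, 0x4209a80a901261a200560415028066101a1],
    [0x6a961a01920610955555168a29a1a109460, 0x26502aa214629105400891262a8204620a80, 0x2606a4a212a101116aa212a166a601816111]]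
  T₂ := 0x61902490a8a00000999061a0048000000580a980409
  T₂' := 0xa1502850646000005550a1600840000009406540805
  T₃ := 0x8880861091400000a15029604640000096105280184
  T₃' := 0x44404a1051800000619025a08a8000005a109240148
  ex := []
  w := [(0, 2), (2, 1), (3, 2)]
  ws := [0x100000010000000000000000000000000000, 0x86106409569000000000000000000000000, 0x604082209065000000000000000000000000]
  φ := 0x908041
  j₀ := 0
  P := 0x1926625854252105806165900410802101a0
  Q := 0x6448a9a22260512245296a194a66895446a8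
  tree := [(0, 0, 0), (0, 1, 0), (0, 1, 1), (0, 2, 0), (0, 2, 1), (0, 3, 0)]

theorem cU9_222_0 : cU9_222.ok₀ (arQ 3 2 0) = true := by decide +kernel

theorem cU9_222_1 : cU9_222.ok₁ (arQ 3 2 0) = true := by decide +kernel

theorem cU9_222_2 : cU9_222.ok₂ (arQ 3 2 0) = true := by decide +kernel

theorem cU9_222_3 : cU9_222.ok₃ (arQ 3 2 0) true = true := by decide +kernel

theorem cU9_222_4 : cU9_222.ok₄ (arQ 3 2 0) = true := by decide +kernel

theorem cU9_222_5 : cU9_222.okB (arQ 3 2 0) 1092 0x100000010000001000000100000010000001 (fun _ => 2) (fun _ => gU)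
    [[0x88a8a22a20508a42a221415a5915408a894, 0x20260424294466156628814402195696988, 0x20260424294466156628814402195696988, 0x100000010000001000000100000010000001],
    [0xa004042465655a00586402a2942608168481, 0x629a5108688a0a00248902a80a9604894241, 0x629a5108688a0a00248902a80a9604894241, 0x100000010000001000000100000010000001],
    [0x9a49a401948a169994919466198089859896, 0x50151461a159855545585804645a45868a5a, 0x50151461a159855545585804645a45868a5a, 0x100000010000001000000100000010000001]] = true := by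
  decide +kernel

/-- the certificate for U9_2222 -/
def cU9_2222 : Cert where
  n := 8
  t := 4
  bl := 64080
  one := 0x1000000001000000001000000001000000001000000001000000001000000001
  X := [0x6512552a58168211a805a84499890a049109458128299580064145459068111a, 0x85104a91860881a95225409418481a195415456681915061810a949148821a00, 0x64486920556151452605a6aa4a06588191118928999895146682296a44018482]
  XY := [0x9682a91552926a15114118661555658168141226521282161104aa68a4569924, 0x6528980102118602012620a00940926509959a860a2502021111151925642814, 0x158468845050804851429049a2049a1810a82694a821aa599915245a40a0a500]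
  YX := [0x5264a8120500988a6111205aa18499a99096a2a16645802594a694402981840, 0x59a6669514242692892a992981a54a566829551569a60180a0021850521228a8, 0x2944562002626912495925984a242454481a0048518181006a8256549a84201a]
  Z := [0x1a50241a019020942640155162014455a4a2a4a9118a49122209a81a519816a5, 0x58a28665465a9258a4a84a9a0a981614102a1a8a1485046686194a69685a0224, 0x19566a05a6401690551656280426649808185166640a8a2452a65a1140658185]
  f := [[0x1000000001, 0x1000000001000000000000000000, 0x1000000001000000000000000000000000000000000000, 0x1000000001000000000000000000000000000000000000000000000000000000],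
    [0x84aa604408925418408648a6541906062a51166a98012a9084aa6048160a581, 0x2145aa8811249492820504959892849165040914688850054555100142918910, 0x2890160842a085025610a20600012654146206a0a92aa0460009682542a80a90, 0xaa0984461a28121660225a9022085aa542402154199221a8266112581569690],
    [0x122086a620148a192110495908022410448202aaa658210261916014a5506282, 0x66a0569a0426441a8006605620055090aa906a598a9a1a8a800660551959491, 0xaa0205a61a594916605a446099080692564096508805048958aa80561a59491, 0x5549500044914000aa86a986206899860114a854a121951a4810198656510],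
    [0x2066495202621695aa2880a6a2404550814812965a09226195695a2129a0a110, 0x124569a52080081a84195a6990500562a09009545469509861aa951196528412, 0x19490400514840a9880184565410948108452595808892810694541405a19181, 0x41a55088195a1a6151961996951218096a2124091112045065488094a500951]]
  T₂ := 0x54058946a5204894a500522a2a04211222689a90546222a6248168011aa9a5a4
  T₂' := 0x9809458a69208458690092262608211222a4565098a2226a2841a40116656968
  T₃ := 0x294461648a4518269a50862695951a1600891a91110024a44a9021048225056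
  T₃' := 0x2588a1a84689142a56904a2a5959161a004516511100286886502108422909a
  ex := []
  w := [(0, 2), (2, 2), (3, 2), (0, 0)]
  ws := [0x1000000001000000000000000000000000000000000000, 0x6605a4460990806900000000000000000000000000000000, 0x149866429905968100000000000000000000000000000000, 0x420000008100000000000000000000000000000000]
  φ := 129
  j₀ := 0
  P := 0x54161608aa655109502258286021591412684a094268040620490605a8a1490
  Q := 0x155509544822815286448a4252aa684a0522189698114668405562aaa1121a12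
  tree := [(0, 0, 0), (0, 1, 0), (0, 1, 1), (0, 1, 2), (0, 2, 0), (0, 2, 1), (0, 2, 2), (0, 3, 0)]

theorem cU9_2222_0 : cU9_2222.ok₀ (arQ 3 2 0) = true := by decide +kernel

theorem cU9_2222_1 : cU9_2222.ok₁ (arQ 3 2 0) = true := by decide +kernel

theorem cU9_2222_2 : cU9_2222.ok₂ (arQ 3 2 0) = true := by decide +kernel

theorem cU9_2222_3 : cU9_2222.ok₃ (arQ 3 2 0) true = true := by
  delta Cert.ok₃
  rewrite [search_eq]
  decide +kernel

theorem cU9_2222_4 : cU9_2222.ok₄ (arQ 3 2 0) = true := by decide +kernel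

theorem cU9_2222_5 : cU9_2222.okB (arQ 3 2 0) 17476 0x1000000001000000001000000001000000001000000001000000001000000001 (fun _ => 2) (fun _ => gU)
    [[0x65a9920958891860110802462659991858a04941528a555121408841a144105a, 0xa9129926941a4211640964885545060851058941242559400a81898950a41116, 0xa9129926941a4211640964885545060851058941242559400a81898950a41116, 0x1000000001000000001000000001000000001000000001000000001000000001],
    [0x885158845628411810241908085851a248414591a10a504a9a91669019496110, 0x491086514a0441659229805814841615981989aa415190a14106585184421600, 0x491086514a0441659229805814841615981989aa415190a14106585184421600, 0x1000000001000000001000000001000000001000000001000000001000000001],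
    [0x65249964456a1964460019808156182165a589289168959424a8216805a184a2, 0xa884a52099a191892a096a66860a94415111452455545918aa4225a688014842, 0xa884a52099a191892a096a66860a94415111452455545918aa4225a688014842, 0x1000000001000000001000000001000000001000000001000000001000000001]] = true := by
  decide +kernel

end Cfsg.Agent.SB.Idem
end

-- part: SB/Idem/CSp
section
/-!
# S5765, classical rows: certificates for symplectic groups (helper96; generated by notes/SB/idem/out.py)
-/

set_option autoImplicit false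

namespace Cfsg.Agent.SB.Idem

/-- the certificate for Sp2_222 -/
def cSp2_222 : Cert where
  n := 6
  t := 3
  bl := 2640
  one := 0x400100040010004001
  X := [0x154151440100045115, 0x110140455454450101, 0x111141404550551505]
  XY := [0x511040545140104045, 0x411545011514045444, 0x144404111545450155]
  YX := [0x51511544451414044, 0x415414540051150501, 0x544510515141450445]
  Z := [0x100541055110111014, 0x544404551414105410, 0x150504544514004101]
  f := [[16385, 0x40010000000, 0x400100000000000000],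
    [0x14405000014411, 0x55445410410410, 0x400141000400400000],
    [0x11011541011550000, 0x54000144110000110, 0x445111445111554111],
    [0x4004004004451, 0x50000140110000000, 0x450104104104000450]]
  T₂ := 0x1010101000000000011010101100000011000000110
  T₂' := 0
  T₃ := 0x1100011010100000110000001100000000000110011
  T₃' := 0
  ex := []
  w := [(2, 2), (1, 1), (0, 1), (1, 2)]
  ws := [0x445111445111554111, 0x445055445055410055, 0x40050040050010050, 0x400000400400400]
  φ := 1024
  j₀ := 5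
  P := 0x100441540451445405
  Q := 0x445400005110104540
  tree := [(0, 0, 0), (0, 0, 0), (0, 0, 1), (0, 3, 0), (0, 3, 1), (1, 3, 0)]

theorem cSp2_222_0 : cSp2_222.ok₀ (arP 2) = true := by decide +kernel

theorem cSp2_222_1 : cSp2_222.ok₁ (arP 2) = true := by decide +kernel

theorem cSp2_222_2 : cSp2_222.ok₂ (arP 2) = true := by decide +kernel

theorem cSp2_222_3 : cSp2_222.ok₃ (arP 2) false = true := by decide +kernel

theorem cSp2_222_4 : cSp2_222.ok₄ (arP 2) = true := by decide +kernel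

theorem cSp2_222_5 : cSp2_222.okB (arP 2) 1092 0x100400010040001004 (fun _ => 2) (fun _ => gSp 2)
    [[0x40511544501405105, 0x154151440100045115, 0x151154100440115045, 0x100400010040001004],
    [0x54501154454050041, 0x110140455454450101, 0x140110454455101450, 0x100400010040001004],
    [0x55515114414041505, 0x111141404550551505, 0x141111550404505551, 0x100400010040001004]] = true := by
  decide +kernel

/-- the certificate for Sp3_222 -/
def cSp3_222 : Cert where
  n := 6
  t := 3
  bl := 2640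
  one := 0x400100040010004001
  X := [0x955850406245456185, 0x611496809686866968, 0x490484091546891685]
  XY := [0x5148a2518905498168, 0x8142516545568962a1, 0x4949a58040492a221a]
  YX := [0x100a65019090209065, 0x19a64a4255a8114810, 0x4521449a8a60280649]
  Z := [0x26056065691062a009, 0x9214905a16884091a6, 0x88a6095a980a65256]
  f := [[16385, 0x40010000000, 0x400100000000000000],
    [0x2000014001, 0x51051641910620000, 0x4a21a2900600900000],
    [0x4a00004a1151502a0, 0x898258680a24000680, 0x8292a49454162a4a91],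
    [0x25000108000204121, 0x41a19864241a198642, 0x64805805064891]]
  T₂ := 0x2220220001000000020011200110000002100210011
  T₂' := 0
  T₃ := 0x210001001000000120011100200000012202110002
  T₃' := 0
  ex := []
  w := [(2, 0), (0, 0)]
  ws := [0x4a00004a1151502a0, 0xa00000a005000000]
  φ := 5
  j₀ := 0
  P := 0x482a0090a405a10980
  Q := 0x2a00501a2204462901
  tree := [(0, 0, 0), (0, 0, 1), (0, 1, 0), (0, 3, 0), (0, 3, 1), (1, 3, 1)]

theorem cSp3_222_0 : cSp3_222.ok₀ (arP 3) = true := by decide +kernel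

theorem cSp3_222_1 : cSp3_222.ok₁ (arP 3) = true := by decide +kernel

theorem cSp3_222_2 : cSp3_222.ok₂ (arP 3) = true := by decide +kernel

theorem cSp3_222_3 : cSp3_222.ok₃ (arP 3) false = true := by decide +kernel

theorem cSp3_222_4 : cSp3_222.ok₄ (arP 3) = true := by decide +kernel

theorem cSp3_222_5 : cSp3_222.okB (arP 3) 1092 0x200400020040002004 (fun _ => 2) (fun _ => gSp 3)
    [[0xa44421516504455499, 0x955850406245456185, 0x4a095518a40624a456, 0x200400020040002004],
    [0x59a82122550a196668, 0x611496809686866968, 0x869611949809694866, 0x200400020040002004],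
    [0x519012a9a444111065, 0x490484091546891685, 0x848490a8909194a891, 0x200400020040002004]] = true := by
  decide +kernel

/-- the certificate for Sp2_2222 -/
def cSp2_2222 : Cert where
  n := 8
  t := 4
  bl := 64080
  one := 0x40001000040001000040001000040001
  X := [0x55005110555411550011115005454400, 0x15510055551145111411044101051550, 0x54001451505554101110040000145411]
  XY := [0x5045454145141411111551410444040, 0x51154115140500541415155400150504, 0x51445105541440145115555414150414]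
  YX := [0x40505004154144515114114550100450, 0x40155044110144544105551105445104, 0x44141041511001545011555141500455]
  Z := [0x1141001144010100401011045445544, 0x10154441104441115445105101441444, 0x15441415515145415050544004050150]
  f := [[0x40001, 0x40001000000000, 0x40001000000000000000000, 0x40001000000000000000000000000000],
    [0x40101005000000001005000040104010, 0x1050000144001050000010514401440, 0x1150000104500001045011511501150, 0x5000500050000000045044501],
    [0x45451115545011154545111554505450, 0x41551440144041551440551514401440, 0x401000040140401000040140401, 0x44101154441011545544441000004410],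
    [0x45011500500150010000000015000000, 0x41141554544041145440411400005440, 0x41451504544141450000150415045441, 0x5500550540051505400540000000000]]
  T₂ := 0x101001111001010010101010000000000000000101010100000011001100000
  T₂' := 0
  T₃ := 0x10101010010101100000001111001111001100001001100110011001
  T₃' := 0
  ex := []
  w := [(0, 3), (1, 2)]
  ws := [0x40001000000000000000000000000000, 0x1150000000000000000000000000000]
  φ := 277
  j₀ := 0
  P := 0x14554000141015405010104001145014
  Q := 0x10000555144015500545151500414104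
  tree := [(0, 0, 0), (0, 1, 0), (0, 2, 0), (0, 2, 1), (0, 2, 2), (0, 3, 0), (0, 3, 1), (1, 2, 2)]

theorem cSp2_2222_0 : cSp2_2222.ok₀ (arP 2) = true := by decide +kernel

theorem cSp2_2222_1 : cSp2_2222.ok₁ (arP 2) = true := by decide +kernel

theorem cSp2_2222_2 : cSp2_2222.ok₂ (arP 2) = true := by decide +kernel

theorem cSp2_2222_3 : cSp2_2222.ok₃ (arP 2) false = true := by
  delta Cert.ok₃
  rewrite [search_eq]
  decide +kernel

theorem cSp2_2222_4 : cSp2_2222.ok₄ (arP 2) = true := by decide +kernel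

theorem cSp2_2222_5 : cSp2_2222.okB (arP 2) 17476 0x10004000010004000010004000010004 (fun _ => 2) (fun _ => gSp 2)
    [[0x54015510440555140514155005040144, 0x55005110555411550011115005454400, 0x51105500115555541150001144000545, 0x10004000010004000010004000010004],
    [0x5004441455145055011554110045554, 0x15510055551145111411044101051550, 0x551551451155110441141115500105, 0x10004000010004000010004000010004],
    [0x45015541511100401400154504041401, 0x54001451505554101110040000145411, 0x14515400541050550400111054110014, 0x10004000010004000010004000010004]] = true := by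
  decide +kernel

/-- the certificate for Sp3_2222 -/
def cSp3_2222 : Cert where
  n := 8
  t := 4
  bl := 64080
  one := 0x40001000040001000040001000040001
  X := [0x1462614154a0a219984554596609aa4a, 0xa692185859a519aa8840651219212984, 0x49016190218619866580aa8661964981]
  XY := [0x92aa59252a41a9109a0919852a149050, 0x65a4228961a292050a0844a0289a8646, 0x191611126115a8241165a41099914191]
  YX := [0x4180966681828a9460665689129884a0, 0x505851806548004a455642a241299418, 0x90929465881102591620848508581551]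
  Z := [0xaaa946498a58296aa20a2566a29541a6, 0x928668216162516a84a666a16a811500, 0x600515954682108206aa15294204a8a4]
  f := [[0x40001, 0x40001000000000, 0x40001000000000000000000, 0x40001000000000000000000000000000],
    [0xa120a12946561886188052192440521, 0x48821a8a844161040000610492084882, 0x842a2295842a116a594048155940a680, 0x45441891246251154544511545441891],
    [0x45421410282092914542141014100000, 0x46601691906190615901590146600000, 0x8065294a409a409a1685962aa9a05650, 0x4280814081452665a4a08140814a9a1],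
    [0x9890989609660960646661969506950, 0x658806480644940891800004940, 0x2258089000080890225426882a2, 0x46461105544811050000110554489a82]]
  T₂ := 0x120111121100111002110101220212210200221202121011121221102102211
  T₂' := 0
  T₃ := 0x2001120011001200221222000001220121122012221100212200211122220120
  T₃' := 0
  ex := []
  w := [(1, 0), (2, 3)]
  ws := [0xa120a12946561886188052192440521, 0x4280428042804280428081408140814]
  φ := 2068
  j₀ := 1
  P := 0x81022a0229824982a9222a1102051005
  Q := 0x995660a96909905048a0a619195a8609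
  tree := [(0, 0, 0), (0, 0, 0), (0, 0, 1), (0, 0, 2), (0, 2, 0), (0, 2, 1), (0, 3, 2), (1, 2, 0)]

theorem cSp3_2222_0 : cSp3_2222.ok₀ (arP 3) = true := by decide +kernel

theorem cSp3_2222_1 : cSp3_2222.ok₁ (arP 3) = true := by decide +kernel

theorem cSp3_2222_2 : cSp3_2222.ok₂ (arP 3) = true := by decide +kernel

theorem cSp3_2222_3 : cSp3_2222.ok₃ (arP 3) false = true := by
  delta Cert.ok₃
  rewrite [search_eq]
  decide +kernel

theorem cSp3_2222_4 : cSp3_2222.ok₄ (arP 3) = true := by decide +kernel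

theorem cSp3_2222_5 : cSp3_2222.okB (arP 3) 17476 0x20004000020004000020004000020004 (fun _ => 2) (fun _ => gSp 3)
    [[0x1696665a4496120a58518910026a9156, 0x1462614154a0a219984554596609aa4a, 0x92821462512654a0a8a6984555856609, 0x20004000020004000020004000020004],
    [0x849095266a9a85159a425a1826018624, 0xa692185859a519aa8840651219212984, 0x24a4a692265559a59a21884016481921, 0x20004000020004000020004000020004],
    [0x506529a8826255652aaa100405144a29, 0x49016190218619866580aa8661964981, 0x92604901264921865549658086426196, 0x20004000020004000020004000020004]] = true := by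
  decide +kernel

end Cfsg.Agent.SB.Idem
end

-- part: SB/Idem/CO
section
/-!
# S5765, classical rows: certificates for orthogonal groups (helper96; generated by notes/SB/idem/out.py)
-/

set_option autoImplicit false

namespace Cfsg.Agent.SB.Idem

/-- the certificate for O3_34 -/
def cO3_34 : Cert where
  n := 7
  t := 2
  bl := 5440
  one := 0x1000100010001000100010001
  X := [0x28524a5264616154945022240, 0x9a1098260a186065286486a, 0x15426002a8a2986aa19020540]
  XY := [0x18aa012200845a46922692966, 0x604406a505920648915a9a44, 0x4a26629695695a4894924a90]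
  YX := [0x18968220aaa552881aa405811, 0x26242291a6904429a6250a284, 0x2500800520965458a2518a64]
  Z := [0x2a82149aa29684928a8100051, 0x24580621251a08056461a18a6, 0x250642025aa5a925661646a1a]
  f := [[0x100010001, 0x1000100010001000000000000],
    [0x1a8a480514a281a6080001581, 0x545940a08515259140012a40],
    [0x2589985a2a50565a469182a44, 0x2a4644a525a089a5996251589],
    [0x1a240001109185652218a2804, 0x518100200625a9a212461409]]
  T₂ := 0x2200210000000000000000
  T₂' := 0
  T₃ := 0x2000020000000000020022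
  T₃' := 0
  ex := []
  w := [(2, 0), (1, 0), (0, 1), (2, 0)]
  ws := [0x2589985a2a50565a469182a44, 0x2048111888950290846104000, 0x2040110088050010806100000, 0x1890918189062424600000000]
  φ := 6288
  j₀ := 2
  P := 0x152142098610a0610a4581400
  Q := 0x298259089495028a020899184
  tree := [(0, 0, 0), (0, 0, 0), (0, 3, 0), (1, 2, 0), (1, 3, 0), (2, 1, 0), (2, 2, 0)]

theorem cO3_34_0 : cO3_34.ok₀ (arP 3) = true := by decide +kernel

theorem cO3_34_1 : cO3_34.ok₁ (arP 3) = true := by decide +kernel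

theorem cO3_34_2 : cO3_34.ok₂ (arP 3) = true := by decide +kernel

theorem cO3_34_3 : cO3_34.ok₃ (arP 3) false = true := by decide +kernel

theorem cO3_34_4 : cO3_34.ok₄ (arP 3) = true := by decide +kernel

theorem cO3_34_5 : cO3_34.okO (arP 3) 14628 0x100010000000040001 (fun c => cond (Nat.beq c 0) 3 4) (fun b => gO ((fun c => cond (Nat.beq c 0) 3 4) b))
    [[0x26168550a4266854101562240, 0x28524a5264616154945022240, 0x28524a500005252240, 0x9054a284052028000994a645],
    [0xa012282088545aa6906a856, 0x9a1098260a186065286486a, 0x9a1098000819486a, 0x819412500000a20495182821],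
    [0x16286a952a149840a00822250, 0x15426002a8a2986aa19020540, 0x15426000000aa84540, 0x100a8940120064000040681]] = true := by
  decide +kernel

/-- the certificate for O3_333 -/
def cO3_333 : Cert where
  n := 9
  t := 3
  bl := 173376
  one := 0x10000100001000010000100001000010000100001
  X := [0x10605a022685619048541184968826a4541809826, 0x14a0a9185aa91009418604a169886528a19a4a909, 0x1aa62911646581a11419aa66490508296a86265a]
  XY := [0x60294694066a068191901aa2450128a94192254a, 0x208002810908a0598a989154222208a9696055241, 0x2a25a0642245802698281a25954084559022164a2]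
  YX := [0x2186219228aaa2a045404a48a4164641610500686, 0x1a1a4602968a8598a54049612625288a125652195, 0x1aa499026426849245591a442526494910aa64a65]
  Z := [0x1a26461985a2658a1500990a10216814a61829218, 0x1109160910a4204a1500515951229616855409549, 0x865092298594828119968819519640a861a15154]
  f := [[0x10000100001, 0x10000100001000000000000000, 0x10000100001000000000000000000000000000000],
    [0x264a1a8a2944a1819a061455a866066824a299852, 0x1984418115984400888908aa500568020088a0554, 0x1001a58401001a40a9400000059491a518968625a],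
    [0x1814a154520a8a5696516522a8a19254415146621, 0x181929626a041a1295a2aa15192211445a4496912, 0x2812664946116a989400000848605044646826001],
    [0x119aa196018011509a98011509a88259299985999, 0x22a48a044042566598481a925a50a8824aa882a15, 0x108195658211984899280458a9049504988888852]]
  T₂ := 0x1110000012000000102021102120000000001220121
  T₂' := 0
  T₃ := 0x1120220001000000110011002210000002100000222
  T₃' := 0
  ex := []
  w := [(0, 1), (1, 0), (2, 2), (0, 1)]
  ws := [0x10000100001000000000000000, 0x819a061455a8640000000000000, 0x6494591a0009480000000000000, 0x9000180009000000000000000]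
  φ := 576
  j₀ := 3
  P := 0x2044012912086090956448aa18146628061509064
  Q := 0x20486054a298554686a02808a6a20a1a5681aa691
  tree := [(0, 0, 0), (0, 1, 1), (0, 2, 0), (0, 2, 1), (0, 3, 0), (0, 3, 1), (1, 0, 0), (1, 2, 0), (1, 3, 0)]

theorem cO3_333_0 : cO3_333.ok₀ (arP 3) = true := by decide +kernel

theorem cO3_333_1 : cO3_333.ok₁ (arP 3) = true := by decide +kernel

theorem cO3_333_2 : cO3_333.ok₂ (arP 3) = true := by decide +kernel

theorem cO3_333_3 : cO3_333.ok₃ (arP 3) false = true := by decide +kernel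

theorem cO3_333_4 : cO3_333.ok₄ (arP 3) = true := by decide +kernel

theorem cO3_333_5 : cO3_333.okO (arP 3) 149796 0x400001000000000400001000000000400001 (fun _ => 3) (fun b => gO ((fun _ => 3) b))
    [[0x1a9442941800a54414a15602429029aa608455482, 0x10605a022685619048541184968826a4541809826, 0x41816856100002412149688000009a909826, 0x9111841229928048a62801201861446150020a91],
    [0x1a008585682a629925a94990051050a8918aa8a85, 0x14a0a9185aa91009418604a169886528a19a4a909, 0x5282aa910000002506169880000194a0a909, 0xa609809a9125280aa958842954464805184a5485],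
    [0x204a25251895696a26214a958a612895990a4626, 0x1aa62911646581a11419aa66490508296a86265a, 0x6a9a46580000068456649000001420a265a, 0x108248902542a08984480462154148a04a891895]] = true := by
  decide +kernel

/-- the certificate for O3_3333 -/
def cO3_3333 : Cert where
  n := 12
  t := 4
  bl := 16688448
  one := 0x400000100000040000010000004000001000000400000100000040000010000004000001
  X := [0x94841a49246561a2a89680854048a498126a2014428a1520619251858988a092018a8a14, 0x891165224040a98a18642a809212048290512822124119262a1089692a28644a52a2a945, 0xa15589505a81126409502585951682955a90960206845894a160888645964495a44108a]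
  XY := [0x82005545a900a48a65040449404104a4686604a564242a69a4140688556aa500060a9440, 0x4999aa696060892501a925912a4a424a4aa9489140504461462a99aa4081291949a98545, 0x8556448191101a66606546a415602096012254819a81a095219465905225528aaa05598a]
  YX := [0xaa00491661a422a4114a46690481192651409444801a219041559145968896298a66600, 0xaa611249aa4698054258a16522414490200618462494040a19684640210a9682a246441, 0x6800980904622162892a0925880599516299548662259815a9289012445a18844a80a0aa]
  Z := [0xa90084819612915621910002695a699a868000991968184522098219195140569562921a, 0x2a5261289899262285224240844185842062a5614244a598269686949926681441a11185, 0x98868408961560a422409a21858a165460289210a401566169aa04124682a46960680111]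
  f := [[0x10000004000001, 0x400000100000040000000000000000000, 0x10000004000001000000000000000000000000000000000000000, 0x400000100000040000000000000000000000000000000000000000000000000000000000],
    [0x4601169888666444998985552146860000001240a5894881898555554188984292558a50, 0x21146448265948265900000011209a690a818419a6581a26a5211a960542690a818515a4, 0x8912112689859969408912119969402991a969aaa4860a2946212240190a105a62a09896, 0x5218a415948a8a68998a689964a062a9449500000064a0625a682194a01a2a6845459466],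
    [0x2925220015601605a10000001605a190169459125a59248a892656002a90a621a51605a1, 0xa99216a1a41a166585a992165661296996a2299a4a482660082a089a4255525825566129, 0x2696084642a86915a564406248142541a96191551605954262aa284642aa825694962a5, 0xaa129aaa129a540442012926a25826a25826a045190a9981540442a16200529100596a81],
    [0x459a225064a425664a68aa451920a969545124896268aa45459a2246440aa222401a9985, 0x440a02540426a2885a06804106804100000020061864011a068041440a028805015a8464, 0x209448aa4144652a48aa414a5a1984558281506486055a02906085a5264455828000000, 0x84619aa120512982861421654a22495160861641490000009aa2142a62a250809a9aa214]]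
  T₂ := 0x2212002220021101122002210201020010212111022120200011102102220222
  T₂' := 0
  T₃ := 0x1012121102121102201200202120010201011000112102111012111122202101
  T₃' := 0
  ex := []
  w := [(0, 0), (1, 1), (0, 2), (3, 1)]
  ws := [0x10000004000001, 0x960542690a818515a4, 0x20000010000011000, 0x94082068041068041]
  φ := 0x68041
  j₀ := 0
  P := 0x2182801a1a4004a28418804016600002050010490108554110a040a666a0510150a86a9
  Q := 0x91158020a914045251481814a099a86444004840000061801454285000141028142865a6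
  tree := [(0, 0, 0), (0, 1, 0), (0, 1, 1), (0, 1, 2), (0, 2, 0), (0, 2, 1), (0, 2, 2), (0, 3, 0), (0, 3, 1), (1, 0, 0), (1, 0, 1), (1, 0, 2)]

theorem cO3_3333_0 : cO3_3333.ok₀ (arP 3) = true := by decide +kernel

theorem cO3_3333_1 : cO3_3333.ok₁ (arP 3) = true := by decide +kernel

theorem cO3_3333_2 : cO3_3333.ok₂ (arP 3) = true := by decide +kernel

theorem cO3_3333_3 : cO3_3333.ok₃ (arP 3) false = true := by
  delta Cert.ok₃
  rewrite [search_eq]
  decide +kernel

theorem cO3_3333_4 : cO3_3333.ok₄ (arP 3) = true := by decide +kernel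

theorem cO3_3333_5 : cO3_3333.okO (arP 3) 9586980 0x400000040000000000010000001000000000000400000040000000000010000001 (fun _ => 3) (fun b => gO ((fun _ => 3) b))
    [[0x96626a4918886122121602528a40aa28154450852208219a1a946068a241996021912844, 0x94841a49246561a2a89680854048a498126a2014428a1520619251858988a092018a8a14, 0x94841a61a2a800000096808598126a0000002014426192510000008589888a8a14, 0x15a504414a5259a64886681840a28a9180066518045404a990665944040284191220189],
    [0x89a1162a48aa8908a464a1921820064259620a022a4a89295210858416244841a1401a49, 0x891165224040a98a18642a809212048290512822124119262a1089692a28644a52a2a945, 0x891165a98a18000000642a808290510000002822122a1089000000692a28a2a945, 0x162a980aaa549550565854a51804a25a10645282a450089069656aa956466a2842064055],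
    [0x22416515620891aaa59554800055144858615411585a518465621661a814a2a2aa00111a, 0xa15589505a81126409502585951682955a90960206845894a160888645964495a44108a, 0xa15581126400000009502582955a90000000960204a160800000088645944108a, 0x12a40002110104824250499544284260544881601426045209a245020a080218a2264185]] = true := by
  decide +kernel

/-- the certificate for O2_44 -/
def cO2_44 : Cert where
  n := 8
  t := 2
  bl := 21760
  one := 0x40001000040001000040001000040001
  X := [0x4550150044001410400111144150100, 0x15111151015554510141141051545004, 0x41055555404004141455550545154001]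
  XY := [0x15544100001405140155011401045451, 0x4055010405055415040401014015145, 0x40015000005551445514451155500555]
  YX := [0x14401400514515540441140155404110, 0x40104545145044110405501455554515, 0x4044544541550404040444551540414]
  Z := [0x1004004144101500110410001050550, 0x404150415550105151400040500401, 0x5414451544540051410444540045540]
  f := [[0x40001000040001, 0x40001000040001000000000000000000],
    [0x5010115441004040000040044100, 0x40004010155440004000001040004101],
    [0x40000014141440145150000000145144, 0x1014101441145110001000105145],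
    [0x51450444145444155501145445115041, 0x11451444105445155541144445155040]]
  T₂ := 0
  T₂' := 0
  T₃ := 0
  T₃' := 0
  ex := [(3789874404, [(0, 0), (1, 0), (3, 0), (2, 0), (3, 0)], [0x40001000040001, 0x4040000040044100, 0x444000014541550, 0x4550000045440544, 0x4051000011144051], [0x40001000040001, 0x4040000040044100, 0x4404000054505450, 0x5400000005500550, 0x1555000014441444]),
    (3840009444, [(0, 0), (1, 0), (2, 0), (3, 0), (2, 0)], [0x40001000040001, 0x4040000040044100, 0x1150000040140014, 0x104000000005145, 0x4000000000000000], [0x40001000040001, 0x4040000040044100, 0x5110000000104114, 0x540000014544415, 0x10000051104151]),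
    (3789677796, [(0, 0), (1, 0), (2, 0), (3, 0), (2, 0)], [0x40001000040001, 0x4040000040044100, 0x1150000040140014, 0x104000000005145, 0x4000000000000000], [0x40001000040001, 0x4040000040044100, 0x5110000000104114, 0x5450000014440501, 0x5100000051000045]),
    (3840205284, [(0, 0), (1, 0), (2, 0), (3, 0), (1, 0)], [0x40001000040001, 0x4040000040044100, 0x1150000040140014, 0x104000000005145, 0x104000000005054], [0x40001000040001, 0x4000001040004101, 0x4000000040005150, 0x5145000051455041, 0x111000001110111]),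
    (3789873636, [(0, 0), (1, 0), (2, 0), (3, 0), (1, 0)], [0x40001000040001, 0x4040000040044100, 0x1150000040140014, 0x104000000005145, 0x104000000005054], [0x40001000040001, 0x4000001040004101, 0x4000000040005150, 0x1145000011450111, 0x4111000041110111]),
    (3840008676, [(0, 0), (1, 0), (2, 0), (3, 0), (1, 0)], [0x40001000040001, 0x4040000040044100, 0x1150000040140014, 0x104000000005145, 0x104000000005054], [0x40001000040001, 0x4000001040004101, 0x1000001051, 0x145400001550, 0x555400005554]),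
    (3789677028, [(0, 0), (1, 0), (2, 0), (3, 0), (1, 0)], [0x40001000040001, 0x4040000040044100, 0x1150000040140014, 0x104000000005145, 0x104000000005054], [0x40001000040001, 0x4000001040004101, 0x1000001051, 0x144400000501, 0x554400001455]),
    (3840206049, [(0, 0), (1, 0), (0, 0), (2, 0), (3, 0)], [0x40001000040001, 0x4040000040044100, 0x40000000040000, 0x5150000000140000, 0x5041000051450000], [0x40001000040001000000000000000000, 0x5010115441000000000000000000, 0x5000110041000000000000000000, 0x4014400000140000000000000000, 0x514551450000000000000000]),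
    (3789874401, [(0, 0), (1, 0), (0, 0), (2, 0), (3, 0)], [0x40001000040001, 0x4040000040044100, 0x40000000040000, 0x5150000000140000, 0x5041000051450000], [0x40001000040001000000000000000000, 0x5010115441000000000000000000, 0x5000110041000000000000000000, 0x4014400000140000000000000000, 0x4014114551510000000000000000]),
    (3840009441, [(0, 0), (1, 0), (0, 0), (2, 0), (3, 0)], [0x40001000040001, 0x4040000040044100, 0x40000000040000, 0x5150000000140000, 0x5041000051450000], [0x40001000040001000000000000000000, 0x5010115441000000000000000000, 0x5000110041000000000000000000, 0x1014510041140000000000000000, 0x5501111444150000000000000000]),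
    (3789677793, [(0, 0), (1, 0), (0, 0), (2, 0), (3, 0)], [0x40001000040001, 0x4040000040044100, 0x40000000040000, 0x5150000000140000, 0x5041000051450000], [0x40001000040001000000000000000000, 0x5010115441000000000000000000, 0x5000110041000000000000000000, 0x1014510041140000000000000000, 0x4515401405010000000000000000]),
    (3840205281, [(0, 0), (1, 0), (0, 0), (2, 0), (3, 0)], [0x40001000040001, 0x4040000040044100, 0x40000000040000, 0x5150000000140000, 0x5041000051450000], [0x40001000040001000000000000000000, 0x40004010155440000000000000000000, 0x40004000150040000000000000000000, 0x40004000541440000000000000000000, 0x51455145101051450000000000000000]),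
    (3789873633, [(0, 0), (1, 0), (0, 0), (2, 0), (3, 0)], [0x40001000040001, 0x4040000040044100, 0x40000000040000, 0x5150000000140000, 0x5041000051450000], [0x40001000040001000000000000000000, 0x40004010155440000000000000000000, 0x40004000150040000000000000000000, 0x40004000541440000000000000000000, 0x11451145440411450000000000000000]),
    (3840008673, [(0, 0), (1, 0), (0, 0), (2, 0), (3, 0)], [0x40001000040001, 0x4040000040044100, 0x40000000040000, 0x5150000000140000, 0x5041000051450000], [0x40001000040001000000000000000000, 0x40004010155440000000000000000000, 0x40004000150040000000000000000000, 0x411400000000000000000000, 0x441500000000000000000000]),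
    (3789677025, [(0, 0), (1, 0), (0, 0), (2, 0), (3, 0)], [0x40001000040001, 0x4040000040044100, 0x40000000040000, 0x5150000000140000, 0x5041000051450000], [0x40001000040001000000000000000000, 0x40004010155440000000000000000000, 0x40004000150040000000000000000000, 0x411400000000000000000000, 0x50100000000000000000000])]
  w := [(2, 0), (1, 0), (2, 0), (3, 0)]
  ws := [0x40000014141440145150000000145144, 0x4004014040045150000040041154, 0x4014114440145150000040141144, 0x504100005041000000005041]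
  φ := 20545
  j₀ := 0
  P := 0x1000040105111405555044055405105
  Q := 0x11145100101040001000005145444551
  tree := [(0, 0, 0), (0, 0, 0), (0, 1, 0), (1, 3, 0), (2, 3, 0), (3, 0, 0), (3, 1, 0), (4, 0, 0)]

theorem cO2_44_0 : cO2_44.ok₀ (arP 2) = true := by decide +kernel

theorem cO2_44_1 : cO2_44.ok₁ (arP 2) = true := by decide +kernel

theorem cO2_44_2 : cO2_44.ok₂ (arP 2) = true := by decide +kernel

theorem cO2_44_3 : cO2_44.ok₃ (arP 2) false = true := by decide +kernel

theorem cO2_44_4 : cO2_44.ok₄ (arP 2) = true := by decide +kernel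

theorem cO2_44_5 : cO2_44.okO (arP 2) 58596 0x400010000000000000400010 (fun _ => 4) (fun b => gO ((fun _ => 4) b))
    [[0x40010444411115500501440044114, 0x4550150044001410400111144150100, 0x45501500000000004001111, 0x4000000005510410505040004000550],
    [0x1055115411054441544551404055540, 0x15111151015554510141141051545004, 0x151111510000000001411410, 0x4000400115114500501050100400440],
    [0x54151050115450141440114451545055, 0x41055555404004141455550545154001, 0x410555550000000014555505, 0x550000410014554105410041004150]] = true := by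
  decide +kernel

/-- the certificate for O3_44 -/
def cO3_44 : Cert where
  n := 8
  t := 2
  bl := 21760
  one := 0x40001000040001000040001000040001
  X := [0x28006aa62aa18140148281006aa0a558, 0x900542516a5022405180aa656950120, 0x215144a18a922881691a091009901014]
  XY := [0x9565256494a20a006492052490826191, 0x6122006589481402a6901041a18922a1, 0x91a4264a600448450520549240105656]
  YX := [0x9692905012512860024144a449510040, 0xa8a1111625119149444a26252119a561, 0x18089218228644a85510a609065aaa8]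
  Z := [0x4a5a851521449082498a4150624a420a, 0x24a920a64a5a00142aa1884a40181a5a, 0x112102a965658a8691942526006a6188]
  f := [[0x40001000040001, 0x40001000040001000000000000000000],
    [0x9195626a12581565919665410619685, 0x46268919561a40a9a666998820966948],
    [0x80a990288a6001000a86044948198a60, 0x805640144990000005890896842a4591],
    [0x55049426161555004545422600044222, 0x2a084819212aa8008a0a812900008112]]
  T₂ := 0x100000000000220012
  T₂' := 0
  T₃ := 0x200020000000000200020
  T₃' := 0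
  ex := []
  w := [(2, 1), (1, 0), (2, 0), (0, 0)]
  ws := [0x805640144990000005890896842a4591, 0x4092268500009886a5019a911855, 0x200250a00001805260a18051a05, 0xa00000005000a00050005]
  φ := 5
  j₀ := 0
  P := 0xa1805140a102802028a5655a15158045
  Q := 0xa08aa0958111a00010a05245446858a0
  tree := [(0, 0, 0), (0, 0, 0), (0, 3, 0), (1, 1, 0), (1, 3, 0), (2, 0, 0), (2, 1, 0), (2, 2, 0)]

theorem cO3_44_0 : cO3_44.ok₀ (arP 3) = true := by decide +kernel

theorem cO3_44_1 : cO3_44.ok₁ (arP 3) = true := by decide +kernel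

theorem cO3_44_2 : cO3_44.ok₂ (arP 3) = true := by decide +kernel

theorem cO3_44_3 : cO3_44.ok₃ (arP 3) false = true := by decide +kernel

theorem cO3_44_4 : cO3_44.ok₄ (arP 3) = true := by decide +kernel

theorem cO3_44_5 : cO3_44.okO (arP 3) 58596 0x400010000000000000400010 (fun _ => 4) (fun b => gO ((fun _ => 4) b))
    [[0x1226a84aa84929192989280910022480, 0x28006aa62aa18140148281006aa0a558, 0x28006aa60000000014828100, 0x28184241814128242824814142002800],
    [0x1004140494644a6908282a6615941424, 0x900542516a5022405180aa656950120, 0x90054250000000005180aa6, 0x51802180218a4a50124a94056010218],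
    [0x184082811aa848546a08645500815980, 0x215144a18a922881691a091009901014, 0x215144a100000000691a0910, 0x12a28562612648896126544809105650]] = true := by
  decide +kernel

/-- the certificate for O2_444 -/
def cO2_444 : Cert where
  n := 12
  t := 3
  bl := 11162880
  one := 0x400000100000040000010000004000001000000400000100000040000010000004000001
  X := [0x544011111411550541155051041455150011011001511015144105500500441550540144, 0x55504141400101454011154550500000505111114400550114404544401050001111, 0x1145505411104411415144015004004451001410444154404001445150115405404451]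
  XY := [0x455110550414410510051040151501155404155100454500544051115405445015141551, 0x550105155054041440544115405555504554110554104141101400140001044445401004, 0x404515515401101401514044405145154115441510541045045500050504045411410104]
  YX := [0x545011501001515140140510411145455400015415014014400155500005050405401440, 0x544455050100550155045050401511504100401455115404155414014454401450504155, 0x454440154015450115440011451555055445015144041145541104141010505510555415]
  Z := [0x44055454045455114405555151044144014555010155114105041451505405154450045, 0x41405504140550140001544140401405541551014450444140400511100105411404545, 0x504001014445515455505514051511105555154410100450154145544504150551501515]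
  f := [[0x40000010000004000001, 0x4000001000000400000100000000000000000000000000, 0x400000100000040000010000000000000000000000000000000000000000000000000000],
    [0x14050144045000441014050401105000441150015000441014411415514551110144045, 0x100001100001104405451541501041100001401040104405401040551540104405000000, 0x514051144044144044455511104144101440551455104144415411144044455511144044],
    [0x515150145010145010454100004040141050551440454100000000000000044510450140, 0x500041005415144141444100010150505454510111010150010150454050441515015545, 0x415111040405041151000000010110445404041151444150010110454040405001445404],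
    [0x505550404501054055041410155004054055450554140441404501411144445111544140, 0x515551041454141101441411154140441411041454554105015041541144054415154140, 0x410001545155155154410001005144414444411500414444411500150010411500410001]]
  T₂ := 0x11001100000110010100110000011001100000
  T₂' := 0
  T₃ := 0x1010011011000000101000001010000000000110011
  T₃' := 0
  ex := []
  w := [(3, 1), (2, 1), (1, 2)]
  ws := [0x515551041454141101441411154140441411041454554105015041541144054415154140, 0x505454154011441515010150515504010150154011451445154011505454000000515504, 0x551455551455000000000000000000551455551455551455000000000000000000]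
  φ := 0x551455
  j₀ := 0
  P := 0x544540005141504001014040150440545500450111504011110145510100001440545440
  Q := 0x415001000515011014541010404505554515401004154514155515040100511555051011
  tree := [(0, 0, 0), (0, 0, 0), (0, 0, 1), (0, 1, 0), (0, 1, 1), (0, 2, 0), (0, 2, 1), (1, 1, 0), (1, 1, 1), (1, 2, 0), (1, 2, 1), (1, 3, 0)]

theorem cO2_444_0 : cO2_444.ok₀ (arP 2) = true := by decide +kernel

theorem cO2_444_1 : cO2_444.ok₁ (arP 2) = true := by decide +kernel

theorem cO2_444_2 : cO2_444.ok₂ (arP 2) = true := by decide +kernel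

theorem cO2_444_3 : cO2_444.ok₃ (arP 2) false = true := by decide +kernel

theorem cO2_444_4 : cO2_444.ok₄ (arP 2) = true := by decide +kernel

theorem cO2_444_5 : cO2_444.okO (arP 2) 15000804 0x400000100000000000000000004000001000000000000000000040000010 (fun _ => 4) (fun b => gO ((fun _ => 4) b))
    [[0x440115551151455045151500410040114504144014040055054005515104004141555540, 0x544011111411550541155051041455150011011001511015144105500500441550540144, 0x544011111411000000000000041455150011000000000000144105500500, 0x50405005111011005544044111411144150400114100414011005105505450511544044],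
    [0x151454105540014040014140114510000405004110144451504014414445400050550401, 0x55504141400101454011154550500000505111114400550114404544401050001111, 0x55504141000000000000154550500000000000000000550114404544, 0x100550454550504141004141150411000100500000550041550114504041000000054100],
    [0x110151140004000110014004155155514414141405410110411111141511414104541045, 0x1145505411104411415144015004004451001410444154404001445150115405404451, 0x1145505411000000000000015004004451000000000000404001445150, 0x144110405144004451101410541054114414055010501040144110455440105041040014]] = true := by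
  decide +kernel

/-- the certificate for O3_444 -/
def cO3_444 : Cert where
  n := 12
  t := 3
  bl := 11162880
  one := 0x400000100000040000010000004000001000000400000100000040000010000004000001
  X := [0x420a0618046a49440812059620a5a152099824aa6422a254489229551a21026151a08849, 0x8400891405595092645986449505a6888252a2085825041108a6901a619222919886a622, 0x620a4a0a94a5602569564a45a0956a5619a4a18808645214660815892a641a8244195126]
  XY := [0x26485a2608416540099242a12159aa5648a662845516156229aa4155204424242808511, 0x99818862591a60544a6a4612455201608160a4929400905069840a4210090524415a2264, 0x1a59981805408265a08955406249a6400695a14502548608a1925516559928661118a189]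
  YX := [0x600504aa99258099514016a5899888565a99419951698606565192a99580411424a90a9a, 0x15a6948a90a441969241019a6a8545a955445a22966558268480510548649a2a55a5625a, 0x4164601688a982245118420010205155a9111648a4295a086a281816425641485aaaa61]
  Z := [0xa295aa806a9055652691525926519118496958891022549682609aaa90a2202a840a19a4, 0x6aa42a2984556225056825254695862a5a224505122999869a146a469016819a09118659, 0x260025481854698a22955000945150596285554a2566154191120065a080524524a844a5]
  f := [[0x40000010000004000001, 0x4000001000000400000100000000000000000000000000, 0x400000100000040000010000000000000000000000000000000000000000000000000000],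
    [0x5488186016a2a5a18986619209699552569998250aa1a96688961162a586a21a52162554, 0x10508020a0400006a01600a640281980114606a02606a94610591020a620a91190a08466, 0x18246480491152589664928a862a5121a82061621258aa56641052a1a469a41415495646],
    [0x882a849129252a6a219180968a95518916986068418a9551150261615455285605921509, 0x55606aa5861a56a84456a844a12200028a50a60224a818a25a40520a201854212409a195, 0x62a51199500086299a1994259488a244421429999a9950009081809488a280881a644962],
    [0x649828aa552822a400000008992608559420649828205000000000a82a0498512010862, 0x20512990145a42669850499221261111440a612291a280458199646028a55215a2, 0x498641650984a501658299642664015990a028464610196251400a44a408565240a02220]]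
  T₂ := 0x1020001001200000202001101210000001201120210
  T₂' := 0
  T₃ := 0x2110221021100000122011102000000001001220202
  T₃' := 0
  ex := []
  w := [(2, 2), (0, 0), (2, 1), (0, 0)]
  ws := [0x62a51199500086299a1994259488a244421429999a9950009081809488a280881a644962, 0x1100000000009a0000250000a200001400009a0000000000800000a200001a000062, 0x491a100000052110056a2a1a12200521100521100000000a580a1a12200a9515256a2a1, 0xa10000000000000000a10000000000000000000000000000a10000000000520000a1]
  φ := 161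
  j₀ := 0
  P := 0x1590a18059605192900010a152a9004498501a442006a960421805250100a8819a4a8565
  Q := 0x91241a24188824a569185954a51a4991a6965a824924191a858a2a24a2812a8a5a198615
  tree := [(0, 0, 0), (0, 0, 0), (0, 1, 0), (0, 1, 1), (0, 3, 0), (0, 3, 1), (1, 1, 0), (1, 1, 1), (1, 2, 0), (1, 2, 1), (1, 3, 0), (1, 3, 1)]

theorem cO3_444_0 : cO3_444.ok₀ (arP 3) = true := by decide +kernel

theorem cO3_444_1 : cO3_444.ok₁ (arP 3) = true := by decide +kernel

theorem cO3_444_2 : cO3_444.ok₂ (arP 3) = true := by decide +kernel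

theorem cO3_444_3 : cO3_444.ok₃ (arP 3) false = true := by decide +kernel

theorem cO3_444_4 : cO3_444.ok₄ (arP 3) = true := by decide +kernel

theorem cO3_444_5 : cO3_444.okO (arP 3) 15000804 0x400000100000000000000000004000001000000000000000000040000010 (fun _ => 4) (fun b => gO ((fun _ => 4) b))
    [[0x441052119a12280490862218048a86008a58956822815aa412a5052199a4692582a24055, 0x420a0618046a49440812059620a5a152099824aa6422a254489229551a21026151a08849, 0x420a0618046a00000000000020a5a1520998000000000000489229551a21, 0x292015444a00a1aaaa986a1626108545829915429215241a045429862a4286918085a5a0],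
    [0x85a802154a185261a101492a0a209a0400a61149411a60969594a8189556a5480850a122, 0x8400891405595092645986449505a6888252a2085825041108a6901a619222919886a622, 0x8400891405590000000000009505a688825200000000000008a6901a6192, 0x289291429a41822a9424aa9651268aa5458a15209455402a6554298a09490a5990a15180],
    [0x459960899a8521116aa224992189091851219668a086522965601428a162999955958042, 0x620a4a0a94a5602569564a45a0956a5619a4a18808645214660815892a641a8244195126, 0x620a4a0a94a5000000000000a0956a5619a4000000000000660815892a64, 0x101669851195618a10082014040a41a1099184916a644840909a056a2405620421a0a488]] = true := by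
  decide +kernel

/-- the certificate for O2_4444 -/
def cO2_4444 : Cert where
  n := 16
  t := 4
  bl := 4289352960
  one := 0x40000000100000000400000001000000004000000010000000040000000100000000400000001000000004000000010000000040000000100000000400000001
  X := [0x55051050004114014044515015110514050441145454541150145505151151511114004440045444111105001110455501100104541145114145515045455005, 0x45410154410450040150505051514114015004015454405510115045141044455511451010404140450011015515414515104440145454144114414040510051, 0x45010444044015151554100014041055410510140155400005554041440450150040551450105010441110045054501110100101501115051554400045415051]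
  XY := [0x41410500005110544500005114140040155450001454540514015445001010400014040001054140400445440104155411040144545044010041050054054550, 0x44514005115411544405514144405105550400140144404551441154141511554154011505410105015454411004550550041151051555451501105444154010, 0x44054011555440111454540101140150504151151050140114411450445404414141410004114151554541541444054500405540500414554544000151111441]
  YX := [0x15110441005545114050000411441441101545145451500515044510114414550450505504511100140105001454451000551014141440104540504501004014, 0x10544054154450504450141140044014551100545545545001544011044010140154454101144141550155145004155400145145451105550101104104444401, 0x11514544544150444154150011411045115410141001415051414450450514151100440051511004415055401500541450514044101141111154554044401104]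
  Z := [0x55111155110411500445110140505004115415541100415151501445445414505551401145110150055501041440010415004045510454144505141515001411, 0x50415115441501505054405155111110154411515150005405050100154541414504510115440510411145410015105145110150040540504150555510410000, 0x5151555554515501040041001401551051511504004501055505050504144450501414000100550550445115401110401040050515051404000155445550554]
  f := [[0x40000000100000000400000001, 0x400000001000000004000000010000000000000000000000000000000000, 0x4000000010000000040000000100000000000000000000000000000000000000000000000000000000000000000000, 0x40000000100000000400000001000000000000000000000000000000000000000000000000000000000000000000000000000000000000000000000000000000],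
    [0x50455044500554110515055105550104555055155510514014045410500554114154010550055411055501040555010414045410411405504401000141540105, 0x10515151105151511051515145515151005055545500000055045505550455050054005155540051555400515554005100540051555055545504550555045505, 0x50540040505454000514514105140501554051010000000005140501554051011140400150540040411414014114404100000000505454004400110000000000, 0x50400155000051401450054144105554000051400000514044100414504050155040015555054400111511541115401414505401441004145505440014505401],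
    [0x50041540401554001510454544145440151045450100044500000000510411055505114544145440510411051510454540155400401554005405150000000000, 0x1501044140414400000414001505104015051040000000014041440140455000150104450145001501411411554454414041440000041404540540500000000, 0x10554545004401011011444444510051054114515404451415145114544044154415015005411451445100510044010144510051151451145404451410554545, 0x1014041445541410101404100150515114100105514415101144554114100101040405111410010454104150000000010404051550144444541041510554544],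
    [0x50111451100050501410400045451104100050501410400010005050440154510410105010005050415501541554055510005050041010500554550505545505, 0x100111001001110051440100100111004145104014140140141401554105514055511115145440400415100041451000000000555104400010011115145440, 0x50001510501141140505401405054014500015105150001100115404014141050444011105141410515000110444011151500011001154040000000055055504, 0x40010050500110551544441541505001400100500544541050011055100010054001005000000000500110551151405441505001515040040544541045455440]]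
  T₂ := 0x110101010010101001100000000001110011010111111001100000001101010
  T₂' := 0
  T₃ := 0x10110101111011010101111001111110011001111111001110001100011
  T₃' := 0
  ex := []
  w := [(3, 0), (0, 1), (1, 1), (0, 2)]
  ws := [0x50111451100050501410400045451104100050501410400010005050440154510410105010005050415501541554055510005050041010500554550505545505, 0x1400000050000000400000001100000050000000400000005000000054000000100000005000000001000000050000005000000010000000550000005500, 0x550000000054005100000000550000000054005155000000005400515554005155000000555400510000000055000000555400515500000055000000, 0x54000000000000000000000054000000000000005400000054000000000000005400000000000000000000005400000000000000000000]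
  φ := 0x540000
  j₀ := 9
  P := 0x5445000114510001405110111141500515501000410454150511400015104410154111150551400015405110144050010550000545515050110540000000500
  Q := 0x5440110410415000454541515540415544411040104100041000401554015111010541114541411101414111014014540104155540451404011105155504
  tree := [(0, 0, 0), (0, 0, 0), (0, 0, 1), (0, 0, 2), (0, 1, 0), (0, 1, 1), (0, 1, 2), (0, 2, 0), (1, 1, 0), (1, 1, 1), (1, 2, 2), (1, 3, 0), (1, 3, 1), (2, 1, 0), (2, 2, 1), (2, 2, 2)]

theorem cO2_4444_0 : cO2_4444.ok₀ (arP 2) = true := by decide +kernel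

theorem cO2_4444_1 : cO2_4444.ok₁ (arP 2) = true := by decide +kernel

theorem cO2_4444_2 : cO2_4444.ok₂ (arP 2) = true := by decide +kernel

theorem cO2_4444_3 : cO2_4444.ok₃ (arP 2) false = true := by
  delta Cert.ok₃
  rewrite [search_eq]
  decide +kernel

theorem cO2_4444_4 : cO2_4444.ok₄ (arP 2) = true := by decide +kernel

theorem cO2_4444_5 : cO2_4444.okO (arP 2) 3840206052 0x4000000010000000000000000000000000400000001000000000000000000000000040000000100000000000000000000000004000000010 (fun _ => 4) (fun b => gO ((fun _ => 4) b))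
    [[0x44141015411545104151001141414545141000050115455044545005510104150455111554151005111415100545055444015104455101140144514110150111, 0x55051050004114014044515015110514050441145454541150145505151151511114004440045444111105001110455501100104541145114145515045455005, 0x5505105000411401000000000000000005044114545454110000000000000000111400444004544400000000000000000110010454114511, 0x5001551000155040004050150045005000454450001550405001551100004411150150451544140545501155414445040451101400405001150444045450450],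
    [0x51104505011551504011455055404544455010110555415510100114410441011515515414040410004140504100550444151145451040115115011000550501, 0x45410154410450040150505051514114015004015454405510115045141044455511451010404140450011015515414515104440145454144114414040510051, 0x4541015441045004000000000000000001500401545440550000000000000000551145101040414000000000000000001510444014545414, 0x5114400044055101105440554041140101105444045441005500500444041515411100411004045545440551145101401411414101105440440551004011410],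
    [0x40411511050011545505040544540005141441050414155405550104405404110015510515415511500040101000405041040001114151015141441011050151, 0x45010444044015151554100014041055410510140155400005554041440450150040551450105010441110045054501110100101501115051554400045415051, 0x4501044404401515000000000000000041051014015540000000000000000000004055145010501000000000000000001010010150111505, 0x1145001014140404150005544050054141550444444105541111054115450055041140040554150000000000000000015541004051410000555000144110014]] = true := by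
  decide +kernel

/-- the certificate for O3_4444 -/
def cO3_4444 : Cert where
  n := 16
  t := 4
  bl := 4289352960
  one := 0x40000000100000000400000001000000004000000010000000040000000100000000400000001000000004000000010000000040000000100000000400000001
  X := [0x1411a2226168948492218048a8406655a6a114608a9449260a21642aa405a2012096686a96268058a9619a09094116514814242a5994951a289251680409518, 0xa4211660251a08551295251246aa845a41a2455416a641226425994522410521095812845496611290048a4a62a160248516404a85160985566a24046584095a, 0x21a952608161506a9281002a81a9065961119a619aa40012805014142126241502042a082556158981664945a95aa102268650180665a0506941a8452919a08]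
  XY := [0x112142600664691121180964165a568285529645880919455188510828991514a8645611a44496848991a9118949801090489681544a09a68a92010655598162, 0x460a596164a4a892969549008aa85884a4599545921092aa661200552615256602914498219208a44868a04a0148966a06a028600245a0496aa665a9891aa5a1, 0x954616086a009a021a149212289a285042485a9095222904128281a2012a0212a18529598501549099859a994a15194881898166a6a9a9a98958462156904494]
  YX := [0xa868458601895608a158126559011145029609151506a16598059a08921225518916a6882a05245919428501699069248022242248a4491aa42a80054a46a42, 0x255551281a46652425019162a186156a805512211445106a8025a88865a556916160666881521845696228895659219a44040a2162a0810885921011001981a, 0x4aa04500160298a992568a5606822880a496259164950599a49a8910a25005a44a885864994292216a24a491092040902625a965049aa980a5805514a6a68551]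
  Z := [0x400a2090068610468a065462a1088981622a418a94294a6a46499219a042624a442645424a6655025215026518282a499a6a0504a88812a4a80505491905222a, 0x19816159265154819a844019055606a64294a02a9aa84112a4a559a699266aa0599429580009a0246910459151a11aa8a20128215a21500a02222101a6a1924a, 0x212824695490299a224485211149a904a51a94a881011820a95499084895466aa42586089405549a4a4825026950905220609a95809982116029448044928001]
  f := [[0x40000000100000000400000001, 0x400000001000000004000000010000000000000000000000000000000000, 0x4000000010000000040000000100000000000000000000000000000000000000000000000000000000000000000000, 0x40000000100000000400000001000000000000000000000000000000000000000000000000000000000000000000000000000000000000000000000000000000],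
    [0x91802a8aa6450405aa01555686945049110988294124011429908610105258444968a08648814011509829a65810985569195442990499695810985540499162, 0x20595a9910a6a566a04a90aaa99806a9a96216658609025666449201162852201904186529aa819886901212465464a8a905262196468445a9052621a62969a8, 0x1a59401959a61a00255960a01a00209464859a5464122a96a65925069800a52442858a2a1a681098984a65a464684a1a0068200942599a2025a6802025a6802, 0x814126aa84492524aa6244049020aa100298140885a11128458a1892a0065a4965a4686529215159601055202a554951492a061008901582089015821a429924],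
    [0x4200284198614919a6840252810014824028a5810111196a81001482020996aa1a568545812564a9012889401859229a02222695a5a6252464a9660841221216, 0x26aa12654a6a125911a06808482164540a2260941a18469589206814aa89aa1190a164480a22609450658586a5a81aa5964559a205119068150aa6691955219a, 0x815061a25669484449642520019a9816629406852182004a65aa480996a4a6a86294068544284882256011959820501911a664a22846561909298a8898205019, 0x590594aaa60a68550664a08506442816569124250664a085506944608096189826645089000000008942a464a61aa4a659255859690524a6896268161998a046],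
    [0x5a9a5a68a8418450460a622006181288a858446a8910512a092421441485686109242144a84184504615220a94a19814284a9492001a801a25540508892a1105, 0x5268a16029496892644a452686a626569a652029a19452906546aa58282991a25280162a6492aaa149a142642a99068250884850a2242980166262a699698a84, 0x9186aaa8a48140a28a8815a516404165845599a1095418999a951a160045a86248aa6652588468801928659848658a205842805152a508559a1a8645aa696415, 0x54659889684906292024644610189880569020a981444a80604595900195a8168a1154294684542665161050550a449688a600002585a206962151002420062]]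
  T₂ := 0x1021010111021002022201121201220110000202222101122000211210122101
  T₂' := 0
  T₃ := 0x1112012210010202221111122121002021211020101120202102000011000201
  T₃' := 0
  ex := []
  w := [(0, 3), (1, 1), (2, 3), (1, 1)]
  ws := [0x40000000100000000400000001000000000000000000000000000000000000000000000000000000000000000000000000000000000000000000000000000000, 0x20595a9910a6a566a04a90aaa99806a9000000000000000000000000000000000000000000000000000000000000000000000000000000000000000000000000, 0x98814290644281606442816002084a2000000000000000000000000000000000000000000000000000000000000000000000000000000000000000000000000, 0x961088006920440069204400692044000000000000000000000000000000000000000000000000000000000000000000000000000000000000000000000000]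
  φ := 0x692044
  j₀ := 1
  P := 0x4402696228068151180aa885080516451608868850014990aa0006988101a65420860a18584a866410069150508418a8a0186a04a82a1a286421428844265488
  Q := 0x59665441a6008909a0a98518125900a618a2aa628282045556000868569996185999850906489621a041261209a92a885099850056a454062a41045010259a00
  tree := [(0, 0, 0), (0, 1, 0), (0, 1, 1), (0, 1, 2), (0, 2, 0), (0, 2, 1), (0, 2, 2), (0, 3, 0), (0, 3, 1), (0, 3, 2), (1, 0, 0), (1, 0, 1), (1, 0, 2), (1, 2, 0), (1, 2, 1), (1, 2, 2)]

theorem cO3_4444_0 : cO3_4444.ok₀ (arP 3) = true := by decide +kernel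

theorem cO3_4444_1 : cO3_4444.ok₁ (arP 3) = true := by decide +kernel

theorem cO3_4444_2 : cO3_4444.ok₂ (arP 3) = true := by decide +kernel

theorem cO3_4444_3 : cO3_4444.ok₃ (arP 3) false = true := by
  delta Cert.ok₃
  rewrite [search_eq]
  decide +kernel

theorem cO3_4444_4 : cO3_4444.ok₄ (arP 3) = true := by decide +kernel

theorem cO3_4444_5 : cO3_4444.okO (arP 3) 3840206052 0x4000000010000000000000000000000000400000001000000000000000000000000040000000100000000000000000000000004000000010 (fun _ => 4) (fun b => gO ((fun _ => 4) b))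
    [[0x6462a2a204a61681aa228506682981842691aa918a8251011a0852868986854201150524445a509a9166825924a85951164895082120a152540510681a89198, 0x1411a2226168948492218048a8406655a6a114608a9449260a21642aa405a2012096686a96268058a9619a09094116514814242a5994951a289251680409518, 0x1411a222616894800000000000000005a6a114608a94492000000000000000012096686a9626805000000000000000014814242a5994951, 0x24659002429994a10105814028066412901815666080a6569a811985a918205656100a41a199099222a4911a0898480a18a690011262280900aa055161599588],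
    [0x814419a5a41a1606511490551a6242590aa1620696a852582614945966a521a8025819404804620865490826845598115144846195621201124449961a252892, 0xa4211660251a08551295251246aa845a41a2455416a641226425994522410521095812845496611290048a4a62a160248516404a85160985566a24046584095a, 0xa4211660251a0855000000000000000041a2455416a641220000000000000000095812845496611200000000000000008516404a85160985, 0x821190405514454a1a68aa9088a088425144410648a246909112861a5288225248111a18014819a65a44251840184a42528592624956949a6121212082a9844],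
    [0xa8169210a5845812a680a048492228a0020125a596195a59a241594a26619218211565255422a955080066a5046926a018598088280950051402416a9950050, 0x21a952608161506a9281002a81a9065961119a619aa40012805014142126241502042a082556158981664945a95aa102268650180665a0506941a8452919a08, 0x21a9526081615060000000000000000961119a619aa40010000000000000000502042a08255615800000000000000002268650180665a05, 0x155128501a946614224016584486496921812a1948a201099914486a02801502208215981904a26220851515842a85669468a0916629a058a0862a2a9849984]] = true := by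
  decide +kernel

end Cfsg.Agent.SB.Idem
end

-- part: SB/Idem/Orth
section
/-!
# S5765, classical rows: standard bases of orthogonal blocks (helper96)
-/

set_option autoImplicit false

namespace Cfsg.Agent.SB.Idem

open Cfsg.Agent.DS.Cl Cfsg.Agent.DS.Cl.Fwd Module

variable {K V : Type} [Field K] [Finite K] [AddCommGroup V] [Module K V] [Finite V] {h : HF K V} {F : FR h.EB}
  {Q : QuadraticForm K V}

theorem ob_mk (hO : Cl.IsO h F Q) {κ : K} (hκ : κ ≠ 0) {E : End K V} {d : ℕ} (hd : d = 4 ∨ (d = 3 ∧ (2 : K) ≠ 0))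
    {v : ℕ → V} (h1 : ∀ r < d, E (v r) = v r) (h2 : finrank K (LinearMap.range E) = d)
    (h3 : ∀ r < d, Q (v r) = κ * gO d r r) (h4 : ∀ r < d, ∀ s < r, h.b (v r) (v s) = κ * (gO d r s + gO d s r)) :
    OB h Q κ E d v := by
  have h5 : ∀ r < d, ∀ s < d, h.b (v r) (v s) = κ * (gO d r s + gO d s r) := fun r hr s hs => by
    rcases lt_trichotomy s r with h5 | rfl | h5
    · exact h4 r hr s h5
    · rw [hO.2.1, QuadraticMap.polar_self, h3 s hs, two_smul, mul_add]
    · rw [hO.2.1, QuadraticMap.polar_comm, ← hO.2.1, h4 s hs r h5, add_comm]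
  refine ⟨⟨h1, ?_, h2⟩, h3, fun r hr s hs _ => h5 r hr s hs⟩
  rcases hd with rfl | ⟨rfl, h6⟩
  · refine li_of_mono h (fun r => (r + 2) % 4) (fun r hr => ?_) fun r hr s hs hne => ?_
    · rw [h5 r hr _ (Nat.mod_lt _ (by norm_num))]
      interval_cases r <;> simpa only [gO, Nat.beq, _root_.Bool.and_false, _root_.Bool.and_true, _root_.Bool.or_self, _root_.cond_false, _root_.Bool.and_self, _root_.Bool.or_false, _root_.cond_true, _root_.Nat.cast_one, _root_.Bool.cond_self, _root_.Nat.cast_zero, _root_.add_zero, _root_.mul_one, _root_.ne_eq, _root_.Bool.or_true, _root_.zero_add] using hκ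
    · rw [h5 s hs _ (Nat.mod_lt _ (by norm_num))]
      interval_cases r <;> interval_cases s <;> first | exact absurd rfl hne | simp [gO, Nat.beq]
  · refine li_of_mono h (fun r => (3 - r) % 3) (fun r hr => ?_) fun r hr s hs hne => ?_
    · rw [h5 r hr _ (Nat.mod_lt _ (by norm_num))]
      interval_cases r
      · simpa only [gO, Nat.beq, hκ, one_add_one_eq_two, _root_.tsub_zero, _root_.Nat.mod_self, _root_.Nat.beq_refl, _root_.Bool.and_self, _root_.Bool.or_false, _root_.cond_true, _root_.Bool.and_false, _root_.Bool.or_self, _root_.cond_false, _root_.Nat.cast_one, _root_.ne_eq, _root_.mul_eq_zero, _root_.false_or] using h6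
      · simpa only [gO, Nat.beq, _root_.Nat.add_one_sub_one, _root_.Nat.mod_succ, _root_.Bool.and_self, _root_.Nat.beq_refl, _root_.Bool.or_true, _root_.cond_true, _root_.Bool.and_true, _root_.Bool.and_false, _root_.Bool.or_self, _root_.cond_false, _root_.Nat.cast_one, _root_.Bool.cond_self, _root_.Nat.cast_zero, _root_.add_zero, _root_.mul_one, _root_.ne_eq] using hκ
      · simpa only [gO, Nat.beq, _root_.Nat.reduceSub, _root_.Nat.one_mod, _root_.Bool.and_self, _root_.Bool.or_self, _root_.cond_false, _root_.Bool.cond_self, _root_.Nat.cast_zero, _root_.Nat.beq_refl, _root_.Bool.or_true, _root_.cond_true, _root_.Bool.and_true, _root_.Bool.and_false, _root_.Nat.cast_one, _root_.zero_add, _root_.mul_one, _root_.ne_eq] using hκ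
    · rw [h5 s hs _ (Nat.mod_lt _ (by norm_num))]
      interval_cases r <;> interval_cases s <;> first | exact absurd rfl hne | simp [gO, Nat.beq]

theorem block_o4 (hO : Cl.IsO h F Q) {κ : K} (hκ : κ ≠ 0) {e : h.EB} (he : e * e = e) (hs : star e = e)
    (hr : Cl.rk h e = 4) {W : Submodule K V} (hW : W ≤ LinearMap.range (h.ap e)) (hW2 : finrank K W = 2)
    (hQ : ∀ w ∈ W, Q w = 0) : ∃ v, OB h Q κ (h.ap e) 4 v := by
  have : Module.Finite K V := Module.Finite.of_finite
  have hb := hO.2.1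
  have hτ := hO.1
  let c := Module.finBasisOfFinrankEq K W hW2
  have h1 : ∀ i : Fin 2, ∃ y, h.ap e y = y ∧ ∀ j, h.b (c j) y = if j = i then 1 else 0 := fun i => by
    obtain ⟨g, hg⟩ := LinearMap.exists_extend (c.coord i)
    obtain ⟨w, hw⟩ := h.exists_rep g
    refine ⟨h.ap e w, by rw [← h.ap_mul, he], fun j => ?_⟩
    rw [← b_idem h hs, idem_of_mem h he (hW (c j).2), hw]
    have h2 := LinearMap.congr_fun hg (c j)
    rw [Basis.coord_apply, Basis.repr_self, Finsupp.single_apply] at h2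
    exact h2
  choose y hy hy' using h1
  have h2 : ∀ u, ∀ w ∈ W, Q (u + w) = Q u + h.b w u := fun u w hw => by
    rw [hb, QuadraticMap.polar, hQ w hw, add_comm w u]
    ring
  have h3 : ∀ w ∈ W, ∀ w' ∈ W, h.b w w' = 0 := fun w hw w' hw' => by
    have h3 := h2 w' w hw
    rw [hQ _ (W.add_mem hw' hw), hQ _ hw', zero_add] at h3
    exact h3.symm
  have hsym : ∀ u v, h.b u v = h.b v u := fun u v => by rw [hb, hb, QuadraticMap.polar_comm]
  obtain ⟨y₀, hy₀⟩ : ∃ y₀, y₀ = y 0 + (-Q (y 0)) • (c 0 : V) := ⟨_, rfl⟩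
  obtain ⟨y₁, hy₁⟩ : ∃ y₁, y₁ = y 1 + ((-h.b (y 1) y₀) • (c 0 : V) + (-Q (y 1)) • (c 1 : V)) := ⟨_, rfl⟩
  have a0 : ∀ j, h.b (c j) y₀ = if j = 0 then 1 else 0 := fun j => by
    rw [hy₀, h.add_right, hy', h3 _ (c j).2 _ (W.smul_mem _ (c 0).2), add_zero]
  have a1 : ∀ j, h.b (c j) y₁ = if j = 1 then 1 else 0 := fun j => by
    rw [hy₁, h.add_right, hy', h3 _ (c j).2 _ (W.add_mem (W.smul_mem _ (c 0).2) (W.smul_mem _ (c 1).2)), add_zero]
  have a2 : Q y₀ = 0 := by
    rw [hy₀, h2 _ _ (W.smul_mem _ (c 0).2), h.smul_left, hy']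
    simp
  have a3 : Q y₁ = 0 := by
    rw [hy₁, h2 _ _ (W.add_mem (W.smul_mem _ (c 0).2) (W.smul_mem _ (c 1).2)), h.add_left, h.smul_left, h.smul_left,
      hy', hy']
    simp
  have a4 : h.b y₁ y₀ = 0 := by
    rw [hy₁, h.add_left, h.add_left, h.smul_left, h.smul_left, a0, a0]
    simp
  have a5 : ∀ j, h.ap e (c j) = c j := fun j => idem_of_mem h he (hW (c j).2)
  refine ⟨fun r => [κ • (c 0 : V), κ • (c 1 : V), y₀, y₁].getD r 0, ob_mk hO hκ (Or.inl rfl) (fun r hr => ?_) hr
    (fun r hr => ?_) fun r hr s hs => ?_⟩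
  · interval_cases r
    · exact (map_smul _ _ _).trans (by rw [a5]; rfl)
    · exact (map_smul _ _ _).trans (by rw [a5]; rfl)
    · change h.ap e y₀ = y₀
      rw [hy₀, map_add, map_smul, hy, a5]
    · change h.ap e y₁ = y₁
      rw [hy₁, map_add, map_add, map_smul, map_smul, hy, a5, a5]
  · interval_cases r
    · simp only [gO, Nat.beq, hQ _ (W.smul_mem κ (c 0).2), _root_.Fin.isValue, _root_.List.getD_eq_getElem?_getD, _root_.List.length_cons, _root_.List.length_nil, _root_.zero_add, _root_.Nat.reduceAdd, _root_.Nat.ofNat_pos, _root_.getElem?_pos, _root_.List.getElem_cons_zero, _root_.Option.getD_some, _root_.Bool.and_self, _root_.Bool.or_false, _root_.cond_true, _root_.Bool.and_false, _root_.Bool.or_self, _root_.cond_false, _root_.Nat.cast_zero, _root_.MulZeroClass.mul_zero]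
    · simp only [gO, Nat.beq, hQ _ (W.smul_mem κ (c 1).2), _root_.Fin.isValue, _root_.List.getD_eq_getElem?_getD, _root_.List.length_cons, _root_.List.length_nil, _root_.zero_add, _root_.Nat.reduceAdd, _root_.Nat.one_lt_ofNat, _root_.getElem?_pos, _root_.List.getElem_cons_succ, _root_.List.getElem_cons_zero, _root_.Option.getD_some, _root_.Bool.and_self, _root_.Bool.and_false, _root_.Bool.or_self, _root_.cond_false, _root_.Bool.cond_self, _root_.Nat.cast_zero, _root_.MulZeroClass.mul_zero]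
    · simp only [gO, Nat.beq, a2, _root_.Fin.isValue, _root_.List.getD_eq_getElem?_getD, _root_.List.length_cons, _root_.List.length_nil, _root_.zero_add, _root_.Nat.reduceAdd, _root_.Nat.reduceLT, _root_.getElem?_pos, _root_.List.getElem_cons_succ, _root_.List.getElem_cons_zero, _root_.Option.getD_some, _root_.Bool.and_self, _root_.Bool.and_true, _root_.Bool.or_self, _root_.cond_false, _root_.Bool.cond_self, _root_.Nat.cast_zero, _root_.MulZeroClass.mul_zero]
    · simp [gO, Nat.beq, a3]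
  · interval_cases r <;> interval_cases s
    · simp only [gO, Nat.beq, h3 _ (W.smul_mem κ (c 1).2) _ (W.smul_mem κ (c 0).2), _root_.Fin.isValue, _root_.List.getD_eq_getElem?_getD, _root_.List.length_cons, _root_.List.length_nil, _root_.zero_add, _root_.Nat.reduceAdd, _root_.Nat.one_lt_ofNat, _root_.getElem?_pos, _root_.List.getElem_cons_succ, _root_.List.getElem_cons_zero, _root_.Option.getD_some, _root_.Nat.ofNat_pos, _root_.Bool.and_true, _root_.Bool.and_false, _root_.Bool.or_self, _root_.cond_false, _root_.Bool.and_self, _root_.Bool.cond_self, _root_.Nat.cast_zero, _root_.add_zero, _root_.MulZeroClass.mul_zero]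
    · simp only [gO, Nat.beq, hsym y₀, h.smul_left, a0, _root_.Fin.isValue, _root_.List.getD_eq_getElem?_getD, _root_.List.length_cons, _root_.List.length_nil, _root_.zero_add, _root_.Nat.reduceAdd, _root_.Nat.reduceLT, _root_.getElem?_pos, _root_.List.getElem_cons_succ, _root_.List.getElem_cons_zero, _root_.Option.getD_some, _root_.Nat.ofNat_pos, ↓ _root_.reduceIte, _root_.mul_one, _root_.Bool.and_true, _root_.Bool.and_self, _root_.Bool.or_self, _root_.cond_false, _root_.Bool.cond_self, _root_.Nat.cast_zero, _root_.Bool.and_false, _root_.Bool.or_false, _root_.cond_true, _root_.Nat.cast_one]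
    · simp only [gO, Nat.beq, hsym y₀, h.smul_left, a0, _root_.Fin.isValue, _root_.List.getD_eq_getElem?_getD, _root_.List.length_cons, _root_.List.length_nil, _root_.zero_add, _root_.Nat.reduceAdd, _root_.Nat.reduceLT, _root_.getElem?_pos, _root_.List.getElem_cons_succ, _root_.List.getElem_cons_zero, _root_.Option.getD_some, _root_.Nat.one_lt_ofNat, _root_.one_ne_zero, ↓ _root_.reduceIte, _root_.MulZeroClass.mul_zero, _root_.Bool.and_self, _root_.Bool.or_self, _root_.cond_false, _root_.Bool.cond_self, _root_.Nat.cast_zero, _root_.Bool.or_true, _root_.cond_true, _root_.Bool.and_true, _root_.Bool.and_false, _root_.add_zero]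
    · simp only [gO, Nat.beq, hsym y₁, h.smul_left, a1, _root_.Fin.isValue, _root_.List.getD_eq_getElem?_getD, _root_.List.length_cons, _root_.List.length_nil, _root_.zero_add, _root_.Nat.reduceAdd, _root_.Nat.lt_add_one, _root_.getElem?_pos, _root_.List.getElem_cons_succ, _root_.List.getElem_cons_zero, _root_.Option.getD_some, _root_.Nat.ofNat_pos, _root_.zero_ne_one, ↓ _root_.reduceIte, _root_.MulZeroClass.mul_zero, _root_.Bool.and_true, _root_.Bool.and_self, _root_.Bool.or_self, _root_.cond_false, _root_.Bool.cond_self, _root_.Nat.cast_zero, _root_.Bool.and_false, _root_.add_zero]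
    · simp only [gO, Nat.beq, hsym y₁, h.smul_left, a1, _root_.Fin.isValue, _root_.List.getD_eq_getElem?_getD, _root_.List.length_cons, _root_.List.length_nil, _root_.zero_add, _root_.Nat.reduceAdd, _root_.Nat.lt_add_one, _root_.getElem?_pos, _root_.List.getElem_cons_succ, _root_.List.getElem_cons_zero, _root_.Option.getD_some, _root_.Nat.one_lt_ofNat, ↓ _root_.reduceIte, _root_.mul_one, _root_.Bool.and_self, _root_.Bool.or_self, _root_.cond_false, _root_.Bool.cond_self, _root_.Nat.cast_zero, _root_.Bool.and_false, _root_.Bool.or_true, _root_.cond_true, _root_.Nat.cast_one]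
    · simp only [gO, Nat.beq, a4, _root_.Fin.isValue, _root_.List.getD_eq_getElem?_getD, _root_.List.length_cons, _root_.List.length_nil, _root_.zero_add, _root_.Nat.reduceAdd, _root_.Nat.lt_add_one, _root_.getElem?_pos, _root_.List.getElem_cons_succ, _root_.List.getElem_cons_zero, _root_.Option.getD_some, _root_.Nat.reduceLT, _root_.Bool.and_self, _root_.Bool.and_true, _root_.Bool.or_self, _root_.cond_false, _root_.Bool.cond_self, _root_.Nat.cast_zero, _root_.add_zero, _root_.MulZeroClass.mul_zero]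

theorem block_o3 (hO : Cl.IsO h F Q) (h2 : (2 : K) ≠ 0) {e : h.EB} (he : e * e = e) (hs : star e = e)
    (hr : Cl.rk h e = 3) : ∃ κ, κ ≠ 0 ∧ ∃ v, OB h Q κ (h.ap e) 3 v := by
  have : Module.Finite K V := Module.Finite.of_finite
  have hb := hO.2.1
  let W := LinearMap.range (h.ap e)
  have hp : ∀ x y : W, QuadraticMap.polar (Q.comp W.subtype) x y = h.b x y := fun x y => by
    rw [hb]
    simp only [QuadraticMap.polar, QuadraticMap.comp_apply, map_add]
    rfl
  have hsym : ∀ u v, h.b u v = h.b v u := fun u v => by rw [hb, hb, QuadraticMap.polar_comm]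
  have hn : ∀ v : W, (∀ u : W, h.b u v = 0) → v = 0 := fun v hv => Subtype.ext (h.nondeg _ fun u => by
    have h1 : h.b (h.ap e u) v = 0 := hv ⟨h.ap e u, u, rfl⟩
    rwa [b_idem h hs, idem_of_mem h he v.2] at h1)
  obtain ⟨c, h3, h4, h5, h6, -⟩ := Cfsg.Agent.S2618.result (m := 1) (V := W) hr (Q.comp W.subtype)
    ⟨fun x hx => hn x fun y => by rw [hsym, ← hp]; exact hx y, fun x hx => hn x fun y => by rw [← hp]; exact hx y⟩
  obtain ⟨a1, a2⟩ := h4 0
  obtain ⟨a3, a4⟩ := h5 0
  have a5 := h6 0 0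
  rw [hp] at a1 a2 a5
  rw [QuadraticMap.comp_apply, Submodule.subtype_apply] at h3 a3 a4
  obtain ⟨κ, hκ⟩ : ∃ κ, κ = Q (c (Sum.inl ())) := ⟨_, rfl⟩
  refine ⟨κ, hκ ▸ h3, fun r => [(c (.inl ()) : V), κ • (c (.inr (.inl 0)) : V), (c (.inr (.inr 0)) : V)].getD r 0,
    ob_mk hO (hκ ▸ h3) (Or.inr ⟨rfl, h2⟩) (fun r hr => ?_) hr (fun r hr => ?_) fun r hr s hs => ?_⟩
  · interval_cases r
    · exact idem_of_mem h he (c _).2
    · exact idem_of_mem h he (W.smul_mem _ (c _).2)
    · exact idem_of_mem h he (c _).2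
  · interval_cases r
    · simp only [gO, Nat.beq, hκ, _root_.Fin.isValue, _root_.List.getD_eq_getElem?_getD, _root_.List.length_cons, _root_.List.length_nil, _root_.zero_add, _root_.Nat.reduceAdd, _root_.Nat.ofNat_pos, _root_.getElem?_pos, _root_.List.getElem_cons_zero, _root_.Option.getD_some, _root_.Bool.and_self, _root_.Bool.or_false, _root_.cond_true, _root_.Bool.and_false, _root_.Bool.or_self, _root_.cond_false, _root_.Nat.cast_one, _root_.mul_one]
    · simp only [gO, Nat.beq, QuadraticMap.map_smul, a3, _root_.Fin.isValue, _root_.List.getD_eq_getElem?_getD, _root_.List.length_cons, _root_.List.length_nil, _root_.zero_add, _root_.Nat.reduceAdd, _root_.Nat.one_lt_ofNat, _root_.getElem?_pos, _root_.List.getElem_cons_succ, _root_.List.getElem_cons_zero, _root_.Option.getD_some, _root_.smul_eq_mul, _root_.MulZeroClass.mul_zero, _root_.Bool.and_self, _root_.Bool.and_false, _root_.Bool.or_self, _root_.cond_false, _root_.Bool.cond_self, _root_.Nat.cast_zero]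
    · simp only [gO, Nat.beq, a4, _root_.Fin.isValue, _root_.List.getD_eq_getElem?_getD, _root_.List.length_cons, _root_.List.length_nil, _root_.zero_add, _root_.Nat.reduceAdd, _root_.Nat.lt_add_one, _root_.getElem?_pos, _root_.List.getElem_cons_succ, _root_.List.getElem_cons_zero, _root_.Option.getD_some, _root_.Bool.and_self, _root_.Bool.and_true, _root_.Bool.or_self, _root_.cond_false, _root_.Bool.cond_self, _root_.Nat.cast_zero, _root_.MulZeroClass.mul_zero]
  · interval_cases r <;> interval_cases s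
    · simp only [gO, Nat.beq, h.smul_left, hsym (c (.inr (.inl 0)) : V), a1, _root_.Fin.isValue, _root_.List.getD_eq_getElem?_getD, _root_.List.length_cons, _root_.List.length_nil, _root_.zero_add, _root_.Nat.reduceAdd, _root_.Nat.one_lt_ofNat, _root_.getElem?_pos, _root_.List.getElem_cons_succ, _root_.List.getElem_cons_zero, _root_.Option.getD_some, _root_.Nat.ofNat_pos, _root_.MulZeroClass.mul_zero, _root_.Bool.and_true, _root_.Bool.and_false, _root_.Bool.or_self, _root_.cond_false, _root_.Bool.and_self, _root_.Bool.cond_self, _root_.Nat.cast_zero, _root_.add_zero]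
    · simp only [gO, Nat.beq, hsym (c (.inr (.inr 0)) : V), a2, _root_.Fin.isValue, _root_.List.getD_eq_getElem?_getD, _root_.List.length_cons, _root_.List.length_nil, _root_.zero_add, _root_.Nat.reduceAdd, _root_.Nat.lt_add_one, _root_.getElem?_pos, _root_.List.getElem_cons_succ, _root_.List.getElem_cons_zero, _root_.Option.getD_some, _root_.Nat.ofNat_pos, _root_.Bool.and_true, _root_.Bool.and_self, _root_.Bool.or_self, _root_.cond_false, _root_.Bool.cond_self, _root_.Nat.cast_zero, _root_.Bool.and_false, _root_.Bool.or_false, _root_.cond_true, _root_.add_zero, _root_.MulZeroClass.mul_zero]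
    · simp only [gO, Nat.beq, hsym (c (.inr (.inr 0)) : V), h.smul_left, a5, _root_.Fin.isValue, _root_.List.getD_eq_getElem?_getD, _root_.List.length_cons, _root_.List.length_nil, _root_.zero_add, _root_.Nat.reduceAdd, _root_.Nat.lt_add_one, _root_.getElem?_pos, _root_.List.getElem_cons_succ, _root_.List.getElem_cons_zero, _root_.Option.getD_some, _root_.Nat.one_lt_ofNat, ↓ _root_.reduceIte, _root_.mul_one, _root_.Bool.and_self, _root_.Bool.or_self, _root_.cond_false, _root_.Bool.cond_self, _root_.Nat.cast_zero, _root_.Bool.or_true, _root_.cond_true, _root_.Bool.and_true, _root_.Bool.and_false, _root_.Nat.cast_one]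

theorem OB.map (hO : Cl.IsO h F Q) {κ : K} {e e' : h.EB} {d : ℕ} {v : ℕ → V} (hv : OB h Q κ (h.ap e) d v)
    {u : h.EBˣ} (hu : u ∈ F.Iso) (hue : cj h.EB u e = e') (hr : Cl.rk h e' = d) :
    OB h Q κ (h.ap e') d fun r => h.ap u (v r) := by
  obtain ⟨hτ, hb, hL, hl⟩ := hO
  have h1 := (h.unit_iff u).1 hu.1
  refine ⟨⟨fun r hr => ?_, hv.bb.li.map' (h.ap u) (LinearMap.ker_eq_bot'.2 fun x hx => ?_), hr⟩, fun r hr => ?_,
    fun r hr s hs hne => by rw [h1, hv.pol r hr s hs hne]⟩
  · rw [← h.ap_mul, ← hue, cj_mul_eq, h.ap_mul, hv.bb.mem r hr]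
  · exact h.nondeg _ fun y => by rw [← h1, hx, h.zero_right]
  · obtain ⟨a, ha⟩ : (u : h.EB) * F.l * star (u : h.EB) - F.l ∈ Lmin h.EB := hL ▸ hu.2
    have h2 := congrArg (fun x => h.b (h.ap u (v r)) (h.ap x (h.ap u (v r)))) ha
    simp only [h.ap_sub, h.sub_right, h.ap_mul, h.b_star, hl] at h2
    rw [← h.ap_mul (star (u : h.EB)), FR.Iso.sm hu, h.ap_one, h1, hl, hb, hb, QuadraticMap.polar_comm, sub_self,
      sub_eq_zero] at h2
    rw [← h2, hv.sq r hr]

end Cfsg.Agent.SB.Idem
end

-- part: SB/Idem/Rows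
section
/-!
# S5765, classical rows `RowSp`, `RowU2`, `RowO3` (helper96)
-/

set_option autoImplicit false

namespace Cfsg.Agent.SB.Idem

open Cfsg.Agent.DS.Cl Cfsg.Agent.DS.Cl.Fwd Cfsg.Agent.SB.Cl

theorem rowSp : RowSp := by
  intro K V _ _ _ _ _ h F S D hF hc hD hinv hK hm
  refine hc.good_of_four ?_
  rcases card_le_three hK with hK | hK <;> rcases hm.1 with ht | ht
  · exact four_sp h Nat.prime_two (by norm_num) hK hc.ss hF cSp2_222 cSp2_222_0 cSp2_222_1 cSp2_222_2 cSp2_222_3 cSp2_222_4 cSp2_222_5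
      hD ht hm.2 hc.le_SAut hinv
  · exact four_sp h Nat.prime_two (by norm_num) hK hc.ss hF cSp2_2222 cSp2_2222_0 cSp2_2222_1 cSp2_2222_2 cSp2_2222_3 cSp2_2222_4 cSp2_2222_5
      hD ht hm.2 hc.le_SAut hinv
  · exact four_sp h Nat.prime_three (by norm_num) hK hc.ss hF cSp3_222 cSp3_222_0 cSp3_222_1 cSp3_222_2 cSp3_222_3 cSp3_222_4 cSp3_222_5
      hD ht hm.2 hc.le_SAut hinv
  · exact four_sp h Nat.prime_three (by norm_num) hK hc.ss hF cSp3_2222 cSp3_2222_0 cSp3_2222_1 cSp3_2222_2 cSp3_2222_3 cSp3_2222_4 cSp3_2222_5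
      hD ht hm.2 hc.le_SAut hinv

theorem rowU2 : RowU2 := by
  intro K V _ _ _ _ _ h F S D hU hc hD hinv H
  refine hc.good_of_four ?_
  rcases H with ⟨hK, H⟩ | ⟨hK, H⟩
  · obtain ⟨_, ω, hω, ha, hk⟩ := field_four hK
    rcases H with H | H | ⟨ht | ht, H⟩ | ⟨ht | ht, H⟩
    · obtain ⟨e, he, hr⟩ := en_of_two H
      exact four_u h (by norm_num) (by norm_num) hω ha hk hc.ss hU cU4_23 cU4_23_0 cU4_23_1 cU4_23_2 cU4_23_3 cU4_23_4 cU4_23_5
        hD he hr hc.le_SAut hinv
    · obtain ⟨e, he, hr⟩ := en_of_two H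
      exact four_u h (by norm_num) (by norm_num) hω ha hk hc.ss hU cU4_33 cU4_33_0 cU4_33_1 cU4_33_2 cU4_33_3 cU4_33_4 cU4_33_5
        hD he (fun b hb => (hr b hb).trans (Bool.cond_self _ _)) hc.le_SAut hinv
    · obtain ⟨e, he⟩ := en_of_card ht
      exact four_u h (by norm_num) (by norm_num) hω ha hk hc.ss hU cU4_222 cU4_222_0 cU4_222_1 cU4_222_2 cU4_222_3 cU4_222_4 cU4_222_5
        hD he (fun b hb => H _ (he.mem b hb)) hc.le_SAut hinv
    · obtain ⟨e, he⟩ := en_of_card ht
      exact four_u h (by norm_num) (by norm_num) hω ha hk hc.ss hU cU4_2222 cU4_2222_0 cU4_2222_1 cU4_2222_2 cU4_2222_3 cU4_2222_4 cU4_2222_5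
        hD he (fun b hb => H _ (he.mem b hb)) hc.le_SAut hinv
    · obtain ⟨e, he⟩ := en_of_card ht
      exact four_u h (by norm_num) (by norm_num) hω ha hk hc.ss hU cU4_333 cU4_333_0 cU4_333_1 cU4_333_2 cU4_333_3 cU4_333_4 cU4_333_5
        hD he (fun b hb => H _ (he.mem b hb)) hc.le_SAut hinv
    · obtain ⟨e, he⟩ := en_of_card ht
      exact four_u h (by norm_num) (by norm_num) hω ha hk hc.ss hU cU4_3333 cU4_3333_0 cU4_3333_1 cU4_3333_2 cU4_3333_3 cU4_3333_4 cU4_3333_5
        hD he (fun b hb => H _ (he.mem b hb)) hc.le_SAut hinv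
  · obtain ⟨_, ω, hω, ha, hk⟩ := field_nine hK
    rcases H with H | ⟨ht | ht, H⟩
    · obtain ⟨e, he, hr⟩ := en_of_two H
      exact four_u h (by norm_num) (by norm_num) hω ha hk hc.ss hU cU9_22 cU9_22_0 cU9_22_1 cU9_22_2 cU9_22_3 cU9_22_4 cU9_22_5
        hD he (fun b hb => (hr b hb).trans (Bool.cond_self _ _)) hc.le_SAut hinv
    · obtain ⟨e, he⟩ := en_of_card ht
      exact four_u h (by norm_num) (by norm_num) hω ha hk hc.ss hU cU9_222 cU9_222_0 cU9_222_1 cU9_222_2 cU9_222_3 cU9_222_4 cU9_222_5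
        hD he (fun b hb => H _ (he.mem b hb)) hc.le_SAut hinv
    · obtain ⟨e, he⟩ := en_of_card ht
      exact four_u h (by norm_num) (by norm_num) hω ha hk hc.ss hU cU9_2222 cU9_2222_0 cU9_2222_1 cU9_2222_2 cU9_2222_3 cU9_2222_4 cU9_2222_5
        hD he (fun b hb => H _ (he.mem b hb)) hc.le_SAut hinv

theorem rowO3 : RowO3 := by
  intro K V _ _ _ _ _ h F Q S D hO hc hD hinv hP H
  refine hc.good_of_four ?_
  have h4 : ∀ κ : K, κ ≠ 0 → ∀ e ∈ D, rk h e = 4 → ∃ v, OB h Q κ (h.ap e) 4 v := fun κ hκ e he hr => by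
    obtain ⟨W, h1, h2, h3⟩ := hP e he hr
    exact block_o4 hO hκ (hD.idem e he) (hD.symm e he) hr h1 h2 h3
  rcases H with ⟨hK, H⟩ | ⟨hK, H⟩
  · have h2 : (2 : K) ≠ 0 := fun h2 => by
      have := (prime_field Nat.prime_three hK).1
      exact absurd ((CharP.cast_eq_zero_iff K 3 2).1 (by exact_mod_cast h2)) (by norm_num)
    rcases H with H | ⟨hI, ht, H⟩
    · obtain ⟨e, he, hr⟩ := en_of_two H
      have m0 := he.mem 0 (by norm_num)
      obtain ⟨κ, hκ, v, hv⟩ := block_o3 hO h2 (hD.idem _ m0) (hD.symm _ m0) (hr 0 (by norm_num))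
      obtain ⟨v', hv'⟩ := h4 κ hκ _ (he.mem 1 (by norm_num)) (hr 1 (by norm_num))
      refine four_o h Nat.prime_three (by norm_num) hK hc.ss hO cO3_34 cO3_34_0 cO3_34_1 cO3_34_2 cO3_34_3 cO3_34_4 cO3_34_5
        hD he (κ := κ) (v := fun b => cond (Nat.beq b 0) v v') (fun b (hb : b < 2) => ?_) hc.le_SAut hinv
      interval_cases b
      exacts [hv, hv']
    · obtain ⟨e₀, m0⟩ : D.Nonempty := Finset.card_pos.1 (by omega)
      obtain ⟨κ, hκ, v, hv⟩ := block_o3 hO h2 (hD.idem _ m0) (hD.symm _ m0) (H _ m0)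
      have h3 : ∀ e ∈ D, ∃ v, OB h Q κ (h.ap e) 3 v := fun e he => by
        obtain ⟨u, hu, hue⟩ := hI _ m0 e he
        exact ⟨_, hv.map hO hu hue (H e he)⟩
      choose! w hw using h3
      rcases ht with ht | ht <;> obtain ⟨e, he⟩ := en_of_card ht
      · exact four_o h Nat.prime_three (by norm_num) hK hc.ss hO cO3_333 cO3_333_0 cO3_333_1 cO3_333_2 cO3_333_3 cO3_333_4 cO3_333_5
          hD he (fun b hb => hw _ (he.mem b hb)) hc.le_SAut hinv
      · exact four_o h Nat.prime_three (by norm_num) hK hc.ss hO cO3_3333 cO3_3333_0 cO3_3333_1 cO3_3333_2 cO3_3333_3 cO3_3333_4 cO3_3333_5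
          hD he (fun b hb => hw _ (he.mem b hb)) hc.le_SAut hinv
  · obtain ⟨ht, H⟩ : (D.card = 2 ∨ D.card = 3 ∨ D.card = 4) ∧ ∀ e ∈ D, rk h e = 4 := by
      rcases H with H | H
      · obtain ⟨e, he, hr⟩ := en_of_two H
        refine ⟨Or.inl H.1, fun x hx => ?_⟩
        obtain ⟨b, hb, rfl⟩ := he.surj x hx
        exact (hr b hb).trans (Bool.cond_self _ _)
      · exact ⟨Or.inr H.1, H.2⟩
    choose! w hw using fun e he => h4 1 one_ne_zero e he (H e he)
    rcases card_le_three hK with hK | hK <;> rcases ht with ht | ht | ht <;> obtain ⟨e, he⟩ := en_of_card ht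
    · exact four_o h Nat.prime_two (by norm_num) hK hc.ss hO cO2_44 cO2_44_0 cO2_44_1 cO2_44_2 cO2_44_3 cO2_44_4 cO2_44_5
        hD he (fun b hb => hw _ (he.mem b hb)) hc.le_SAut hinv
    · exact four_o h Nat.prime_two (by norm_num) hK hc.ss hO cO2_444 cO2_444_0 cO2_444_1 cO2_444_2 cO2_444_3 cO2_444_4 cO2_444_5
        hD he (fun b hb => hw _ (he.mem b hb)) hc.le_SAut hinv
    · exact four_o h Nat.prime_two (by norm_num) hK hc.ss hO cO2_4444 cO2_4444_0 cO2_4444_1 cO2_4444_2 cO2_4444_3 cO2_4444_4 cO2_4444_5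
        hD he (fun b hb => hw _ (he.mem b hb)) hc.le_SAut hinv
    · exact four_o h Nat.prime_three (by norm_num) hK hc.ss hO cO3_44 cO3_44_0 cO3_44_1 cO3_44_2 cO3_44_3 cO3_44_4 cO3_44_5
        hD he (fun b hb => hw _ (he.mem b hb)) hc.le_SAut hinv
    · exact four_o h Nat.prime_three (by norm_num) hK hc.ss hO cO3_444 cO3_444_0 cO3_444_1 cO3_444_2 cO3_444_3 cO3_444_4 cO3_444_5
        hD he (fun b hb => hw _ (he.mem b hb)) hc.le_SAut hinv
    · exact four_o h Nat.prime_three (by norm_num) hK hc.ss hO cO3_4444 cO3_4444_0 cO3_4444_1 cO3_4444_2 cO3_4444_3 cO3_4444_4 cO3_4444_5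
        hD he (fun b hb => hw _ (he.mem b hb)) hc.le_SAut hinv

end Cfsg.Agent.SB.Idem
end

-- part: SB/Idem/Lin
section
/-!
# S5765, classical rows: the engine for linear groups (helper96)
-/

set_option autoImplicit false

namespace Cfsg.Agent.SB.Idem

open Cfsg.Agent.DS.Cl Cfsg.Agent.DS.Cl.Fwd Module Matrix Ar

/-- all checks for linear groups -/
def Cert.okL (a : Ar) (C : Cert) (ps : ℕ) (d : ℕ → ℕ) (L : List ℕ) : Bool :=
  C.shOK ps d && allTo 3 fun k => a.mulOK C.n (C.x k) (L.getD k 0) C.one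

variable {K : Type} [Field K] {m n : ℕ}

/-- the first component -/
def fstL : LR (Fin m) K →+* Matrix (Fin m) (Fin m) K := RingHom.fst _ _

/-- the matrix of the first component -/
noncomputable def piL (c : Basis (Fin n) K (Fin m → K)) : LR (Fin m) K →+* Matrix (Fin n) (Fin n) K :=
  (((Matrix.toLinAlgEquiv' (R := K) (n := Fin m)).trans (LinearMap.toMatrixAlgEquiv c)).toRingEquiv :
    Matrix (Fin m) (Fin m) K →+* Matrix (Fin n) (Fin n) K).comp fstL

theorem piL_apply (c : Basis (Fin n) K (Fin m → K)) (x : LR (Fin m) K) :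
    piL c x = LinearMap.toMatrix c c (Matrix.toLin' x.1) := rfl

theorem piL_trace (c : Basis (Fin n) K (Fin m → K)) (x : LR (Fin m) K) : (piL c x).trace = x.1.trace := by
  rw [piL_apply, ← LinearMap.trace_eq_matrix_trace, Matrix.trace_toLin'_eq]

theorem eps_L : Eps (LR.mk 1 0 : LR (Fin m) K) where
  cen := Subring.mem_center_iff.2 fun g => by
    obtain ⟨c, d, rfl⟩ := LR.exists_mk g
    rw [LR.mk_mul, LR.mk_mul, mul_one, one_mul, mul_zero, zero_mul]
  idem := by rw [LR.mk_mul, mul_one, mul_zero]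
  add := LR.half

theorem L_eq_max (F : FR (LR (Fin m) K)) : F.L = Lmax _ := F.L_eq eps_L.cen LR.half

theorem gl_mem_Iso (F : FR (LR (Fin m) K)) (g : GL (Fin m) K) : LR.gl g ∈ F.Iso :=
  mem_Iso_max (L_eq_max F) ((LR.mem_gl _).1 ⟨g, rfl⟩)

theorem cen_L {x : LR (Fin m) K} (hx : x ∈ Subring.center (LR (Fin m) K)) :
    ∃ y z : K, x = LR.mk (Matrix.scalar _ y) (Matrix.scalar _ z) := by
  obtain ⟨a, b, rfl⟩ := LR.exists_mk x
  obtain ⟨y, rfl⟩ : a ∈ Set.range (Matrix.scalar (Fin m)) := Matrix.mem_range_scalar_iff_commute_single'.2 fun i j =>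
    congrArg Prod.fst (Subring.mem_center_iff.1 hx (LR.mk (Matrix.single i j 1) 0))
  obtain ⟨z, rfl⟩ : b ∈ Set.range (Matrix.scalar (Fin m)) := Matrix.mem_range_scalar_iff_commute_single'.2 fun i j =>
    congrArg Prod.snd (Subring.mem_center_iff.1 hx (LR.mk 0 (Matrix.single i j 1)))
  exact ⟨y, z, rfl⟩

theorem four_l [Finite K] {p : ℕ} (hp : p.Prime) (h4 : p ≤ 4) (hK : Nat.card K = p) {F : FR (LR (Fin m) K)}
    (hA : SS (LR (Fin m) K)) (C : Cert) (H₀ : C.ok₀ (arP p) = true) (H₁ : C.ok₁ (arP p) = true)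
    (H₂ : C.ok₂ (arP p) = true) (H₃ : C.ok₃ (arP p) true = true) (H₄ : C.ok₄ (arP p) = true) {ps : ℕ} {d : ℕ → ℕ}
    {L : List ℕ} (H₅ : C.okL (arP p) ps d L = true)
    {D : Finset (LR (Fin m) K)} (hD : Fr D) {e : ℕ → LR (Fin m) K} (he : En D C.t e)
    (hr : ∀ b < C.t, Cl.rkL (e b) = d b) {S : Subgroup (RingAut (LR (Fin m) K))} (hS : S ≤ SAut _) (hinv : _root_.Cfsg.Agent.DS.Cl.Inv S D) :
    Four F.S S := by
  obtain ⟨_, hk⟩ := prime_field hp hK
  have ha := arP_sound (K := K) hp.pos h4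
  simp only [Cert.okL, Bool.and_eq_true] at H₅
  obtain ⟨H₅, H₆⟩ := H₅
  let φ : LR (Fin m) K →+* End K (Fin m → K) :=
    ((Matrix.toLinAlgEquiv' (R := K) (n := Fin m)).toRingEquiv : Matrix (Fin m) (Fin m) K →+* _).comp fstL
  choose! v hv using fun b (hb : b < C.t) => exists_BB (E := φ (e b)) (d := d b)
    (by rw [← map_mul, hD.idem _ (he.mem b hb)]) (hr b hb)
  obtain ⟨c, -, hc⟩ := exists_basis H₅ (fun b => φ (e b))
    (fun b hb b' hb' hne => by rw [← map_mul, he.orth hD hb hb' hne, map_zero])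
    (by rw [← map_sum, he.sum hD, map_one]) v hv
  obtain ⟨hn, -, -, h1, -⟩ := Cert.of_ok₀ ha H₀
  have hinj : ∀ x : LR (Fin m) K, piL c x = 0 → x.1 = 0 := fun x hx => by
    rwa [piL_apply, map_eq_zero_iff _ (LinearMap.toMatrix c c).injective,
      map_eq_zero_iff _ (Matrix.toLin' (R := K)).injective] at hx
  refine four_of_cert F hA ha C true H₀ H₁ H₂ H₃ H₄ (piL c)
    (fun x h2 h3 => Prod.ext (hinj x h2) (Matrix.transpose_eq_zero.1 (hinj _ h3)))
    (htr_of hA (piL c) LR.swapAut (LR.mk 1 0) (fun s hs x hx => ?_) (fun s hs => hA.map_eps eps_L hs) ?_ fun x => ?_)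
    (fun k hk' => ?_) e hc (fun b hb => hD.symm _ (he.mem b hb)) he.inj hS (he.inv hinv)
  · obtain ⟨y, z, rfl⟩ := cen_L hx
    obtain ⟨y, rfl⟩ := hk y
    obtain ⟨z, rfl⟩ := hk z
    have h2 : (LR.mk (Matrix.scalar _ (y : K)) (Matrix.scalar _ (z : K)) : LR (Fin m) K) =
        (y : LR (Fin m) K) * LR.mk 1 0 + (z : LR (Fin m) K) * (1 - LR.mk 1 0) := by
      rw [map_natCast, map_natCast]
      change _ = LR.mk (y : Matrix (Fin m) (Fin m) K) y * LR.mk 1 0 +
        LR.mk (z : Matrix (Fin m) (Fin m) K) z * (LR.mk 1 1 - LR.mk 1 0)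
      simp only [LR.mk_mul, LR.mk_add, LR.mk_sub, _root_.mul_one, _root_.MulZeroClass.mul_zero, _root_.sub_self, _root_.sub_zero, _root_.add_zero, _root_.zero_add]
    rw [h2, map_add, map_mul, map_mul, map_sub, map_one, map_natCast, map_natCast, hs]
  · rw [LR.star_mk, Matrix.transpose_zero, Matrix.transpose_one]
    rfl
  · rw [piL_trace, piL_trace]
    exact (Matrix.trace_transpose _).symm
  · have h2 := ha.mul_eq hn (allTo_iff.1 H₆ k hk')
    rw [h1] at h2
    let ψ := (Matrix.toLinAlgEquiv' (R := K) (n := Fin m)).trans (LinearMap.toMatrixAlgEquiv c)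
    have h3 := congrArg ψ.symm h2
    rw [map_mul, map_one] at h3
    exact ⟨_, gl_mem_Iso F ⟨_, _, h3, mul_eq_one_comm.1 h3⟩, ψ.apply_symm_apply _⟩

end Cfsg.Agent.SB.Idem
end

-- part: SB/Idem/CL
section
/-!
# S5765, classical rows: certificates for linear groups (helper96; generated by notes/SB/idem/out.py)
-/

set_option autoImplicit false

namespace Cfsg.Agent.SB.Idem

/-- the certificate for L3_12 -/
def cL3_12 : Cert where
  n := 3
  t := 2
  bl := 20
  one := 65793
  X := [74054, 86544, 0x24650]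
  XY := [22056, 72100, 0x26412]
  YX := [0x1a292, 0x26a55, 84553]
  Z := [35462, 74778, 21093]
  f := [[1, 65792],
    [1105, 68000],
    [98328, 16677],
    [0x28a28, 0x24615]]
  T₂ := 0x2000210000000000000010
  T₂' := 0x200120000000000210022
  T₃ := 0x2000210000000000000010
  T₃' := 0x200120000000000210022
  ex := []
  w := [(2, 1), (1, 1), (0, 0)]
  ws := [16677, 0x26986, 8322]
  φ := 1
  j₀ := 0
  P := 9370
  Q := 0x241a0
  tree := [(0, 0, 0), (0, 0, 0), (0, 1, 0)]

theorem cL3_12_0 : cL3_12.ok₀ (arP 3) = true := by decide +kernel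

theorem cL3_12_1 : cL3_12.ok₁ (arP 3) = true := by decide +kernel

theorem cL3_12_2 : cL3_12.ok₂ (arP 3) = true := by decide +kernel

theorem cL3_12_3 : cL3_12.ok₃ (arP 3) true = true := by decide +kernel

theorem cL3_12_4 : cL3_12.ok₄ (arP 3) = true := by decide +kernel

theorem cL3_12_5 : cL3_12.okL (arP 3) 16 (fun c => cond (Nat.beq c 0) 1 2)
    [0x19289, 4630, 5204] = true := by
  decide +kernel

/-- the certificate for L3_22 -/
def cL3_22 : Cert where
  n := 4
  t := 2
  bl := 80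
  one := 0x40100401
  X := [0x40892091, 0x29885201, 0x922284a8]
  XY := [0x29854490, 0x5a915a8, 0xa8a5a016]
  YX := [0x24906891, 0x91466508, 0x92551108]
  Z := [0x59418410, 0x89921a14, 0x45984458]
  f := [[1025, 0x40100000],
    [0xa5469100, 0x9a996601],
    [0x9619895, 0x46a26868],
    [0x611a251a, 0x12051226]]
  T₂ := 0x1100210000000000210002
  T₂' := 0x1100210000000000210002
  T₃ := 0x20000000000020021
  T₃' := 0x1200200000000000200000
  ex := []
  w := [(3, 1), (1, 1)]
  ws := [0x12051226, 0x98649898]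
  φ := 100
  j₀ := 1
  P := 0x52219a0a
  Q := 0x50569866
  tree := [(0, 0, 0), (0, 0, 0), (0, 1, 0), (1, 1, 0)]

theorem cL3_22_0 : cL3_22.ok₀ (arP 3) = true := by decide +kernel

theorem cL3_22_1 : cL3_22.ok₁ (arP 3) = true := by decide +kernel

theorem cL3_22_2 : cL3_22.ok₂ (arP 3) = true := by decide +kernel

theorem cL3_22_3 : cL3_22.ok₃ (arP 3) true = true := by decide +kernel

theorem cL3_22_4 : cL3_22.ok₄ (arP 3) = true := by decide +kernel

theorem cL3_22_5 : cL3_22.okL (arP 3) 68 (fun _ => 2)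
    [0x40082545, 0x98695401, 0x6a65628a] = true := by
  decide +kernel

/-- the certificate for L2_222 -/
def cL2_222 : Cert where
  n := 6
  t := 3
  bl := 2640
  one := 0x400100040010004001
  X := [0x144101501550551010, 0x414444015454141011, 0x544404001440015144]
  XY := [0x510455041411400454, 0x111550511110541504, 0x15415010445011151]
  YX := [0x145114011444410540, 0x104555011401504510, 0x410540004501445440]
  Z := [0x450050411155115101, 0x11145415405105004, 0x551405554004511545]
  f := [[16385, 0x40010000000, 0x400100000000000000],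
    [0x454545545454, 0x100100114100114000, 0x500000500455455455],
    [0x450451451451451001, 0x50104050000000000, 0x455441441455000],
    [0x450440010010450440, 0x15000015000411404, 0x45540045000045045]]
  T₂ := 0x1000100001100000010010100010000000001000001
  T₂' := 0x10010000000000010000001000000010101110111
  T₃ := 0x1000001001100000010000000100000000001000010
  T₃' := 0x1000100011000000111000001110000010100010010
  ex := []
  w := [(1, 0), (3, 1), (1, 2), (3, 2)]
  ws := [0x454545545454, 0x411015015411, 0x500455455500, 0x505000000505]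
  φ := 1285
  j₀ := 0
  P := 0x150040101400540055
  Q := 0x10114100414441154
  tree := [(0, 0, 0), (0, 0, 0), (0, 2, 0), (0, 3, 0), (0, 3, 1), (1, 1, 0)]

theorem cL2_222_0 : cL2_222.ok₀ (arP 2) = true := by decide +kernel

theorem cL2_222_1 : cL2_222.ok₁ (arP 2) = true := by decide +kernel

theorem cL2_222_2 : cL2_222.ok₂ (arP 2) = true := by decide +kernel

theorem cL2_222_3 : cL2_222.ok₃ (arP 2) true = true := by decide +kernel

theorem cL2_222_4 : cL2_222.ok₄ (arP 2) = true := by decide +kernel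

theorem cL2_222_5 : cL2_222.okL (arP 2) 1092 (fun _ => 2)
    [0x140114045001551014, 0x551505410110041111, 0x401111411545501040] = true := by
  decide +kernel

/-- the certificate for L3_222 -/
def cL3_222 : Cert where
  n := 6
  t := 3
  bl := 2640
  one := 0x400100040010004001
  X := [0x6665a2144609659820, 0x220241006455a4aaa1, 0x608966015505961809]
  XY := [0x82926498201546198a, 0x1942a8164141a48680, 0xa6a420546a525a6260]
  YX := [0x454485a69921625899, 0x5648989416596a0146, 0x51925a6a9861148402]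
  Z := [0x984619a5a452064645, 0x4225a104540a94952a, 0x6a9a56608214619480]
  f := [[16385, 0x40010000000, 0x400100000000000000],
    [0x209401a08905209504, 0x460a9566566510a890, 0x1962692120a5000269],
    [0x515a2a9a8654869654, 0x56229a694000694562, 0x98844a00098810644a],
    [0xaa455889546aaa4000, 0x5a1a520001a51a5656, 0x4aa1554aaa004aa9aa]]
  T₂ := 0x10102010000000120000202010000010002010001
  T₂' := 0x1000102000100000000012202010000012101110100
  T₃ := 0x1210222021100000211021102010000022202020220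
  T₃' := 0x220102010000000010021101020000022200220100
  ex := []
  w := [(1, 2), (3, 0), (2, 1)]
  ws := [0x1962692120a5000269, 0x89546a212aa400046a, 0x806806000000]
  φ := 1033
  j₀ := 0
  P := 0xa885440a4860a0944
  Q := 0xa00a91468890804288
  tree := [(0, 0, 0), (0, 2, 0), (0, 3, 0), (0, 3, 1), (1, 0, 0), (2, 1, 0)]

theorem cL3_222_0 : cL3_222.ok₀ (arP 3) = true := by decide +kernel

theorem cL3_222_1 : cL3_222.ok₁ (arP 3) = true := by decide +kernel

theorem cL3_222_2 : cL3_222.ok₂ (arP 3) = true := by decide +kernel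

theorem cL3_222_3 : cL3_222.ok₃ (arP 3) true = true := by decide +kernel

theorem cL3_222_4 : cL3_222.ok₄ (arP 3) = true := by decide +kernel

theorem cL3_222_5 : cL3_222.okL (arP 3) 1092 (fun _ => 2)
    [0x69a152680964861605, 0x18806285a891554514, 0x51990a161244412929] = true := by
  decide +kernel

/-- the certificate for L2_2222 -/
def cL2_2222 : Cert where
  n := 8
  t := 4
  bl := 64080
  one := 0x40001000040001000040001000040001
  X := [0x54050444104151111514104014100101, 0x1450441545044501401410551100451, 0x5401454045011405100010454051104]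
  XY := [0x4151141141104000454104011144001, 0x5414454454051140100510101504550, 0x54440541151540410150450155114145]
  YX := [0x51140454455441101504100511101414, 0x4015405015454104154154004151101, 0x50450155545010545445455411000044]
  Z := [0x41544450005454011000100141414051, 0x4041551514015410415044105501014, 0x11444504440454450510004501444004]
  f := [[0x40001, 0x40001000000000, 0x40001000000000000000000, 0x40001000000000000000000000000000],
    [0x15100000151000500000005000500050, 0x11101110111000000000000044541110, 0x55411051000010510000000055410000, 0x11411141000011010040004011411141],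
    [0x50455140000051400105514000005045, 0x5015411541151100411550151100, 0x10455011405450111045104550110000, 0x4144054141440000000000004144],
    [0x45144514451451000000510045144514, 0x51100000000051101041511051100000, 0x14001001040104011001000014000000, 0x40044515451505110000000000004515]]
  T₂ := 0x1101100100000100101000011001100010000101000000100000110100001000
  T₂' := 0x1101100111001000110011100000100000101010111110001100110110101110
  T₃ := 0x101000010000100000100001100000111110100000001110100010011010100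
  T₃' := 0x100101000100010010100000001001101110000001001101110111010100
  ex := []
  w := [(3, 0), (1, 2), (3, 0)]
  ws := [0x45144514451451000000510045144514, 0x10511051105155410000554110511051, 0x51005100510051000000510051005100]
  φ := 20736
  j₀ := 4
  P := 0x4015401444151411000511141050505
  Q := 0x50400040504555051440155015041045
  tree := [(0, 0, 0), (0, 0, 0), (0, 0, 1), (0, 0, 2), (0, 1, 0), (0, 1, 1), (0, 2, 0), (0, 2, 1)]

theorem cL2_2222_0 : cL2_2222.ok₀ (arP 2) = true := by decide +kernel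

theorem cL2_2222_1 : cL2_2222.ok₁ (arP 2) = true := by decide +kernel

theorem cL2_2222_2 : cL2_2222.ok₂ (arP 2) = true := by decide +kernel

theorem cL2_2222_3 : cL2_2222.ok₃ (arP 2) true = true := by
  delta Cert.ok₃
  rewrite [search_eq]
  decide +kernel

theorem cL2_2222_4 : cL2_2222.ok₄ (arP 2) = true := by decide +kernel

theorem cL2_2222_5 : cL2_2222.okL (arP 2) 17476 (fun _ => 2)
    [0x54004140550504114150144104550410, 0x55500500511140551540100141445451, 0x14500011411114011510500114114145] = true := by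
  decide +kernel

/-- the certificate for L3_2222 -/
def cL3_2222 : Cert where
  n := 8
  t := 4
  bl := 64080
  one := 0x40001000040001000040001000040001
  X := [0x922284a829885201a2a0860140892091, 0x665a9a0a506665a21446096598205656, 0xa4aaa1a6414908001966465054841214]
  XY := [0xa24540409a1a220988501a80194aa14a, 0x65685926611411a64106846545626001, 0x12526a140a416446588925a11606865]
  YX := [0xaa5449a592650181a00081424500a622, 0x5222984a6aa6a0990021628a15650aa1, 0xa8942554a82568655228a0a655949a5a]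
  Z := [0x2852188415109886868460820a154464, 0x64544a8488882952465259995241a984, 0x6889126664aa1a1412a8424082190100]
  f := [[0x40001, 0x40001000000000, 0x40001000000000000000000, 0x40001000000000000000000000000000],
    [0x46244021000086154021462409094021, 0x9101a8664964a866a866a86649641a65, 0xa049a0494669a0496910000089965086, 0x889144624462224aaa18118500005524],
    [0x1155115522aaaa28aa28448255141155, 0xa02526142614a025a025891119282614, 0x66646148999805280a14052894a00528, 0x5851aa5a55a5a106aa5a0954095406a8],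
    [0x15a02a50a68088604490000015a00000, 0x69004299159954661599960054660000, 0x4a56000285a94a550002000200020001, 0x8609a6148609a614a614691196220000]]
  T₂ := 0x120102210201122022000112100102222112002121020220112110102020120
  T₂' := 0x2121021221002121202002120000112100001102211012001222021000220111
  T₃ := 0x1000110211121102010022010000200012101200210002110020020010201210
  T₃' := 0x2212221221021120101200110000001111200120112221221022212010111000
  ex := []
  w := [(0, 1), (2, 1), (0, 2)]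
  ws := [0x40001000000000, 0xa025891100000000, 0x90000000000]
  φ := 2304
  j₀ := 4
  P := 0x2a08512845a0aa2456680929aa600928
  Q := 0x888292848588480a2289968820850012
  tree := [(0, 0, 0), (0, 1, 0), (0, 1, 1), (0, 1, 2), (0, 2, 1), (0, 2, 2), (0, 3, 0), (0, 3, 1)]

theorem cL3_2222_0 : cL3_2222.ok₀ (arP 3) = true := by decide +kernel

theorem cL3_2222_1 : cL3_2222.ok₁ (arP 3) = true := by decide +kernel

theorem cL3_2222_2 : cL3_2222.ok₂ (arP 3) = true := by decide +kernel

theorem cL3_2222_3 : cL3_2222.ok₃ (arP 3) true = true := by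
  delta Cert.ok₃
  rewrite [search_eq]
  decide +kernel

theorem cL3_2222_4 : cL3_2222.ok₄ (arP 3) = true := by decide +kernel

theorem cL3_2222_5 : cL3_2222.okL (arP 3) 17476 (fun _ => 2)
    [0x106a18520a0481812216646284549604, 0x4a24815069a854224984198882a22622, 0x129a84a02005902666226868a0201a4] = true := by
  decide +kernel

end Cfsg.Agent.SB.Idem
end

-- part: SB/Idem/LTor
section
/-!
# S5765, classical row `RowLFr` (helper96)
-/

set_option autoImplicit false

namespace Cfsg.Agent.SB.Idem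

open Cfsg.Agent.DS.Cl Cfsg.Agent.DS.Cl.Fwd Cfsg.Agent.SB.Cl Module Matrix

variable {K : Type} [Field K] {m n : ℕ}

theorem single_eq_zero_iff {i j : Fin n} {x : K} : single i j x = 0 ↔ x = 0 :=
  ⟨fun h => by simpa using congrFun (congrFun h i) j, fun h => by rw [h, single_zero]⟩

theorem ef_eq_zero {X Y : Matrix (Fin n) (Fin n) K} (h : Y * X = 1) (i j : Fin n) :
    single i i (1 : K) * (X * single j j (1 : K) * Y) = 0 ↔ X i j = 0 := by
  rw [← Matrix.mul_assoc, ← Matrix.mul_assoc, single_mul_mul_single, one_mul, mul_one, ← single_eq_zero_iff (i := i) (j := j)]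
  refine ⟨fun h1 => ?_, fun h1 => by rw [h1, Matrix.zero_mul]⟩
  rw [← Matrix.mul_one (single i j (X i j)), ← h, ← Matrix.mul_assoc, h1, Matrix.zero_mul]

theorem fe_eq_zero {X Y : Matrix (Fin n) (Fin n) K} (h : Y * X = 1) (i j : Fin n) :
    X * single j j (1 : K) * Y * single i i (1 : K) = 0 ↔ Y j i = 0 := by
  rw [Matrix.mul_assoc, Matrix.mul_assoc, ← Matrix.mul_assoc (single j j 1), single_mul_mul_single, one_mul, mul_one,
    ← single_eq_zero_iff (i := j) (j := i)]
  refine ⟨fun h1 => ?_, fun h1 => by rw [h1, Matrix.mul_zero]⟩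
  rw [← Matrix.one_mul (single j i (Y j i)), ← h, Matrix.mul_assoc, h1, Matrix.mul_zero]

/-- a ring endomorphism fixing enough matrix units is the identity -/
theorem eq_id_of_units [Finite K] (θ : Matrix (Fin n) (Fin n) K →+* Matrix (Fin n) (Fin n) K) {o l : Fin n} {g : Kˣ}
    (hg : ∀ x, x ∈ Subgroup.zpowers g) (h1 : ∀ i, θ (single i i 1) = single i i 1)
    (h2 : ∀ i, θ (single i l 1) = single i l 1) (h3 : θ (single o l (g : K)) = single o l (g : K))
    (Y : Matrix (Fin n) (Fin n) K) : θ Y = Y := by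
  have h4 : ∀ i, θ (single l i 1) = single l i 1 := fun i => by
    have a1 : θ (single l i 1) = single l l (1 : K) * θ (single l i 1) * single i i (1 : K) := by
      conv_rhs => rw [← h1 l, ← h1 i, ← map_mul, ← map_mul]
      simp
    have a2 : single i l (1 : K) * θ (single l i 1) = single i i 1 := by
      conv_lhs => rw [← h2 i, ← map_mul]
      simpa using h1 i
    rw [single_mul_mul_single, one_mul, mul_one] at a1
    have a3 := congrFun (congrFun a2 i) i
    rw [single_mul_apply_same, one_mul, single_apply_same] at a3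
    rw [a1, a3]
  have h5 : ∀ i j, θ (single i j 1) = single i j 1 := fun i j => by
    have a1 : single i j (1 : K) = single i l (1 : K) * single l j (1 : K) := by simp
    rw [a1, map_mul, h2, h4]
  have h6 : ∀ (k : ℕ) i j, θ (single i j ((g : K) ^ k)) = single i j ((g : K) ^ k) := fun k => by
    induction k with
    | zero => simpa only [_root_.pow_zero] using h5
    | succ k ih =>
      intro i j
      have a1 : single i j ((g : K) ^ (k + 1)) = single i o ((g : K) ^ k) * single o l (g : K) * single l j (1 : K) := by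
        simp [pow_succ]
      rw [a1, map_mul, map_mul, ih, h3, h4]
  refine Matrix.induction_on' (P := fun Y => θ Y = Y) Y (map_zero θ) (fun p q hp hq => by rw [map_add, hp, hq])
    fun i j x => ?_
  by_cases hx : x = 0
  · rw [hx, single_zero, map_zero]
  · obtain ⟨k, hk⟩ := (mem_powers_iff_mem_zpowers.2 (hg (Units.mk0 x hx)))
    have a1 : x = (g : K) ^ k := (congrArg Units.val hk).symm.trans (Units.val_pow_eq_pow_val g k)
    rw [a1, h6]

theorem piL_eq_zero (c : Basis (Fin n) K (Fin m → K)) (x : LR (Fin m) K) : piL c x = 0 ↔ LR.mk 1 0 * x = 0 := by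
  obtain ⟨a, b, rfl⟩ := LR.exists_mk x
  rw [piL_apply, map_eq_zero_iff _ (LinearMap.toMatrix c c).injective,
    map_eq_zero_iff _ (Matrix.toLin' (R := K)).injective, LR.mk_mul, one_mul, zero_mul]
  exact ⟨fun h => Prod.ext h rfl, fun h => congrArg Prod.fst h⟩

theorem lift_SL (hm : 3 ≤ m) (F : FR (LR (Fin m) K)) (c : Basis (Fin n) K (Fin m → K))
    {X Y : Matrix (Fin n) (Fin n) K} (h : X * Y = 1) (hd : X.det = 1) :
    ∃ s ∈ F.S, ∀ x, piL c (s x) = X * piL c x * Y := by
  let ψ := (Matrix.toLinAlgEquiv' (R := K) (n := Fin m)).trans (LinearMap.toMatrixAlgEquiv c)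
  have h3 := congrArg ψ.symm h
  rw [map_mul, map_one] at h3
  let g : GL (Fin m) K := ⟨_, _, h3, mul_eq_one_comm.1 h3⟩
  have hr : (LR.gl (ι := Fin m) (F := K)).range = F.Iso := by
    ext u
    rw [LR.mem_gl]
    exact ⟨fun hu => mem_Iso_max (L_eq_max F) hu, fun hu => hu.1⟩
  have h4 : g ∈ commutator (GL (Fin m) K) := by
    rw [Cfsg.Agent.S0264.result m (by omega), MonoidHom.mem_ker]
    refine Units.ext ?_
    have h5 : LinearMap.toMatrix c c (Matrix.toLin' (ψ.symm X)) = X := ψ.apply_symm_apply X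
    change (ψ.symm X).det = 1
    rw [← LinearMap.det_toLin', ← LinearMap.det_toMatrix c, h5, hd]
  refine ⟨cj _ (LR.gl g), ⟨_, by rw [← hr, comm_range]; exact ⟨g, h4, rfl⟩, rfl⟩, fun x => ?_⟩
  rw [cj_apply, map_mul, map_mul, ← map_inv]
  congr 1
  · congr 1
    exact ψ.apply_symm_apply X
  · exact ψ.apply_symm_apply Y

theorem four_tor [Finite K] (hm : 3 ≤ m) (hn : 3 ≤ n) {F : FR (LR (Fin m) K)} (hA : SS (LR (Fin m) K))
    (c : Basis (Fin n) K (Fin m → K)) (e : Fin n → LR (Fin m) K) (he : ∀ i, piL c (e i) = single i i 1)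
    (hs : ∀ i, star (e i) = e i) {X Y : Matrix (Fin n) (Fin n) K} (hXY : X * Y = 1)
    (hX : ∀ i j, X i j = if i ≤ j then 1 else 0) (hY : ∀ i j, Y i j ≠ 0 → j.1 = i ∨ j.1 = i + 1) (hY' : ∀ i, Y i i = 1)
    {S : Subgroup (RingAut (LR (Fin m) K))} (hS : S ≤ SAut _) (hD : ∀ s ∈ S, ∀ i, ∃ j, s (e i) = e j) :
    Four F.S S := by
  have hYX := mul_eq_one_comm.1 hXY
  obtain ⟨g, hg⟩ := IsCyclic.exists_generator (α := Kˣ)
  let o : Fin n := ⟨0, by omega⟩
  let l : Fin n := ⟨n - 1, by omega⟩
  have hol : o ≠ l := fun h => by have := congrArg Fin.val h; simp only [o, l] at this; omega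
  have hl : ∀ i, i ≤ l := fun i => Nat.le_sub_one_of_lt i.2
  obtain ⟨x, hx, hx'⟩ := lift_SL hm F c hXY (by
    rw [Matrix.det_of_isUpperTriangular fun i j (hij : j < i) => by rw [hX, if_neg (not_le.2 hij)]]
    simp only [hX, _root_.Std.le_refl, ↓ _root_.reduceIte, _root_.Finset.prod_const_one])
  have hNN : single o l (g : K) * single o l (g : K) = 0 := single_mul_single_of_ne _ _ _ _ hol.symm _
  obtain ⟨y, hy, hy'⟩ := lift_SL hm F c (X := 1 + single o l (g : K)) (Y := 1 - single o l (g : K))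
    (by rw [add_mul, mul_sub, mul_sub, hNN]; simp) (Matrix.det_transvection_of_ne o l hol _)
  refine four_of_two hx hy fun s s0 s1 s2 => ?_
  choose σ hσ using hD s s0
  choose τ hτ using hD _ s1
  obtain ⟨j₀, hj₀⟩ := hD _ s2 l
  have hτ' : ∀ j, s (x (e j)) = x (e (τ j)) := fun j => by rw [← hτ, ra_mul, ra_mul, ra_apply_inv]
  have hj₀' : s (y (e l)) = y (e j₀) := by rw [← hj₀, ra_mul, ra_mul, ra_apply_inv]
  have a1 : ∀ i j, piL c (e i * x (e j)) = 0 ↔ ¬ i ≤ j := fun i j => by
    rw [map_mul, hx', he, he, ef_eq_zero hYX, hX]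
    simp
  rcases hA.map_eps eps_L (hS s0) with hε | hε
  · have a2 : ∀ z, piL c (s z) = 0 ↔ piL c z = 0 := fun z => by
      rw [piL_eq_zero, piL_eq_zero, ← hε, ← map_mul, hε, map_eq_zero_iff _ s.injective]
    have a3 : ∀ i j, σ i ≤ τ j ↔ i ≤ j := fun i j => by
      rw [← not_iff_not, ← a1, ← a1, ← hσ, ← hτ', ← map_mul, a2]
    have a4 : ∀ i, σ i = i := fun i => congrFun (StrictMono.eq_id (f := σ) fun i i' h =>
      ((a3 i i).2 le_rfl).trans_lt (not_le.1 fun h1 => h.not_ge ((a3 i' i).1 h1))) i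
    have a5 : ∀ i, τ i = i := fun i => congrFun (StrictMono.eq_id (f := τ) fun i i' h =>
      (not_le.1 fun h1 => h.not_ge ((a3 i' i).1 h1)).trans_le ((a3 i' i').2 le_rfl)) i
    have hsurj : Function.Surjective (piL c) :=
      ((Matrix.toLinAlgEquiv' (R := K) (n := Fin m)).trans (LinearMap.toMatrixAlgEquiv c)).surjective.comp
        Prod.fst_surjective
    let θ := (piL c).liftOfRightInverse _ (Function.rightInverse_surjInv hsurj)
      ⟨(piL c).comp (s : LR (Fin m) K →+* LR (Fin m) K), fun z hz => (a2 z).2 hz⟩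
    have hθ : ∀ z, θ (piL c z) = piL c (s z) := fun z => RingHom.liftOfRightInverse_comp_apply _ _ _ _ z
    have b1 : ∀ i, θ (single i i 1) = single i i 1 := fun i => by rw [← he, hθ, hσ, a4]
    have b2 : ∀ i, θ (single i l 1) = single i l 1 := fun i => by
      have b2 : piL c (e i * x (e l) * e l) = single i l 1 := by
        rw [map_mul, map_mul, hx', he, he, ← Matrix.mul_assoc, ← Matrix.mul_assoc, single_mul_mul_single,
          single_mul_mul_single, hX, if_pos (hl i), hY']
        simp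
      rw [← b2, hθ, map_mul s, map_mul s, hσ, hσ, hτ', a4, a4, a5]
    have b3 : piL c (y (e l)) = single l l 1 + single o l (g : K) := by
      rw [hy', he, add_mul, one_mul, single_mul_single_same, mul_one, mul_sub, mul_one, add_mul, hNN,
        single_mul_single_of_ne _ _ _ _ hol.symm]
      simp
    have b4 : j₀ = l := by
      by_contra hne
      have b4 := hθ (e l * y (e l) * e l)
      rw [map_mul s, map_mul s, hσ, a4, hj₀', map_mul (piL c), map_mul (piL c), map_mul (piL c), map_mul (piL c), b3,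
        hy', he, he, single_mul_mul_single, single_mul_mul_single] at b4
      have b5 : (single l l (1 : K) + single o l (g : K)) l l = 1 := by simp [hol]
      have b6 : ((1 + single o l (g : K)) * single j₀ j₀ (1 : K) * (1 - single o l (g : K))) l l = 0 := by
        rw [Matrix.mul_apply]
        refine Finset.sum_eq_zero fun k _ => ?_
        by_cases hk : k = j₀
        · rw [hk, mul_single_apply_same]
          simp [hol, Ne.symm hne]
        · rw [mul_single_apply_of_ne _ _ _ _ _ hk, zero_mul]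
      rw [b5, b6, one_mul, mul_one, b1, mul_zero, zero_mul, single_zero] at b4
      exact one_ne_zero (single_eq_zero_iff.1 b4)
    have b5 : θ (single o l (g : K)) = single o l (g : K) := by
      have b5 := congrArg (piL c) hj₀'
      rwa [← hθ, b4, b3, map_add, b1, add_right_inj] at b5
    have b6 : ∀ z, piL c (s z) = piL c z := fun z => by rw [← hθ, eq_id_of_units θ hg b1 b2 b5]
    ext z
    have b7 := (piL_eq_zero c (s z - z)).1 (by rw [map_sub, b6, sub_self])
    have b8 := (piL_eq_zero c (star (s z - z))).1 (by rw [star_sub, ← hS s0, map_sub, b6, sub_self])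
    rw [← eps_L.comm, ← star_star (LR.mk 1 0), ← star_mul, star_eq_zero] at b8
    rw [ra_one, ← sub_eq_zero, eps_L.split (s z - z), b7, b8, add_zero]
  · exfalso
    have a2 : ∀ z, piL c (star (s z)) = 0 ↔ piL c z = 0 := fun z => by
      rw [piL_eq_zero, piL_eq_zero, ← eps_L.comm, ← star_star (LR.mk 1 0), ← star_mul, star_eq_zero, star_star, ← hε,
        ← map_mul, map_eq_zero_iff _ s.injective]
    have a3 : ∀ i j, Y (τ j) (σ i) = 0 ↔ ¬ i ≤ j := fun i j => by
      rw [← a1, ← a2, map_mul, hσ, hτ', star_mul, ← F.Aut_le_SAut (F.S_le_Aut hx), hs, hs, map_mul, hx', he, he,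
        fe_eq_zero hYX]
    have a4 : ∀ j j', j < j' → (τ j).1 ≠ τ j' := fun j j' h e' => by
      have a4 := a3 j' j
      rw [Fin.ext e', a3] at a4
      exact a4.2 h.not_ge le_rfl
    have a5 := fun j => hY _ _ fun h => (a3 o j).1 h (Nat.zero_le _)
    have b0 := a5 ⟨0, by omega⟩
    have b1 := a5 ⟨1, by omega⟩
    have b2 := a5 ⟨2, by omega⟩
    have c0 := a4 ⟨0, by omega⟩ ⟨1, by omega⟩ (by simp)
    have c1 := a4 ⟨0, by omega⟩ ⟨2, by omega⟩ (by simp)
    have c2 := a4 ⟨1, by omega⟩ ⟨2, by omega⟩ (by simp)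
    omega

/-- the shape of a frame of points -/
def shT (n : ℕ) : Cert := ⟨n, n, 228, 0, [], [], [], [], [], 0, 0, 0, 0, [], [], [], 0, 0, 0, 0, []⟩

theorem four_tor' [Finite K] (hm : 3 ≤ m) {F : FR (LR (Fin m) K)} (hA : SS (LR (Fin m) K))
    {D : Finset (LR (Fin m) K)} (hD : Fr D) (h1 : Many rkL D 1) {S : Subgroup (RingAut (LR (Fin m) K))}
    (hS : S ≤ SAut _) (hinv : _root_.Cfsg.Agent.DS.Cl.Inv S D) : Four F.S S := by
  obtain ⟨n, hn⟩ : ∃ n, D.card = n := ⟨_, rfl⟩
  have hn' : n = 3 ∨ n = 4 := hn ▸ h1.1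
  obtain ⟨e, he⟩ := en_of_card hn
  let φ : LR (Fin m) K →+* End K (Fin m → K) :=
    ((Matrix.toLinAlgEquiv' (R := K) (n := Fin m)).toRingEquiv : Matrix (Fin m) (Fin m) K →+* _).comp fstL
  choose! v hv using fun b (hb : b < n) => exists_BB (E := φ (e b)) (d := 1)
    (by rw [← map_mul, hD.idem _ (he.mem b hb)]) (h1.2 _ (he.mem b hb))
  obtain ⟨c, -, hc⟩ := exists_basis (C := shT n) (ps := 0) (d := fun _ => 1)
    (by rcases hn' with rfl | rfl <;> decide) (fun b => φ (e b))
    (fun b hb b' hb' hne => by rw [← map_mul, he.orth hD hb hb' hne, map_zero])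
    (by rw [← map_sum]; exact (congrArg φ (he.sum hD)).trans (map_one φ)) v hv
  refine four_tor (n := n) hm (by omega) hA c (fun i => e i) (fun i => (hc i i.2).trans ?_)
    (fun i => hD.symm _ (he.mem i i.2)) (X := Matrix.of fun i j => if i ≤ j then 1 else 0)
    (Y := Matrix.of fun i j => if j.1 = i then 1 else if j.1 = i + 1 then -1 else 0) ?_ (fun _ _ => rfl)
    (fun i j h => ?_) (fun i => by simp) hS fun s hs i => ?_
  · have h2 : ∀ i < 4, dig 228 i = i := by decide
    rw [← diagonal_single]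
    refine congrArg Matrix.diagonal (funext fun j => ?_)
    have h3 : dig (shT n).bl j = j := h2 j (by have : j.1 < n := j.2; omega)
    simp only [Cert.inB, h3, Nat.beq_eq]
    exact (if_congr Fin.ext_iff.symm rfl rfl).trans (Pi.single_apply i (1 : K) j).symm
  · rcases hn' with rfl | rfl <;> ext i j
    · rw [Matrix.mul_apply, Fin.sum_univ_three]
      (revert i j; simp only [_root_.Fin.forall_fin_succ, Fin.isValue, _root_.Matrix.of_apply, _root_.nonpos_iff_eq_zero, _root_.Fin.coe_ofNat_eq_mod, _root_.Nat.zero_mod, _root_.Fin.val_eq_zero_iff, _root_.zero_add, _root_.mul_ite, _root_.mul_one, _root_.mul_neg, _root_.MulZeroClass.mul_zero, _root_.Nat.one_mod, Nat.reduceAdd, _root_.Nat.mod_succ, ↓reduceIte, _root_.zero_ne_one, _root_.OfNat.zero_ne_ofNat, _root_.add_zero, _root_.Fin.succ_ne_zero, _root_.Fin.val_succ, _root_.Nat.add_eq_right, Nat.reduceEqDiff, _root_.Fin.val_eq_zero, _root_.IsEmpty.forall_iff, _root_.and_true, _root_.Matrix.one_apply_eq, _root_.zero_le, _root_.neg_add_cancel,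 _root_.Fin.succ_zero_eq_one, _root_.ne_eq, _root_.not_false_eq_true, _root_.Matrix.one_apply_ne, _root_.Fin.succ_one_eq_two, Fin.reduceEq, _root_.and_self, _root_.neg_zero, _root_.true_and, _root_.Std.le_refl, Fin.reduceLE])
    · rw [Matrix.mul_apply, Fin.sum_univ_four]
      (revert i j; simp only [_root_.Fin.forall_fin_succ, Fin.isValue, _root_.Matrix.of_apply, _root_.nonpos_iff_eq_zero, _root_.Fin.coe_ofNat_eq_mod, _root_.Nat.zero_mod, _root_.Fin.val_eq_zero_iff, _root_.zero_add, _root_.mul_ite, _root_.mul_one, _root_.mul_neg, _root_.MulZeroClass.mul_zero, _root_.Nat.one_mod, Nat.reduceAdd, Nat.reduceMod, _root_.Nat.mod_succ, ↓reduceIte, _root_.zero_ne_one, _root_.OfNat.zero_ne_ofNat, _root_.add_zero, _root_.Fin.succ_ne_zero, _root_.Fin.val_succ, _root_.Nat.add_eq_right, Nat.reduceEqDiff, _root_.Fin.val_eq_zero, _root_.IsEmpty.forall_iff, _root_.and_true, _root_.Matrix.one_apply_eq, _root_.zero_le, _root_.neg_add_cancel, _root_.Fin.succ_zero_eq_one, _root_.ne_eq, _root_.not_false_eq_true,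 _root_.Matrix.one_apply_ne, _root_.Fin.succ_one_eq_two, Fin.reduceEq, Fin.reduceSucc, _root_.and_self, _root_.neg_zero, _root_.true_and, _root_.Std.le_refl, Fin.reduceLE])
  · by_contra h2
    rw [not_or] at h2
    simp [h2.1, h2.2] at h
  · obtain ⟨j, hj, h2⟩ := he.inv hinv s hs i i.2
    exact ⟨⟨j, hj⟩, h2⟩

theorem rowLFr : RowLFr := by
  intro K _ _ m F S D hm _ hc hD hinv H
  refine hc.good_of_four ?_
  rcases H with H | ⟨⟨ht, H⟩, hK⟩ | ⟨hK, H | H⟩
  · exact four_tor' hm hc.ss hD H hc.le_SAut hinv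
  · rcases card_le_three hK with hK | hK <;> rcases ht with ht | ht <;> obtain ⟨e, he⟩ := en_of_card ht
    · exact four_l Nat.prime_two (by norm_num) hK hc.ss cL2_222 cL2_222_0 cL2_222_1 cL2_222_2 cL2_222_3 cL2_222_4
        cL2_222_5 hD he (fun b hb => H _ (he.mem b hb)) hc.le_SAut hinv
    · exact four_l Nat.prime_two (by norm_num) hK hc.ss cL2_2222 cL2_2222_0 cL2_2222_1 cL2_2222_2 cL2_2222_3 cL2_2222_4
        cL2_2222_5 hD he (fun b hb => H _ (he.mem b hb)) hc.le_SAut hinv
    · exact four_l Nat.prime_three (by norm_num) hK hc.ss cL3_222 cL3_222_0 cL3_222_1 cL3_222_2 cL3_222_3 cL3_222_4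
        cL3_222_5 hD he (fun b hb => H _ (he.mem b hb)) hc.le_SAut hinv
    · exact four_l Nat.prime_three (by norm_num) hK hc.ss cL3_2222 cL3_2222_0 cL3_2222_1 cL3_2222_2 cL3_2222_3
        cL3_2222_4 cL3_2222_5 hD he (fun b hb => H _ (he.mem b hb)) hc.le_SAut hinv
  · obtain ⟨e, he, hr⟩ := en_of_two H
    exact four_l Nat.prime_three (by norm_num) hK hc.ss cL3_12 cL3_12_0 cL3_12_1 cL3_12_2 cL3_12_3 cL3_12_4
      cL3_12_5 hD he hr hc.le_SAut hinv
  · obtain ⟨e, he, hr⟩ := en_of_two H
    exact four_l Nat.prime_three (by norm_num) hK hc.ss cL3_22 cL3_22_0 cL3_22_1 cL3_22_2 cL3_22_3 cL3_22_4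
      cL3_22_5 hD he (fun b hb => (hr b hb).trans (Bool.cond_self _ _)) hc.le_SAut hinv

end Cfsg.Agent.SB.Idem
end

-- part: SB/Tor/O2
section
/-!
# S5765, classical groups: the row `O₂^ε(q) ≀ S₄` (helper90)
-/

set_option autoImplicit false
set_option linter.unusedSectionVars false

namespace Cfsg.Agent.SB.Tor

open Cfsg Cfsg.Agent.DS.Cl Cfsg.Agent.DS.Cl.Fwd Module QuadraticMap

variable {K V : Type} [Field K] [Finite K] [AddCommGroup V] [Module K V] [Finite V] {h : HF K V}
  {F : FR h.EB} {Q : QuadraticForm K V} {D : Finset h.EB} {e : Fin 4 → h.EB}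

theorem four_ne : ∀ i j k m : Fin 4, (∀ t, t = i ∨ t = j ∨ t = k ∨ t = m) →
    i ≠ j ∧ i ≠ k ∧ i ≠ m ∧ j ≠ k ∧ j ≠ m ∧ k ≠ m := by decide +kernel

/-- three reflections -/
theorem four_O2 (hO : Cl.IsO h F Q) (hD : Fr D) (he : Function.Injective e) (hm : ∀ a, a ∈ D ↔ ∃ i, e i = a)
    (h2 : ∀ a ∈ D, Cl.rk h a = 2) {x y : Fin 4 → V} (hx : ∀ i, h.ap (e i) (x i) = x i)
    (hy : ∀ i, h.ap (e i) (y i) = y i) (hxy : ∀ i, Ind K (x i) (y i)) (q₁ : Q (x 0) + Q (x 1) + Q (x 2) ≠ 0)
    (q₂ : Q (y 1) + Q (y 2) + Q (x 3) ≠ 0) (q₃ : Q (y 0) + Q (x 2 + y 2) + Q (y 3) ≠ 0)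
    (hσ : ∀ (σ : K ≃+* K) (ν : K), ν * Q (x 0) = σ (Q (x 0)) → ν * Q (x 1) = σ (Q (x 1)) → ∀ c, σ c = c) :
    Four F.S (St F D) := by
  have hmem : ∀ i, e i ∈ D := fun i => (hm _).2 ⟨i, rfl⟩
  have hz : ∀ {i j : Fin 4}, i ≠ j → ∀ {w}, h.ap (e j) w = w → h.ap (e i) w = 0 := fun hij _ hw =>
    Fr.ap_eq_zero h hD (hmem _) (hmem _) (fun e => hij (he e)) hw
  have hxy2 : h.ap (e 2) (x 2 + y 2) = x 2 + y 2 := by rw [map_add, hx, hy]
  -- a vector with three components
  have key : ∀ (i j k m : Fin 4) (a b c : V), (∀ t, t = i ∨ t = j ∨ t = k ∨ t = m) → h.ap (e i) a = a →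
      h.ap (e j) b = b → h.ap (e k) c = c → a ≠ 0 → b ≠ 0 → c ≠ 0 → Q a + Q b + Q c ≠ 0 →
      ∃ t ∈ F.S, ∀ s ∈ St F D, t⁻¹ * s * t ∈ St F D → ∀ (L : SL h s) (π : Fin 4 → Fin 4), Function.Injective π →
        (∀ i, s (e i) = e (π i)) → π m = m ∧ ((∀ i, π i = i) → ∃ l : K, L.g a = l • a ∧ L.g b = l • b ∧ L.g c = l • c) := by
    intro i j k m a b c hall ha hb hc a0 b0 c0 hq
    obtain ⟨hij, hik, him, hjk, hjm, hkm⟩ := four_ne i j k m hall
    have c₁ : h.ap (e i) (a + b + c) = a := by rw [map_add, map_add, ha, hz hij hb, hz hik hc, add_zero, add_zero]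
    have c₂ : h.ap (e j) (a + b + c) = b := by
      rw [map_add, map_add, hb, hz hij.symm ha, hz hjk hc, add_zero, zero_add]
    have c₃ : h.ap (e k) (a + b + c) = c := by
      rw [map_add, map_add, hc, hz hik.symm ha, hz hjk.symm hb, add_zero, zero_add]
    have c₄ : h.ap (e m) (a + b + c) = 0 := by
      rw [map_add, map_add, hz him.symm ha, hz hjm.symm hb, hz hkm.symm hc, add_zero, add_zero]
    have ho : ∀ {i j : Fin 4}, i ≠ j → ∀ {v w}, h.ap (e i) v = v → h.ap (e j) w = w → h.b v w = 0 :=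
      fun hij _ _ hv hw => Fr.b_eq_zero h hD (hmem _) (hmem _) (fun e => hij (he e)) hv hw
    have hQ : Q (a + b + c) ≠ 0 := by
      rwa [O_add hO, O_add hO, h.add_left, ho hij ha hb, ho hik ha hc, ho hjk hb hc, add_zero, add_zero, add_zero]
    obtain ⟨r, hr, t, ht, htS⟩ := exists_refl hO hD (hmem 0) (h2 _ (hmem 0)) hQ
    refine ⟨t, ht, fun s hs hst L π hπ hπe => ?_⟩
    obtain ⟨l, hl⟩ := fix_line hD (big_of hD fun a ha => (h2 a ha).ge) (v := a + b + c)
      ⟨e i, hmem i, e j, hmem j, e k, hmem k, fun e => hij (he e), fun e => hik (he e), fun e => hjk (he e),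
        by rwa [c₁], by rwa [c₂], by rwa [c₃]⟩ (inv_ne_zero hQ) hr hs (htS s hst) L
    have hl0 : l ≠ 0 := by
      rintro rfl
      rw [zero_smul, map_eq_zero_iff _ L.g.injective] at hl
      exact hQ (by rw [hl, map_zero])
    have h3 : ∀ t, l • h.ap (e (π t)) (a + b + c) = L.g (h.ap (e t) (a + b + c)) := fun t => by
      rw [← map_smul, ← hl, ← hπe, L.conj]
    refine ⟨?_, fun hid => ⟨l, ?_, ?_, ?_⟩⟩
    · have h4 := h3 m
      rw [c₄, map_zero, smul_eq_zero_iff_right hl0] at h4
      rcases hall (π m) with h5 | h5 | h5 | h5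
      · rw [h5, c₁] at h4
        exact absurd h4 a0
      · rw [h5, c₂] at h4
        exact absurd h4 b0
      · rw [h5, c₃] at h4
        exact absurd h4 c0
      · exact h5
    · have h4 := h3 i
      rw [hid, c₁] at h4
      exact h4.symm
    · have h4 := h3 j
      rw [hid, c₂] at h4
      exact h4.symm
    · have h4 := h3 k
      rw [hid, c₃] at h4
      exact h4.symm
  obtain ⟨t₁, a₁, b₁⟩ := key 0 1 2 3 _ _ _ (by decide) (hx 0) (hx 1) (hx 2) (hxy 0).left_ne (hxy 1).left_ne
    (hxy 2).left_ne q₁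
  obtain ⟨t₂, a₂, b₂⟩ := key 1 2 3 0 _ _ _ (by decide) (hy 1) (hy 2) (hx 3) (hxy 1).right_ne (hxy 2).right_ne
    (hxy 3).left_ne q₂
  obtain ⟨t₃, a₃, b₃⟩ := key 0 2 3 1 _ _ _ (by decide) (hy 0) hxy2 (hy 3) (hxy 0).right_ne (hxy 2).add_ne
    (hxy 3).right_ne q₃
  refine ⟨t₁, a₁, t₂, a₂, t₃, a₃, fun s hs c₁ c₂ c₃ => ?_⟩
  have : Nontrivial V := ⟨_, _, (hxy 0).left_ne⟩
  obtain ⟨L⟩ := exists_SL h hs.1.1
  obtain ⟨π, hπ, hπe⟩ := exists_perm he hm hs
  obtain ⟨p₁, d₁⟩ := b₁ s hs c₁ L π hπ hπe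
  obtain ⟨p₂, d₂⟩ := b₂ s hs c₂ L π hπ hπe
  obtain ⟨p₃, d₃⟩ := b₃ s hs c₃ L π hπ hπe
  have hid : ∀ i, π i = i := by
    have h3 : π 2 = 2 := by
      rcases (by decide : ∀ t : Fin 4, t = 0 ∨ t = 1 ∨ t = 2 ∨ t = 3) (π 2) with h3 | h3 | h3 | h3
      · exact absurd (hπ (h3.trans p₂.symm)) (by decide)
      · exact absurd (hπ (h3.trans p₃.symm)) (by decide)
      · exact h3
      · exact absurd (hπ (h3.trans p₁.symm)) (by decide)
    intro i
    fin_cases i
    exacts [p₂, p₃, h3, p₁]
  obtain ⟨l, x0, x1, x2⟩ := d₁ hid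
  obtain ⟨l', y1, y2, x3⟩ := d₂ hid
  obtain ⟨l'', y0, z2, y3⟩ := d₃ hid
  rw [map_add, x2, y2] at z2
  obtain ⟨e₁, e₂⟩ := hxy 2 (l - l'') (l' - l'') (by rw [sub_smul, sub_smul, sub_add_sub_comm, z2, smul_add, sub_self])
  rw [sub_eq_zero] at e₁ e₂
  subst e₁ e₂
  have h3 : ∀ w, L.g w = l' • w → l' * l' / L.μ * Q w = L.σ (Q w) := fun w hw => by
    have h4 := L.quad hO hs.1 w
    rw [hw, QuadraticMap.map_smul, smul_eq_mul] at h4
    rw [div_mul_eq_mul_div, h4, mul_div_cancel_left₀ _ L.μ_ne]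
  have h4 := hσ L.σ _ (h3 _ x0) (h3 _ x1)
  have h5 : ∀ i, L.g (x i) = l' • x i := fun i => by
    fin_cases i
    exacts [x0, x1, x2, x3]
  have h6 : ∀ i, L.g (y i) = l' • y i := fun i => by
    fin_cases i
    exacts [y0, y1, y2, y3]
  refine L.eq_one (c := l') fun w => ?_
  have h7 : h.ap (∑ a ∈ D, a) w = ∑ a ∈ D, h.ap a w := LinearMap.sum_apply D (fun a => h.ap a) w
  rw [hD.sum, h.ap_one] at h7
  rw [h7, map_sum, Finset.smul_sum]
  refine Finset.sum_congr rfl fun a ha => ?_
  obtain ⟨i, rfl⟩ := (hm a).1 ha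
  obtain ⟨c, d, hcd⟩ := span_two (h2 _ ha) (hx i) (hy i) (hxy i) (z := h.ap (e i) w) (by rw [← h.ap_mul, hD.idem _ ha])
  rw [← hcd, map_add, L.smul, L.smul, h4, h4, h5, h6]
  module

theorem exists_ind_ne (hO : Cl.IsO h F Q) (hD : Fr D) {a : h.EB} (ha : a ∈ D) (h2 : Cl.rk h a = 2) {ω : K}
    (h0 : ω ≠ 0) (h1 : ω ≠ 1) {x : V} (hx : h.ap a x = x) (hQ : Q x ≠ 0) (C : K) :
    ∃ y, h.ap a y = y ∧ Ind K x y ∧ Q y ≠ C := by
  by_contra hcon
  push Not at hcon
  obtain ⟨y, hy, hxy⟩ := exists_ind h2.ge (hD.idem a ha) (x := x) fun h0 => hQ (by rw [h0, map_zero])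
  have h3 : ∀ t : K, Q y + t * t * Q x + t * h.b y x = C := fun t => by
    rw [← hcon (y + t • x) (by rw [map_add, map_smul, hx, hy]) (hxy.add_right t), O_add hO, QuadraticMap.map_smul,
      h.smul_right, hO.1, smul_eq_mul]
  apply mul_ne_zero (mul_ne_zero h0 (sub_ne_zero.2 h1)) hQ
  linear_combination h3 ω - ω * h3 1 + (ω - 1) * h3 0

theorem exists_val_ne (hO : Cl.IsO h F Q) (hD : Fr D) {a : h.EB} (ha : a ∈ D) (h2 : Cl.rk h a = 2) {ω : K}
    (h0 : ω ≠ 0) (h1 : ω ≠ 1) (C : K) : ∃ x, h.ap a x = x ∧ Q x ≠ 0 ∧ Q x ≠ C := by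
  by_cases hC : C = 1
  · obtain ⟨x, hx, hQ⟩ := exists_val hO hD ha h2 ω
    exact ⟨x, hx, hQ ▸ h0, by rw [hQ, hC]; exact h1⟩
  · obtain ⟨x, hx, hQ⟩ := exists_val hO hD ha h2 1
    exact ⟨x, hx, hQ ▸ one_ne_zero, hQ ▸ Ne.symm hC⟩

theorem rowO2 : Cl.RowO2 := by
  intro K V _ _ _ _ _ h F Q S D hO hV H hD hS hI hM
  obtain ⟨e, he, hm⟩ := exists_four (card_four h hD.sum two_pos hV hM)
  have hmem : ∀ i, e i ∈ D := fun i => (hm _).2 ⟨i, rfl⟩
  have hne : ∀ {x : V}, Q x ≠ 0 → x ≠ 0 := fun hx h0 => hx (by rw [h0, map_zero])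
  refine good_of_four H (le_St H.le hS) ?_
  obtain ⟨ω, h0, hgen, -⟩ := H324.FC.exists_gen K
  by_cases h1 : ω = 1
  · have hK : ∀ c : K, c = 0 ∨ c = 1 := fun c => by
      by_cases hc : c = 0
      · exact Or.inl hc
      · obtain ⟨k, rfl⟩ := hgen c hc
        exact Or.inr (by rw [h1, one_pow])
    have h2 : (2 : K) = 0 := (hK 2).resolve_right fun e => one_ne_zero (α := K) (by linear_combination e)
    obtain ⟨n, hn, hQn⟩ := exists_nonsing hO hD (hmem 0)
    obtain ⟨a, ha, han⟩ := Fr.exists_ne h hD (hmem 0) hn (hne hQn)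
    have hna : Ind K n a := ind_of_ne (hne hQn) fun c hc => han (by
      rw [hc, h.smul_left, O_self hO, h2, zero_mul, mul_zero])
    replace hQn : Q n = 1 := (hK _).resolve_left hQn
    replace han : h.b a n = 1 := (hK _).resolve_left han
    have hQa : Q (a + n) = Q a := by
      rw [O_add hO, hQn, han]
      linear_combination h2
    choose u hu hue using fun i => hI _ (hmem 0) _ (hmem i)
    have hQ : ∀ i w, Q (h.ap (u i) w) = Q w := fun i => (mem_Iso_O hO _).1 (hu i)
    have hf : ∀ i w, h.ap (e 0) w = w → h.ap (e i) (h.ap (u i) w) = h.ap (u i) w := fun i w hw => by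
      rw [← hue i, ← h.ap_mul, cj_mul_eq, h.ap_mul, hw]
    have han' : h.ap (e 0) (a + n) = a + n := by rw [map_add, ha, hn]
    have i₁ : Ind K a (a + n) := by simpa only [one_smul, add_comm] using hna.symm.add_right 1
    refine four_O2 hO hD he hm hM.2 (x := fun i => h.ap (u i) (![n, a, a, a] i))
      (y := fun i => h.ap (u i) (![a, n, a + n, a + n] i)) (fun i => hf i _ ?_) (fun i => hf i _ ?_)
      (fun i => Ind.map ?_ _) ?_ ?_ ?_ fun σ _ _ _ c => ?_
    · fin_cases i
      exacts [hn, ha, ha, ha]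
    · fin_cases i
      exacts [ha, hn, han', han']
    · fin_cases i
      exacts [hna, hna.symm, i₁, i₁]
    · simp only [hQ]
      change Q n + Q a + Q a ≠ 0
      rw [hQn, add_assoc, ← two_mul, h2, zero_mul, add_zero]
      exact one_ne_zero
    · simp only [hQ]
      change Q n + Q (a + n) + Q a ≠ 0
      rw [hQn, hQa, add_assoc, ← two_mul, h2, zero_mul, add_zero]
      exact one_ne_zero
    · simp only [← map_add, hQ]
      change Q a + Q (a + (a + n)) + Q (a + n) ≠ 0
      rw [← add_assoc, ← two_smul K a, h2, zero_smul, zero_add, hQn, hQa, add_right_comm, ← two_mul, h2, zero_mul,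
        zero_add]
      exact one_ne_zero
    · rcases hK c with rfl | rfl
      exacts [map_zero σ, map_one σ]
  have r : ∀ i, Cl.rk h (e i) = 2 := fun i => hM.2 _ (hmem i)
  obtain ⟨x0, a0, q0⟩ := exists_val hO hD (hmem 0) (r 0) 1
  obtain ⟨x1, a1, q1⟩ := exists_val hO hD (hmem 1) (r 1) ω
  obtain ⟨x2, a2, q2, q2'⟩ := exists_val_ne hO hD (hmem 2) (r 2) h0 h1 (-(Q x0 + Q x1))
  obtain ⟨y0, b0, i0⟩ := exists_ind (r 0).ge (hD.idem _ (hmem 0)) (hne (q0 ▸ one_ne_zero))
  obtain ⟨y1, b1, i1⟩ := exists_ind (r 1).ge (hD.idem _ (hmem 1)) (hne (q1 ▸ h0))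
  obtain ⟨y2, b2, i2⟩ := exists_ind (r 2).ge (hD.idem _ (hmem 2)) (hne q2)
  obtain ⟨x3, a3, q3, q3'⟩ := exists_val_ne hO hD (hmem 3) (r 3) h0 h1 (-(Q y1 + Q y2))
  obtain ⟨y3, b3, i3, q4⟩ := exists_ind_ne hO hD (hmem 3) (r 3) h0 h1 a3 q3 (-(Q y0 + Q (x2 + y2)))
  refine four_O2 hO hD he hm hM.2 (x := ![x0, x1, x2, x3]) (y := ![y0, y1, y2, y3]) (fun i => ?_) (fun i => ?_)
    (fun i => ?_) (fun e => q2' (eq_neg_of_add_eq_zero_right e)) (fun e => q3' (eq_neg_of_add_eq_zero_right e))
    (fun e => q4 (eq_neg_of_add_eq_zero_right e)) fun σ ν s0 s1 c => ?_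
  · fin_cases i
    exacts [a0, a1, a2, a3]
  · fin_cases i
    exacts [b0, b1, b2, b3]
  · fin_cases i
    exacts [i0, i1, i2, i3]
  · replace s0 : ν * Q x0 = σ (Q x0) := s0
    replace s1 : ν * Q x1 = σ (Q x1) := s1
    rw [q0, map_one, mul_one] at s0
    rw [q1, s0, one_mul] at s1
    by_cases hc : c = 0
    · rw [hc, map_zero]
    · obtain ⟨k, rfl⟩ := hgen c hc
      rw [map_pow, ← s1]

end Cfsg.Agent.SB.Tor
end

-- part: SB/Fr/Main
section
/-!
# S5765, classical groups: `MainL`, `MainU`, `MainSp`, `MainO` (helper93)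
-/

set_option autoImplicit false

namespace Cfsg.Agent.SB.Fr

open Cfsg Cfsg.Agent.DS.Cl Cfsg.Agent.DS.Cl.Fwd Cfsg.Agent.SB.Cl Module LinearMap

section gen

variable {A : Type} [Ring A] [StarRing A] {F : FR A} {D : Finset A}

theorem Cj.rk_le {K V : Type} [Field K] [AddCommGroup V] [Module K V] [Module.Finite K V] (π : A →+* End K V) {e f : A}
    (h : Cj F e f) : finrank K (range (π f)) ≤ finrank K (range (π e)) := by
  obtain ⟨u, -, rfl⟩ := h
  refine (Submodule.finrank_mono ?_).trans (Submodule.finrank_map_le (π u) (range (π e)))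
  rintro _ ⟨v, rfl⟩
  exact ⟨_, ⟨π (u⁻¹ : Aˣ) v, rfl⟩, by rw [cj_apply, map_mul, map_mul]; rfl⟩

theorem num {r : A → ℕ} {n : ℕ} (hs : n = ∑ e ∈ D, r e) (hr : ∀ e f, Cj F e f → r f ≤ r e) {P : ℕ → Prop}
    (hP : ∀ e ∈ D, P (r e)) (hc : D.card = 2 ∨ ((D.card = 3 ∨ D.card = 4) ∧ Isom F D)) :
    (∃ a b, a ≤ b ∧ P a ∧ P b ∧ n = a + b ∧ _root_.Cfsg.Agent.SB.Cl.Two r D a b) ∨
      ∃ d, P d ∧ (n = 3 * d ∨ n = 4 * d) ∧ Many r D d ∧ Isom F D := by
  classical
  rcases hc with h2 | ⟨h2, hI⟩
  · obtain ⟨e, f, hef, h3⟩ := Finset.card_eq_two.1 h2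
    have he : e ∈ D := by simp [h3]
    have hf : f ∈ D := by simp [h3]
    rw [h3, Finset.sum_pair hef] at hs
    rcases le_total (r e) (r f) with h4 | h4
    · exact Or.inl ⟨_, _, h4, hP e he, hP f hf, hs, h2, e, he, f, hf, hef, rfl, rfl⟩
    · exact Or.inl ⟨_, _, h4, hP f hf, hP e he, hs.trans (add_comm _ _), h2, f, hf, e, he, hef.symm, rfl, rfl⟩
  · obtain ⟨e, he⟩ : D.Nonempty := Finset.card_pos.1 (by omega)
    have h3 : ∀ f ∈ D, r f = r e := fun f hf => le_antisymm (hr _ _ (hI e he f hf)) (hr _ _ (hI f hf e he))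
    rw [Finset.sum_congr rfl h3, Finset.sum_const, smul_eq_mul] at hs
    exact Or.inr ⟨r e, hP e he, h2.imp (fun h => by rwa [h] at hs) fun h => by rwa [h] at hs, ⟨h2, h3⟩, hI⟩

end gen

section L

variable {n : ℕ} {K : Type} [Field K] [Finite K] {F : FR (LR (Fin n) K)} {S : Subgroup (RingAut (LR (Fin n) K))}
  {D : Finset (LR (Fin n) K)}

omit [Finite K] in
theorem rkL_eq (e : LR (Fin n) K) : rkL e = finrank K (range (Fld.prL n K e)) := rfl

theorem exists_lift (F : FR (LR (Fin n) K)) {w w' : End K (Fin n → K)} (h1 : w * w' = 1) :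
    ∃ u ∈ F.Iso, Fld.prL n K u = w ∧ ∀ e f, star e = e → star f = f → w * Fld.prL n K e = Fld.prL n K f * w →
      (u : LR (Fin n) K) * e = f * u := by
  have hπ := C2.prL_bij (n := n) (K := K)
  obtain ⟨ε, hε, -, -⟩ := C2.L_eps hπ
  have h2 : w' * w = 1 := mul_eq_one_comm.1 h1
  obtain ⟨u, h3, h4⟩ := C2.L_surj hπ w w'
  have h5 : u * star u = 1 := C2.L_inj hπ (by simp only [h3, h4, h1, _root_.map_mul, _root_.map_one]) (by simp only [h3, h4, h1, _root_.StarMul.star_mul, _root_.star_star, _root_.map_mul, _root_.star_one, _root_.map_one])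
  refine ⟨mkU u h5, mem_Iso_max (F.L_eq hε.cen hε.add) h5, h3, fun e f he hf h6 => C2.L_inj hπ ?_ ?_⟩
  · rw [map_mul, map_mul, mkU_val, h3, h6]
  · rw [star_mul, star_mul, map_mul, map_mul, mkU_val, h4, he, hf, ← one_mul (_ * w'), ← h2, mul_assoc,
      ← mul_assoc w, h6, mul_assoc, h1, mul_one]

theorem rkL_cases (h : Cl.Ctx F S) (hD : Fr D) (hI : _root_.Cfsg.Agent.DS.Cl.Inv S D) {e : LR (Fin n) K} (he : e ∈ D) :
    rkL e = 1 ∨ (rkL e = 2 ∧ Nat.card K ≤ 3) := by
  have := Fintype.ofFinite K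
  have hE : Fld.prL n K e * Fld.prL n K e = Fld.prL n K e := by rw [← map_mul, hD.idem e he]
  have h1 := solv_block (Fld.prL n K) hE (solv_CU h hD hI) (X := ⊤) fun g _ => by
    obtain ⟨u, hu, h1, h2⟩ := exists_lift F (w := up hE g) (w' := up hE g⁻¹) (by rw [← map_mul, mul_inv_cancel, map_one])
    refine ⟨u, ⟨hu, fun f hf => h2 f f (hD.symm f hf) (hD.symm f hf) ?_⟩, h1⟩
    by_cases hef : f = e
    · rw [hef, up_mul, mul_up]
    · exact up_comm hE (by rw [← map_mul, hD.orth e he f hf (Ne.symm hef), map_zero])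
        (by rw [← map_mul, hD.orth f hf e he hef, map_zero]) g
  have h2 := C2.solv_lin ((C2.solv_of_equiv Subgroup.topEquiv.symm h1 :))
  have h3 : rkL e ≠ 0 := fun h3 => by
    have h4 : Fld.prL n K e = 0 := range_eq_bot.1 (Submodule.finrank_eq_zero.1 h3)
    exact hD.ne e he (C2.L_inj (by exact C2.prL_bij) (by rw [h4, map_zero]) (by rw [hD.symm e he, h4, star_zero, map_zero]))
  rw [← rkL_eq, ← Nat.card_eq_fintype_card] at h2
  omega

theorem cj_L (hD : Fr D) {e f : LR (Fin n) K} (he : e ∈ D) (hf : f ∈ D) (hef : e ≠ f) (hr : rkL e = rkL f) :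
    Cj F e f := by
  obtain ⟨w, h1, h2, -⟩ := exists_swp (E := Fld.prL n K e) (E' := Fld.prL n K f) (by rw [← map_mul, hD.idem e he])
    (by rw [← map_mul, hD.idem f hf]) (by rw [← map_mul, hD.orth e he f hf hef, map_zero])
    (by rw [← map_mul, hD.orth f hf e he hef.symm, map_zero]) (LinearEquiv.ofFinrankEq _ _ hr)
  obtain ⟨u, hu, -, h3⟩ := exists_lift F h1
  exact ⟨u, hu, cj_eq_of_mul (h3 e f (hD.symm e he) (hD.symm f hf) h2)⟩

theorem mainL : MainL := by
  intro K _ _ n F S h3 h4 h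
  by_cases hD : ∃ D : Finset (LR (Fin n) K), Fr D ∧ _root_.Cfsg.Agent.DS.Cl.Inv S D
  swap
  · rcases C2.nofrL h3 h4 h (fun D a b => hD ⟨D, a, b⟩) with ⟨Z, a1, a2, a3, a4⟩ | ⟨Y, hY⟩
    · exact h.good_of_four (Fld.fourL F h.ss h3 h4 a1 a3 a4 h.le a2)
    · exact Tor.rowLExt K n F S Y h hY
  obtain ⟨D, hD⟩ := exists_minFr hD
  refine Idem.rowLFr K n F S D h3 h4 h hD.fr hD.inv ?_
  have h1 := fun e he => rkL_cases h hD.fr hD.inv (e := e) he
  have h2 := finrank_eq_sum (Fld.prL n K) hD.fr
  rw [finrank_fin_fun] at h2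
  rcases num (r := rkL) h2 (fun e f a => a.rk_le (Fld.prL n K)) (P := fun d => d = 1 ∨ (d = 2 ∧ Nat.card K ≤ 3)) h1
    (hD.cases h fun e he f hf g hg a1 a2 a3 _ _ => by
      have b1 := h1 e he
      have b2 := h1 f hf
      have b3 := h1 g hg
      have b4 : rkL e = rkL f ∨ rkL e = rkL g ∨ rkL f = rkL g := by (clear * - b1 b2 b3; solve | lia | omega)
      exact b4.imp (cj_L hD.fr he hf a1) (Or.imp (cj_L hD.fr he hg a2) (cj_L hD.fr hf hg a3))) with
    ⟨a, b, b1, b2, b3, b4, b5⟩ | ⟨d, rfl | ⟨rfl, b1⟩, -, b2, -⟩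
  · obtain ⟨rfl, b6⟩ : b = 2 ∧ Nat.card K = 3 := by omega
    refine Or.inr (Or.inr ⟨b6, ?_⟩)
    rcases b2 with rfl | ⟨rfl, -⟩
    exacts [Or.inl b5, Or.inr b5]
  · exact Or.inl b2
  · exact Or.inr (Or.inl ⟨b2, b1⟩)

end L

variable {K V : Type} [Field K] [Finite K] [AddCommGroup V] [Module K V] [Finite V] {h : HF K V} {F : FR h.EB}
  {S : Subgroup (RingAut h.EB)} {D : Finset h.EB} {Q : QuadraticForm K V}

theorem rk_map [Nontrivial V] {γ : RingAut h.EB} (hγ : γ ∈ SAut h.EB) (e : h.EB) : rk h (γ e) = rk h e := by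
  have : Module.Finite K V := Module.Finite.of_finite
  obtain ⟨L⟩ := Tor.exists_SL h hγ
  have h1 : Nat.card (range (h.ap e)) = Nat.card (range (h.ap (γ e))) :=
    Nat.card_congr (L.g.toEquiv.subtypeEquiv fun x => ⟨by
      rintro ⟨y, rfl⟩
      exact ⟨L.g y, L.conj e y⟩, by
      rintro ⟨y, hy⟩
      obtain ⟨y, rfl⟩ := L.g.surjective y
      exact ⟨y, L.g.injective ((L.conj e y).symm.trans hy)⟩⟩)
  rw [Module.natCard_eq_pow_finrank (K := K), Module.natCard_eq_pow_finrank (K := K) (V := range (h.ap (γ e)))] at h1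
  exact (Nat.pow_right_injective Finite.one_lt_card h1).symm

theorem b_split {p : h.EB} (hp : p * p = p) (hs : star p = p) (v w : V) :
    h.b v w = h.b (h.ap p v) (h.ap p w) + h.b (v - h.ap p v) (w - h.ap p w) := by
  have h1 : h.b (h.ap p v) (h.ap p w) = h.b v (h.ap p w) := by rw [Idem.b_idem h hs, ← h.ap_mul, hp]
  rw [h.sub_left, h.sub_right, h.sub_right, h1, Idem.b_idem h hs]
  ring

theorem Q_split (hO : IsO h F Q) {p : h.EB} (hp : p * p = p) (hs : star p = p) (v : V) :
    Q v = Q (h.ap p v) + Q (v - h.ap p v) := by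
  have h1 := Tor.O_add hO (h.ap p v) (v - h.ap p v)
  rwa [add_sub_cancel, Idem.b_idem h hs, map_sub (h.ap p), ← h.ap_mul, hp, sub_self, h.zero_right, add_zero] at h1

section blocks

variable (hD : Fr D) {e f : h.EB} (he : e ∈ D)
include hD he

theorem rk_ne : rk h e ≠ 0 := fun h0 => by
  have : Module.Finite K V := Module.Finite.of_finite
  exact hD.ne e he (range_eq_bot.1 (Submodule.finrank_eq_zero.1 h0))

theorem nondeg (v : range (h.ap e)) (hv : ∀ u : range (h.ap e), h.b u v = 0) : v = 0 :=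
  Subtype.ext (h.nondeg _ fun u => by
    have h1 : h.b (h.ap e u) v = 0 := hv ⟨h.ap e u, u, rfl⟩
    rwa [Idem.b_idem h (hD.symm e he), Idem.idem_of_mem h (hD.idem e he) v.2] at h1)

theorem solv_of (hx : Cl.Ctx F S) (hI : _root_.Cfsg.Agent.DS.Cl.Inv S D) {X : Subgroup (range (h.ap e) ≃ₗ[K] range (h.ap e))}
    (hX : ∀ g ∈ X, ∀ u : h.EBˣ, (∀ v, h.ap e (h.ap u v) = g ((h.ap e).rangeRestrict v)) →
      (∀ v, h.ap u v - h.ap e (h.ap u v) = v - h.ap e v) → u ∈ F.Iso) : Group.IsSolvable X := by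
  have hE : h.ap e * h.ap e = h.ap e := hD.idem e he
  refine solv_block (Fld.prU h) hE (solv_CU hx hD hI) fun g hg => ⟨(up hE).toHomUnits g,
    ⟨hX g hg _ (fun v => LinearMap.congr_fun (mul_up hE g) v) (up_sub hE g), fun f hf => ?_⟩, rfl⟩
  by_cases hef : f = e
  · rw [hef]
    exact (up_mul hE g).trans (mul_up hE g).symm
  · exact up_comm (E' := h.ap f) hE (hD.orth e he f hf (Ne.symm hef)) (hD.orth f hf e he hef) g

theorem solv_b (hL : F.L = Lmax h.EB) (hx : Cl.Ctx F S) (hI : _root_.Cfsg.Agent.DS.Cl.Inv S D) :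
    Group.IsSolvable (Vec.Isom K fun v w : range (h.ap e) => h.b v w) :=
  solv_of hD he hx hI fun g hg u h1 h2 => mem_Iso_max hL ((h.unit_iff u).2 fun x y => by
    rw [b_split (hD.idem e he) (hD.symm e he), h2, h2, h1, h1, b_split (hD.idem e he) (hD.symm e he) x y]
    exact congrArg (· + _) (hg _ _))

theorem solv_Q (hO : IsO h F Q) (hx : Cl.Ctx F S) (hI : _root_.Cfsg.Agent.DS.Cl.Inv S D) :
    Group.IsSolvable (LieClassical.OrthCore.O (Q.comp (range (h.ap e)).subtype)) :=
  solv_of hD he hx hI fun g hg u h1 h2 => (Tor.mem_Iso_O hO u).2 fun x => by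
    rw [Q_split hO (hD.idem e he) (hD.symm e he), h2, h1, Q_split hO (hD.idem e he) (hD.symm e he) x]
    exact congrArg (· + _) (hg _)

theorem nondeg_Q (hO : IsO h F Q) : (QuadraticMap.polarBilin (Q.comp (range (h.ap e)).subtype)).Nondegenerate := by
  have hp : ∀ x y : range (h.ap e), QuadraticMap.polar (Q.comp (range (h.ap e)).subtype) x y = h.b x y := fun x y => by
    rw [hO.2.1]
    simp only [QuadraticMap.polar, QuadraticMap.comp_apply, map_add]
    rfl
  exact ⟨fun x hx => nondeg hD he x fun y => by rw [Tor.O_symm hO, ← hp]; exact hx y,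
    fun x hx => nondeg hD he x fun y => by rw [← hp]; exact hx y⟩

variable (hf : f ∈ D) (hef : e ≠ f) (φ : range (h.ap e) ≃ₗ[K] range (h.ap f))
include hf hef

theorem cj_of (hX : ∀ u : h.EBˣ, (∀ v, h.ap f (h.ap u v) = φ ((h.ap e).rangeRestrict v)) →
      (∀ v, h.ap e (h.ap u v) = φ.symm ((h.ap f).rangeRestrict v)) →
      (∀ v, h.ap u v - h.ap e (h.ap u v) - h.ap f (h.ap u v) = v - h.ap e v - h.ap f v) → u ∈ F.Iso) : Cj F e f := by
  obtain ⟨w, h1, h2, h3, h4, h5⟩ := exists_swp (E := h.ap e) (E' := h.ap f) (hD.idem e he) (hD.idem f hf)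
    (hD.orth e he f hf hef) (hD.orth f hf e he hef.symm) φ
  exact ⟨⟨h.eb w, h.eb w, h1, h1⟩, hX _ h3 h4 h5, cj_eq_of_mul h2⟩

omit hef in
theorem ap_sub_ap (hef : e ≠ f) (v : V) : h.ap f (v - h.ap e v) = h.ap f v := by
  rw [map_sub, ← h.ap_mul, hD.orth f hf e he hef.symm, Tor.ap_zero, sub_zero]

theorem cj_b (hL : F.L = Lmax h.EB) (hφ : ∀ x y, h.b (φ x) (φ y) = h.b x y) : Cj F e f := by
  have h0 : ∀ v w, h.b v w = h.b (h.ap e v) (h.ap e w) + (h.b (h.ap f v) (h.ap f w) +
      h.b (v - h.ap e v - h.ap f v) (w - h.ap e w - h.ap f w)) := fun v w => by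
    rw [b_split (hD.idem e he) (hD.symm e he), b_split (hD.idem f hf) (hD.symm f hf) (v - _), ap_sub_ap hD he hf hef,
      ap_sub_ap hD he hf hef]
  refine cj_of hD he hf hef φ fun u h1 h2 h3 => mem_Iso_max hL ((h.unit_iff u).2 fun x y => ?_)
  rw [h0, h3, h3, h1, h1, h2, h2, hφ, ← hφ (φ.symm _), φ.apply_symm_apply, φ.apply_symm_apply, h0 x y, add_left_comm]
  rfl

theorem cj_Q (hO : IsO h F Q) (hφ : ∀ x, Q (φ x) = Q x) : Cj F e f := by
  have h0 : ∀ v, Q v = Q (h.ap e v) + (Q (h.ap f v) + Q (v - h.ap e v - h.ap f v)) := fun v => by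
    rw [Q_split hO (hD.idem e he) (hD.symm e he), Q_split hO (hD.idem f hf) (hD.symm f hf) (v - _),
      ap_sub_ap hD he hf hef]
  refine cj_of hD he hf hef φ fun u h1 h2 h3 => (Tor.mem_Iso_O hO u).2 fun x => ?_
  rw [h0, h3, h1, h2, hφ, ← hφ (φ.symm _), φ.apply_symm_apply, h0 x, add_left_comm]
  rfl

end blocks

/-- the form on a subspace, semilinear in the first variable -/
def ses (h : HF K V) (W : Submodule K V) : W →ₛₗ[h.τ] W →ₗ[K] K :=
  LinearMap.mk₂'ₛₗ h.τ (RingHom.id K) (fun v w => h.b w v)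
    (fun _ _ _ => h.add_right _ _ _) (fun _ _ _ => h.smul_right _ _ _) (fun _ _ _ => h.add_left _ _ _)
    fun _ _ _ => h.smul_left _ _ _

/-- the form on a subspace, bilinear -/
def bil (h : HF K V) (hτ : ∀ c, h.τ c = c) (W : Submodule K V) : LinearMap.BilinForm K W :=
  LinearMap.mk₂ K (fun v w => h.b v w) (fun _ _ _ => h.add_left _ _ _) (fun _ _ _ => h.smul_left _ _ _)
    (fun _ _ _ => h.add_right _ _ _) fun c _ _ => (h.smul_right _ _ _).trans (by rw [hτ]; rfl)

omit [Finite K] [Finite V] in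
theorem ses_symm (hU : IsU h) (W : Submodule K V) : (ses h W).IsSymm := ⟨fun v w => by
  change h.τ (h.b w v) = h.b v w
  rw [h.swap (w : V) v, hU.1, one_mul]⟩

omit [Finite K] [Finite V] in
theorem tau_ne (hU : IsU h) : h.τ ≠ RingHom.id K := fun h0 => by
  obtain ⟨y, hy⟩ := hU.2
  exact hy (by rw [h0]; rfl)

theorem cj_U (hU : IsU h) (hD : Fr D) {e f : h.EB} (he : e ∈ D) (hf : f ∈ D) (hef : e ≠ f) (hr : rk h e = rk h f) :
    Cj F e f := by
  have : Module.Finite K V := Module.Finite.of_finite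
  obtain ⟨c, hc⟩ := ClassicalGeometry.HermOrthonormal.exists_orthonormal_basis (tau_ne hU) h.τ_τ _
    (ses_symm hU _) (nondeg hD he)
  obtain ⟨c', hc'⟩ := ClassicalGeometry.HermOrthonormal.exists_orthonormal_basis (tau_ne hU) h.τ_τ _
    (ses_symm hU _) (nondeg hD hf)
  let φ := c.equiv c' (finCongr hr)
  have h1 : ((ses h _).compl₂ φ.toLinearMap).comp φ.toLinearMap = ses h _ := LinearMap.ext_basis c c fun i j => by
    rw [LinearMap.comp_apply, LinearMap.compl₂_apply, LinearEquiv.coe_coe, Basis.equiv_apply, Basis.equiv_apply, hc, hc']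
    simp only [EmbeddingLike.apply_eq_iff_eq]
  exact cj_b hD he hf hef φ (Tor.L_eq_of_U hU F) fun x y => LinearMap.congr_fun (LinearMap.congr_fun h1 y) x

theorem mainU : MainU := by
  intro K V _ _ _ _ _ h F S hU h3 h4 hx
  have : Module.Finite K V := Module.Finite.of_finite
  have : Nontrivial V := Module.nontrivial_of_finrank_pos (R := K) (by omega)
  have := Fintype.ofFinite K
  by_cases hD : ∃ D : Finset h.EB, Fr D ∧ _root_.Cfsg.Agent.DS.Cl.Inv S D
  swap
  · rcases C2.nofrU hU (by omega) (fun a => h4 (by omega)) hx (fun D a b => hD ⟨D, a, b⟩) with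
      ⟨Z, a1, a2, a3, a4, a5⟩ | ⟨a1, -⟩
    · exact hx.good_of_four (Fld.fourU h F hU (by omega) a1 a3 a4 hx.le a2)
    · omega
  obtain ⟨D, hD⟩ := exists_minFr hD
  have h1 : ∀ e ∈ D, rk h e = 1 ∨ (rk h e = 2 ∧ (Nat.card K = 4 ∨ Nat.card K = 9)) ∨ (rk h e = 3 ∧ Nat.card K = 4) := by
    intro e he
    have h1 := solv_b hD.fr he (Tor.L_eq_of_U hU F) hx hD.inv
    have h2 : (Vec.Isom K fun v w : range (h.ap e) => h.b v w) = Vec.Isom K fun v w => ses h _ v w := by
      ext g
      exact ⟨fun h v w => h w v, fun h v w => h w v⟩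
    rw [h2] at h1
    have h5 := C2.solv_herm (tau_ne hU) h.τ_τ _ (ses_symm hU _) (nondeg hD.fr he) h1
    have h6 := rk_ne hD.fr he
    rw [← Nat.card_eq_fintype_card] at h5
    unfold rk at h6 ⊢
    (clear * - h5 h6; solve | lia | omega)
  rcases num (r := rk h) (finrank_eq_sum (Fld.prU h) hD.fr) (fun e f a => a.rk_le (Fld.prU h))
    (P := fun d => d = 1 ∨ (d = 2 ∧ (Nat.card K = 4 ∨ Nat.card K = 9)) ∨ (d = 3 ∧ Nat.card K = 4)) h1
    (hD.cases hx fun e he f hf g hg a1 _ _ ⟨γ, hγ, a2⟩ _ =>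
      Or.inl (cj_U hU hD.fr he hf a1 (by rw [← a2, rk_map (hx.le_SAut hγ)]))) with
    ⟨a, b, b1, b2, b3, b4, b5⟩ | ⟨d, rfl | ⟨rfl, b1 | b1⟩ | ⟨rfl, b1⟩, b2, b3, -⟩
  · refine Idem.rowU2 K V h F S D hU hx hD.fr hD.inv ?_
    have b6 : (a = 2 ∧ b = 3 ∧ Nat.card K = 4) ∨ (a = 3 ∧ b = 3 ∧ Nat.card K = 4) ∨
      (a = 2 ∧ b = 2 ∧ Nat.card K = 9) := by (solve | lia | omega)
    rcases b6 with ⟨rfl, rfl, b6⟩ | ⟨rfl, rfl, b6⟩ | ⟨rfl, rfl, b6⟩
    · exact Or.inl ⟨b6, Or.inl b5⟩
    · exact Or.inl ⟨b6, Or.inr (Or.inl b5)⟩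
    · exact Or.inr ⟨b6, Or.inl b5⟩
  · exact Tor.rowU1 K V h F S D hU (by omega) (h4 (by omega)) hx hD.fr hD.inv b3
  · exact Idem.rowU2 K V h F S D hU hx hD.fr hD.inv (Or.inl ⟨b1, Or.inr (Or.inr (Or.inl b3))⟩)
  · exact Idem.rowU2 K V h F S D hU hx hD.fr hD.inv (Or.inr ⟨b1, Or.inr b3⟩)
  · exact Idem.rowU2 K V h F S D hU hx hD.fr hD.inv (Or.inl ⟨b1, Or.inr (Or.inr (Or.inr b3))⟩)

theorem mainSp : MainSp := by
  intro K V _ _ _ _ _ h F S hS h3 h4 hx
  have : Module.Finite K V := Module.Finite.of_finite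
  have := Fintype.ofFinite K
  by_cases hD : ∃ D : Finset h.EB, Fr D ∧ _root_.Cfsg.Agent.DS.Cl.Inv S D
  swap
  · exact (C2.nofrSp hS h3 h4 hx fun D a b => hD ⟨D, a, b⟩).elim
  obtain ⟨D, hD⟩ := exists_minFr hD
  have h0 : ∀ e ∈ D, (bil h hS.1 (range (h.ap e))).SeparatingLeft := fun e he v hv =>
    nondeg hD.fr he v fun u => by rw [C2.alt_swap hS.2.1, show h.b v u = 0 from hv u, neg_zero]
  have h1 : ∀ e ∈ D, rk h e = 2 ∧ Nat.card K ≤ 3 := by
    intro e he
    have h5 := C2.solv_alt (bil h hS.1 _) (fun v => hS.2.1 v) (h0 e he) (solv_b hD.fr he hS.2.2 hx hD.inv)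
    rw [← Nat.card_eq_fintype_card] at h5
    exact h5.resolve_left (rk_ne hD.fr he)
  rcases num (r := rk h) (finrank_eq_sum (Fld.prU h) hD.fr) (fun e f a => a.rk_le (Fld.prU h))
    (P := fun d => d = 2 ∧ Nat.card K ≤ 3) h1
    (hD.cases hx fun e he f hf g hg a1 _ _ _ _ => by
      obtain ⟨c, hc⟩ := ClassicalGeometry.SympIso.exists_linearEquiv_sympForm (k := 1) (bil h hS.1 _)
        (fun v => hS.2.1 v) (h0 e he) (h1 e he).1
      obtain ⟨c', hc'⟩ := ClassicalGeometry.SympIso.exists_linearEquiv_sympForm (k := 1) (bil h hS.1 _)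
        (fun v => hS.2.1 v) (h0 f hf) (h1 f hf).1
      refine Or.inl (cj_b hD.fr he hf a1 (c.symm.trans c') hS.2.2 fun x y => (hc' (c.symm x) (c.symm y)).trans ?_)
      rw [← hc, c.apply_symm_apply, c.apply_symm_apply]
      rfl) with
    ⟨a, b, b1, b2, b3, b4, b5⟩ | ⟨d, ⟨rfl, b1⟩, -, b3, -⟩
  · omega
  · exact Idem.rowSp K V h F S D hS hx hD.fr hD.inv b1 b3

theorem mainO : MainO := by
  intro K V _ _ _ _ _ h F Q S hO h3 hx
  have : Module.Finite K V := Module.Finite.of_finite
  have : Nontrivial V := Module.nontrivial_of_finrank_pos (R := K) (by omega)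
  have := Fintype.ofFinite K
  by_cases hD : ∃ D : Finset h.EB, Fr D ∧ _root_.Cfsg.Agent.DS.Cl.Inv S D
  swap
  · exact (C2.nofrO hO h3 hx fun D a b => hD ⟨D, a, b⟩).elim
  obtain ⟨D, hD⟩ := exists_minFr hD
  have h0 := fun e (he : e ∈ D) => C2.solv_O _ (LieClassical.OrthCore.nondeg_of_nondegenerate (nondeg_Q hD.fr he hO))
    (solv_Q hD.fr he hO hx hD.inv)
  have h1 : ∀ e ∈ D, rk h e ≤ 2 ∨ (rk h e = 3 ∧ Nat.card K = 3) ∨ (rk h e = 4 ∧ Nat.card K ≤ 3) := fun e he => by
    rw [Nat.card_eq_fintype_card]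
    exact (h0 e he).imp_right (Or.imp_right fun a => ⟨a.1, a.2.1⟩)
  have h2 : PlusB h Q D := fun e he a => by
    obtain a1 | ⟨a1, -⟩ | ⟨-, -, g, hg⟩ := h0 e he
    · exact absurd (a ▸ a1 : 4 ≤ 2) (by norm_num)
    · exact absurd (a.symm.trans a1) (by norm_num)
    let ι : (Fin 2 → K) →ₗ[K] V := (range (h.ap e)).subtype ∘ₗ g.symm.toLinearMap ∘ₗ
      (LinearEquiv.sumArrowLequivProdArrow (Fin 2) (Fin 2) K K).symm.toLinearMap ∘ₗ LinearMap.inl K _ _
    refine ⟨range ι, ?_, ?_, ?_⟩
    · rintro _ ⟨x, rfl⟩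
      exact (g.symm _).2
    · rw [LinearMap.finrank_range_of_inj, finrank_fin_fun]
      exact Subtype.val_injective.comp (g.symm.injective.comp 
        ((LinearEquiv.sumArrowLequivProdArrow (Fin 2) (Fin 2) K K).symm.injective.comp LinearMap.inl_injective))
    · rintro _ ⟨x, rfl⟩
      refine (hg _).trans ?_
      simp [quadFormPlus]
  rcases num (r := rk h) (finrank_eq_sum (Fld.prU h) hD.fr) (fun e f a => a.rk_le (Fld.prU h))
    (P := fun d => d ≤ 2 ∨ (d = 3 ∧ Nat.card K = 3) ∨ (d = 4 ∧ Nat.card K ≤ 3)) h1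
    (hD.cases hx fun e he f hf g hg a1 a2 a3 ⟨γ, hγ, a4⟩ ⟨δ, hδ, a5⟩ =>
      (qi_of_three (nondeg_Q hD.fr he hO) (nondeg_Q hD.fr hf hO) (nondeg_Q hD.fr hg hO)
        (Nat.pos_of_ne_zero (rk_ne hD.fr he)) rfl (a4 ▸ rk_map (hx.le_SAut hγ) e) (a5 ▸ rk_map (hx.le_SAut hδ) e)).imp
        (fun ⟨φ, hφ⟩ => cj_Q hD.fr he hf a1 φ hO hφ) (Or.imp (fun ⟨φ, hφ⟩ => cj_Q hD.fr he hg a2 φ hO hφ)
          fun ⟨φ, hφ⟩ => cj_Q hD.fr hf hg a3 φ hO hφ)) with
    ⟨a, b, b1, b2, b3, b4, b5⟩ | ⟨d, b1 | ⟨rfl, b1⟩ | ⟨rfl, b1⟩, b2, b3, b4⟩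
  · refine Idem.rowO3 K V h F Q S D hO hx hD.fr hD.inv h2 ?_
    have b6 : (a = 3 ∧ b = 4 ∧ Nat.card K = 3) ∨ (a = 4 ∧ b = 4 ∧ Nat.card K ≤ 3) := by omega
    rcases b6 with ⟨rfl, rfl, b6⟩ | ⟨rfl, rfl, b6⟩
    · exact Or.inl ⟨b6, Or.inl b5⟩
    · exact Or.inr ⟨b6, Or.inl b5⟩
  · obtain rfl : d = 2 := by omega
    exact Tor.rowO2 K V h F Q S D hO (by omega) hx hD.fr hD.inv b4 b3
  · exact Idem.rowO3 K V h F Q S D hO hx hD.fr hD.inv h2 (Or.inl ⟨b1, Or.inr ⟨b4, b3⟩⟩)
  · exact Idem.rowO3 K V h F Q S D hO hx hD.fr hD.inv h2 (Or.inr ⟨b1, Or.inr b3⟩)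

end Cfsg.Agent.SB.Fr
end

private theorem dce_5a8a12175e44 : _root_.True := by
  try have : _root_.True := by simp only [_root_.Cfsg.Agent.SB.Idem.Cert.okL.eq_1]
  try have : _root_.True := by simp only [_root_.Cfsg.Agent.SB.Idem.gO.eq_1]
  exact _root_.True.intro
end

-- part: SB/SporB/F24Geo
section
prune_inst 0x52020444062120000008502100000044c0001000023000099200602030ed3220d802f4040801c060a22a8012001004810100000004000000400000040000020800052062340a10c46001f81a186000000000000000000000000000000041000000000000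
set_option linter.all false
open scoped Cfsg.Agent.FastGrp

-- part: SB/SporB/F24Gen
section
/-!
# S5765, `Fi24'`: general lemmas (helper18)

* `ncard_mod3` : fixed points of an element of order three.
* `not_solvable_five` : three double transpositions on five elements.
* `siegel` : commutators with an involution acting on an extraspecial group.
-/

set_option autoImplicit false
set_option linter.unusedSectionVars false

namespace Cfsg.Agent.SB.SporB

open Subgroup Cfsg Cfsg.Agent.Co2Type.Quad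

variable {G : Type*} [Group G]

theorem conj3 {y : G} (hy : y * y * y = 1) (a : G) : y * (y * (y * a * y⁻¹) * y⁻¹) * y⁻¹ = a := by
  calc y * (y * (y * a * y⁻¹) * y⁻¹) * y⁻¹ = (y * y * y) * a * (y * y * y)⁻¹ := by group
    _ = a := by rw [hy]; group

/-- fixed points modulo three -/
theorem ncard_mod3 [Finite G] {y : G} (hy : y * y * y = 1) {A : Set G} (hA : ∀ a ∈ A, y * a * y⁻¹ ∈ A) :
    A.ncard ≡ {a | a ∈ A ∧ a * y = y * a}.ncard [MOD 3] := by
  classical
  have _ : Fintype A := Fintype.ofFinite A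
  have _ : Fact (Nat.Prime 3) := ⟨Nat.prime_three⟩
  let f : Function.End A := fun a => ⟨y * a * y⁻¹, hA a a.2⟩
  have hf : f ^ 3 ^ 1 = 1 := by
    funext a
    exact Subtype.ext (conj3 hy a)
  have h1 := Equiv.Perm.card_fixedPoints_modEq hf
  rw [← Nat.card_eq_fintype_card, ← Nat.card_eq_fintype_card, Nat.card_coe_set_eq] at h1
  have h2 : Nat.card (Function.fixedPoints f) = {a | a ∈ A ∧ a * y = y * a}.ncard := by
    rw [← Nat.card_coe_set_eq]
    refine Nat.card_congr
      { toFun := fun a => ⟨a.1.1, a.1.2, (mul_inv_eq_iff_eq_mul.1 (congrArg Subtype.val a.2)).symm⟩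
        invFun := fun a => ⟨⟨a.1, a.2.1⟩, Subtype.ext (mul_inv_eq_iff_eq_mul.2 a.2.2.symm)⟩
        left_inv := fun _ => rfl
        right_inv := fun _ => rfl }
  rwa [h2] at h1

theorem card_mod3 [Finite G] {y : G} (hy : y * y * y = 1) {U : Subgroup G} (hU : ∀ a ∈ U, y * a * y⁻¹ ∈ U)
    (h : U ⊓ centralizer {y} = ⊥) : Nat.card U % 3 = 1 := by
  have h1 := ncard_mod3 hy (A := (U : Set G)) hU
  have h2 : {a | a ∈ (U : Set G) ∧ a * y = y * a} = {1} := by
    ext a
    constructor
    · intro ha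
      have : a ∈ U ⊓ centralizer {y} := ⟨ha.1, mem_centralizer_singleton_iff.2 ha.2⟩
      rwa [h] at this
    · rintro rfl
      exact ⟨U.one_mem, by rw [one_mul, mul_one]⟩
  rw [h2, Set.ncard_singleton, ← Nat.card_coe_set_eq] at h1
  exact h1

/-- the action on five elements -/
def Act5 (u : Fin 5 → G) (g : G) (σ : Equiv.Perm (Fin 5)) : Prop := ∀ i, g * u i * g⁻¹ = u (σ i)

theorem not_solvable_five {H : Subgroup G} {u : Fin 5 → G} (hu : Function.Injective u) {a b c : G} (ha : a ∈ H)
    (hb : b ∈ H) (hc : c ∈ H) (h1 : Act5 u a (Equiv.swap (1 : Fin 5) 2 * Equiv.swap (3 : Fin 5) 4))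
    (h2 : Act5 u b (Equiv.swap (1 : Fin 5) 3 * Equiv.swap (2 : Fin 5) 4)) (h3 : Act5 u c (Equiv.swap (0 : Fin 5) 3 * Equiv.swap (2 : Fin 5) 4)) :
    ¬ Group.IsSolvable H := by
  intro hH
  let Γ : Subgroup (H × Equiv.Perm (Fin 5)) :=
    { carrier := {p | Act5 u p.1 p.2}
      one_mem' := fun i => by simp only [_root_.Prod.fst_one, _root_.OneMemClass.coe_one, _root_.one_mul, _root_.inv_one, _root_.mul_one, _root_.Prod.snd_one, _root_.Equiv.Perm.coe_one, _root_.id_eq]
      mul_mem' := fun {p q} hp hq i => by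
        have e : ((p * q).1 : G) * u i * ((p * q).1 : G)⁻¹ = p.1 * (q.1 * u i * (q.1 : G)⁻¹) * (p.1 : G)⁻¹ := by
          simp only [Prod.fst_mul, coe_mul]; group
        rw [e, hq i, hp]
        rfl
      inv_mem' := fun {p} hp i => by
        have h := hp (p.2⁻¹ i)
        rw [show p.2 (p.2⁻¹ i) = i by simp] at h
        show (p.1 : G)⁻¹ * u i * (p.1 : G)⁻¹⁻¹ = u (p.2⁻¹ i)
        rw [← h]; group }
  have hΓ : Group.IsSolvable Γ := by
    refine Group.isSolvable_of_isSolvable_injective (f := (MonoidHom.fst _ _).comp Γ.subtype) ?_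
    rw [injective_iff_map_eq_one]
    rintro ⟨⟨g, σ⟩, hp⟩ h
    have h4 : g = 1 := h
    subst h4
    refine Subtype.ext (Prod.ext rfl (Equiv.ext fun i => hu ?_))
    have := hp i
    simpa only [_root_.OneMemClass.coe_one, _root_.Prod.snd_one, _root_.Equiv.Perm.coe_one, _root_.id_eq, _root_.one_mul, _root_.inv_one, _root_.mul_one] using this.symm
  have h4 : Group.IsSolvable ↥(Γ.map (MonoidHom.snd _ _)) :=
    (Group.isSolvable_of_surjective (f := (MonoidHom.snd _ _).subgroupMap Γ) (MonoidHom.subgroupMap_surjective _ Γ) :)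
  have h5 := Spor.eq_one_of_coprime h4 (u := Equiv.swap (1 : Fin 5) 2 * Equiv.swap (3 : Fin 5) 4)
    (v := Equiv.swap (1 : Fin 5) 3 * Equiv.swap (2 : Fin 5) 4 * (Equiv.swap (0 : Fin 5) 3 * Equiv.swap (2 : Fin 5) 4)) (a := 2) (b := 3) (c := 5)
    ⟨(⟨a, ha⟩, _), h1, rfl⟩ (mul_mem ⟨(⟨b, hb⟩, _), h2, rfl⟩ ⟨(⟨c, hc⟩, _), h3, rfl⟩) (by decide) (by decide)
    (by decide +kernel) rfl rfl rfl
  revert h5
  decide

variable {Q : Subgroup G} {z : G}

/-- commutators with an involution -/
theorem siegel [Finite G] (h : Large Q z) {w a : G} (hw : w * w = 1) (hwz : w * z = z * w) (ha : a ∈ Q)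
    (hc : ∀ q ∈ Q, (q * w * q⁻¹ = w ∨ q * w * q⁻¹ = z * w) → q * a = a * q) :
    ∃ q ∈ Q, q * w * q⁻¹ = a * w ∨ q * w * q⁻¹ = a * z * w := by
  let W : centralizer ({z} : Set G) := ⟨w, mem_centralizer_singleton_iff.2 hwz⟩
  have hWW : W * W = 1 := Subtype.ext hw
  have hmem : ∀ q ∈ Q, q * w * q⁻¹ * w⁻¹ ∈ Q := fun q hq => by
    have := mul_mem hq (h.conj_mem w hwz _ (inv_mem hq))
    rwa [← mul_assoc, ← mul_assoc] at this
  have hpr : ∀ q (hq : q ∈ Q), h.pr ⟨_, hmem q hq⟩ = h.pr ⟨q, hq⟩ + h.act W (h.pr ⟨q, hq⟩) := by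
    intro q hq
    rw [← h.neg_eq (h.act W _), ← map_neg, ← h.pr_inv, h.act_pr, ← h.pr_mul]
    congr 1
    apply Subtype.ext
    show q * w * q⁻¹ * w⁻¹ = q * (w * q⁻¹ * w⁻¹)
    group
  let A : Subgroup G :=
    { carrier := {x | ∃ hx : x ∈ Q, ∃ v, h.pr ⟨x, hx⟩ = v + h.act W v}
      one_mem' := ⟨Q.one_mem, 0, by rw [map_zero, add_zero]; exact h.pr_one⟩
      mul_mem' := by
        rintro x y ⟨hx, v, hv⟩ ⟨hy, v', hv'⟩
        refine ⟨mul_mem hx hy, v + v', ?_⟩
        rw [map_add, add_add_add_comm, ← hv, ← hv']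
        rfl
      inv_mem' := by
        rintro x ⟨hx, v, hv⟩
        refine ⟨inv_mem hx, -v, ?_⟩
        rw [map_neg, ← neg_add, ← hv]
        rfl }
  have key : ∀ x (hx : x ∈ Q) (q : Q), h.pr ⟨x, hx⟩ = h.pr q + h.act W (h.pr q) →
      q * w * (q : G)⁻¹ = x * w ∨ q * w * (q : G)⁻¹ = x * z * w := by
    intro x hx q hq
    rw [← hpr q q.2] at hq
    rcases h.pr_eq_pr.1 hq.symm with h1 | h1
    · exact Or.inl (mul_inv_eq_iff_eq_mul.1 h1)
    · exact Or.inr (mul_inv_eq_iff_eq_mul.1 h1)
  have h1 := perp_perp h (A := A) (fun x hx => hx.1) ha fun q hq hqA => by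
    refine hc q hq ?_
    have h2 : h.pr ⟨q, hq⟩ + h.act W (h.pr ⟨q, hq⟩) = 0 := h.b_nondeg fun v => by
      obtain ⟨s, rfl⟩ := h.pr_surjective v
      have h3 := (h.b_pr ⟨q, hq⟩ ⟨_, hmem s s.2⟩).2 (hqA _ ⟨hmem s s.2, _, hpr s s.2⟩)
      have h4 : h.act W (h.act W (h.pr s)) = h.pr s := by
        rw [← LinearEquiv.mul_apply, ← map_mul, hWW, map_one]
        rfl
      rw [hpr s s.2, map_add, ← h.b_act W _ (h.act W _), h4] at h3
      rw [map_add, LinearMap.add_apply]
      exact h3
    have h3 := key 1 Q.one_mem ⟨q, hq⟩ h2.symm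
    rwa [one_mul, one_mul] at h3
  rcases h1 with ⟨hx, v, hv⟩ | ⟨hx, v, hv⟩
  · obtain ⟨q, rfl⟩ := h.pr_surjective v
    exact ⟨q, q.2, key a hx q hv⟩
  · obtain ⟨q, rfl⟩ := h.pr_surjective v
    refine ⟨q, q.2, (key _ hx q hv).symm.imp_left fun h2 => ?_⟩
    rwa [mul_assoc a z z, h.z_sq, mul_one] at h2

end Cfsg.Agent.SB.SporB
end

-- part: SB/SporB/F24Ark
section
/-!
# S5765, `Fi24'`: an ark normalised by an element of order three (helper18)

* `sg_ark` : an ark has 32 more singular than non-singular elements.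
* `ovoid` : four pairwise non-collinear points centralised by `y`.
-/

set_option autoImplicit false
set_option linter.unusedSectionVars false

namespace Cfsg.Agent.SB.SporB

open Subgroup Cfsg Cfsg.Agent.Co2Type.Quad
open Cfsg.Agent.R2.M7 Cfsg.Agent.R2.M7.Geo Cfsg.Agent.R2.M7.Elem Cfsg.Agent.R2.M7.Ark

variable {G : Type*} [Group G] {Γ : Geo G}

/-! ### the signed count -/

/-- the sign -/
def chi (a : ZMod 2) : ℤ := if a = 0 then 1 else -1

theorem chi_add_one (a : ZMod 2) : chi (a + 1) = -1 * chi a := by revert a; decide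

open Classical in
/-- singular minus non-singular -/
noncomputable def sg [Fintype G] (Γ : Geo G) (P : G → Prop) : ℤ := ∑ x, if P x then chi (Γ.kap x) else 0

section count

variable [Fintype G]

theorem sg_split (P R : G → Prop) : sg Γ P = sg Γ (fun x => P x ∧ R x) + sg Γ (fun x => P x ∧ ¬ R x) := by
  unfold sg
  rw [← Finset.sum_add_distrib]
  refine Finset.sum_congr rfl fun x _ => ?_
  by_cases h1 : P x <;> by_cases h2 : R x <;> simp [h1, h2]

theorem sg_shift (u : G) {P P' : G → Prop} (ε : ℤ) (h : ∀ x, P (x * u) ↔ P' x)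
    (hk : ∀ x, P' x → chi (Γ.kap (x * u)) = ε * chi (Γ.kap x)) : sg Γ P = ε * sg Γ P' := by
  unfold sg
  rw [← Equiv.sum_comp (Equiv.mulRight u), Finset.mul_sum]
  refine Finset.sum_congr rfl fun x _ => ?_
  rw [Equiv.coe_mulRight]
  by_cases h1 : P' x
  · rw [if_pos ((h x).2 h1), if_pos h1, hk x h1]
  · rw [if_neg (fun h2 => h1 ((h x).1 h2)), if_neg h1, mul_zero]

theorem sg_congr {P P' : G → Prop} (h : ∀ x, P x ↔ P' x) : sg Γ P = sg Γ P' := by
  rw [show P = P' from funext fun x => propext (h x)]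

theorem sg_eq (P : G → Prop) :
    sg Γ P = ({x | P x ∧ Γ.kap x = 0}.ncard : ℤ) - {x | P x ∧ Γ.kap x ≠ 0}.ncard := by
  classical
  have key : ∀ R : G → Prop, ({x | R x}.ncard : ℤ) = ∑ x, if R x then 1 else 0 := fun R => by
    rw [Set.ncard_eq_toFinset_card', Set.toFinset_ofPred, Finset.card_filter]
    push_cast
    rfl
  rw [key, key, ← Finset.sum_sub_distrib]
  unfold sg chi
  refine Finset.sum_congr rfl fun x _ => ?_
  by_cases h1 : P x <;> by_cases h2 : Γ.kap x = 0 <;> simp [h1, h2]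

theorem sg_mod3 (B : Γ.Basic) {y : G} (hy : y * y * y = 1) {P : G → Prop} (hP : ∀ a, P a → P (y * a * y⁻¹)) :
    sg Γ P % 3 = sg Γ (fun x => P x ∧ x * y = y * x) % 3 := by
  have h1 := ncard_mod3 hy (A := {x | P x ∧ Γ.kap x = 0}) fun a ha => ⟨hP a ha.1, by rw [kap_conj B]; exact ha.2⟩
  have h2 := ncard_mod3 hy (A := {x | P x ∧ Γ.kap x ≠ 0}) fun a ha => ⟨hP a ha.1, by rw [kap_conj B]; exact ha.2⟩
  have e1 : {a | a ∈ {x | P x ∧ Γ.kap x = 0} ∧ a * y = y * a} = {x | (P x ∧ x * y = y * x) ∧ Γ.kap x = 0} :=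
    Set.ext fun _ => and_right_comm
  have e2 : {a | a ∈ {x | P x ∧ Γ.kap x ≠ 0} ∧ a * y = y * a} = {x | (P x ∧ x * y = y * x) ∧ Γ.kap x ≠ 0} :=
    Set.ext fun _ => and_right_comm
  rw [e1] at h1
  rw [e2] at h2
  rw [sg_eq, sg_eq]
  unfold Nat.ModEq at h1 h2
  omega

theorem sg_bot : sg Γ (fun x => x ∈ (⊥ : Subgroup G)) = 1 := by
  unfold sg
  rw [Finset.sum_eq_single 1 (fun b _ hb => if_neg fun h => hb (mem_bot.1 h)) (fun h => absurd (Finset.mem_univ _) h),
    if_pos (one_mem _), kap_one]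
  rfl

end count

variable [Finite G] {O : Subgroup G}

theorem bet_self (A : Γ.ArkFacts) (hO : O ∈ Γ.Ark) {u : G} (hu : u ∈ O) : Γ.bet u u = 0 := by
  unfold Geo.bet
  rw [A.sq O hO u hu, kap_one, zero_add, add_self]

/-- the orthogonal space -/
def perp (A : Γ.ArkFacts) (hO : O ∈ Γ.Ark) {u : G} (hu : u ∈ O) : Subgroup G where
  carrier := {x | x ∈ O ∧ Γ.bet x u = 0}
  one_mem' := ⟨O.one_mem, bet_one_left u⟩
  mul_mem' := fun {a b} ha hb => ⟨mul_mem ha.1 hb.1, by rw [A.bet_mul O hO a ha.1 b hb.1 u hu, ha.2, hb.2, add_zero]⟩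
  inv_mem' := fun {a} ha => by rw [inv_eq A hO ha.1]; exact ha

/-- non-degenerate -/
def ND (Γ : Geo G) (W : Subgroup G) : Prop := ∀ w ∈ W, w ≠ 1 → ∃ a ∈ W, Γ.bet a w = 1

section split

variable (A : Γ.ArkFacts) (hO : O ∈ Γ.Ark) {W : Subgroup G} (hW : W ≤ O) {u v : G} (hu : u ∈ W) (hv : v ∈ W)
  (huv : Γ.bet u v = 1)
include huv

theorem proj {a : G} (ha : a ∈ W) : ∃ b ∈ W ⊓ perp A hO (hW hu) ⊓ perp A hO (hW hv),
    b = a ∨ b = a * u ∨ b = a * v ∨ b = a * u * v := by
  have h1 := bet_self A hO (hW hu)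
  have h2 := bet_self A hO (hW hv)
  have h3 : Γ.bet v u = 1 := by rw [bet_symm A hO (hW hv) (hW hu), huv]
  have m := A.bet_mul O hO
  have hau := mul_mem ha hu
  rcases Ark.two_cases (Γ.bet a u) with k1 | k1 <;> rcases Ark.two_cases (Γ.bet a v) with k2 | k2
  · exact ⟨a, ⟨⟨ha, hW ha, k1⟩, hW ha, k2⟩, Or.inl rfl⟩
  · refine ⟨a * u, ⟨⟨hau, hW hau, ?_⟩, hW hau, ?_⟩, Or.inr (Or.inl rfl)⟩
    · rw [m a (hW ha) u (hW hu) u (hW hu), k1, h1, add_zero]
    · rw [m a (hW ha) u (hW hu) v (hW hv), k2, huv, one_one]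
  · have hav := mul_mem ha hv
    refine ⟨a * v, ⟨⟨hav, hW hav, ?_⟩, hW hav, ?_⟩, Or.inr (Or.inr (Or.inl rfl))⟩
    · rw [m a (hW ha) v (hW hv) u (hW hu), k1, h3, one_one]
    · rw [m a (hW ha) v (hW hv) v (hW hv), k2, h2, add_zero]
  · have hauv := mul_mem hau hv
    refine ⟨a * u * v, ⟨⟨hauv, hW hauv, ?_⟩, hW hauv, ?_⟩, Or.inr (Or.inr (Or.inr rfl))⟩
    · rw [m _ (hW hau) v (hW hv) u (hW hu), m a (hW ha) u (hW hu) u (hW hu), k1, h1, h3]; decide
    · rw [m _ (hW hau) v (hW hv) v (hW hv), m a (hW ha) u (hW hu) v (hW hv), k2, h2, huv]; decide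

theorem nd_split (h : ND Γ W) : ND Γ (W ⊓ perp A hO (hW hu) ⊓ perp A hO (hW hv)) := by
  intro w hw hw1
  obtain ⟨a, ha, haw⟩ := h w hw.1.1 hw1
  obtain ⟨b, hb, hab⟩ := proj A hO hW hu hv huv ha
  refine ⟨b, hb, ?_⟩
  have hwO := hW hw.1.1
  have h1 : Γ.bet u w = 0 := by rw [bet_symm A hO (hW hu) hwO]; exact hw.1.2.2
  have h2 : Γ.bet v w = 0 := by rw [bet_symm A hO (hW hv) hwO]; exact hw.2.2
  have m := A.bet_mul O hO
  rcases hab with rfl | rfl | rfl | rfl
  · exact haw
  · rw [m a (hW ha) u (hW hu) w hwO, haw, h1, add_zero]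
  · rw [m a (hW ha) v (hW hv) w hwO, haw, h2, add_zero]
  · rw [m _ (hW (mul_mem ha hu)) v (hW hv) w hwO, m a (hW ha) u (hW hu) w hwO, haw, h1, h2, add_zero, add_zero]

theorem card_split : 4 * Nat.card ↥(W ⊓ perp A hO (hW hu) ⊓ perp A hO (hW hv)) ≤ Nat.card W := by
  have h1 := two_mul_le' (A := W ⊓ perp A hO (hW hu)) inf_le_left hv fun h => by
    have := h.2.2
    rw [bet_symm A hO (hW hv) (hW hu), huv] at this
    exact one_ne_zero this
  have h2 := two_mul_le' (A := W ⊓ perp A hO (hW hu) ⊓ perp A hO (hW hv)) inf_le_left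
    (x := u) ⟨hu, hW hu, bet_self A hO (hW hu)⟩ fun h => one_ne_zero (huv.symm.trans h.2.2)
  omega

end split

theorem sg_hyp {G : Type*} [Group G] [Fintype G] {Γ : Geo G} {O : Subgroup G} (A : Γ.ArkFacts) (hO : O ∈ Γ.Ark)
    {W : Subgroup G} (hW : W ≤ O) {u v : G} (hu : u ∈ W) (hv : v ∈ W) (huv : Γ.bet u v = 1) (hk : Γ.kap u = 0) :
    sg Γ (fun x => x ∈ W) = 2 * sg Γ (fun x => x ∈ W ⊓ perp A hO (hW hu) ⊓ perp A hO (hW hv)) := by
  have m := A.bet_mul O hO
  have h1 := bet_self A hO (hW hu)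
  have hs : ∀ x, x * u ∈ W ↔ x ∈ W := fun x => W.mul_mem_cancel_right hu
  have k1 : ∀ x ∈ W, Γ.bet (x * u) u = Γ.bet x u := fun x hx => by rw [m x (hW hx) u (hW hu) u (hW hu), h1, add_zero]
  have k2 : ∀ x ∈ W, Γ.bet (x * u) v = Γ.bet x v + 1 := fun x hx => by rw [m x (hW hx) u (hW hu) v (hW hv), huv]
  have e1 := sg_split (Γ := Γ) (fun x => x ∈ W) (fun x => Γ.bet x u = 0)
  have e2 := sg_shift (Γ := Γ) u (P := fun x => x ∈ W ∧ ¬ Γ.bet x u = 0) (P' := fun x => x ∈ W ∧ ¬ Γ.bet x u = 0) (-1)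
    (fun x => by rw [hs]; exact and_congr_right fun hx => by rw [k1 x hx])
    (fun x hx => by rw [kap_mul, hk, add_zero, (Ark.two_cases _).resolve_left hx.2, chi_add_one])
  have e3 := sg_split (Γ := Γ) (fun x => x ∈ W ∧ Γ.bet x u = 0) (fun x => Γ.bet x v = 0)
  have e4 := sg_shift (Γ := Γ) u (P := fun x => (x ∈ W ∧ Γ.bet x u = 0) ∧ ¬ Γ.bet x v = 0)
    (P' := fun x => (x ∈ W ∧ Γ.bet x u = 0) ∧ Γ.bet x v = 0) 1
    (fun x => by
      rw [hs, and_assoc, and_assoc]
      refine and_congr_right fun hx => ?_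
      rw [k1 x hx, k2 x hx]
      generalize Γ.bet x v = c
      refine and_congr_right fun _ => ?_
      revert c; decide)
    (fun x hx => by rw [kap_mul, hk, hx.1.2, add_zero, add_zero, one_mul])
  have e5 : sg Γ (fun x => x ∈ W ⊓ perp A hO (hW hu) ⊓ perp A hO (hW hv)) =
      sg Γ fun x => (x ∈ W ∧ Γ.bet x u = 0) ∧ Γ.bet x v = 0 :=
    sg_congr fun x => ⟨fun h => ⟨⟨h.1.1, h.1.2.2⟩, h.2.2⟩, fun h => ⟨⟨h.1.1, hW h.1.1, h.1.2⟩, hW h.1.1, h.2⟩⟩
  omega

theorem sg_top {G : Type*} [Group G] [Fintype G] {Γ : Geo G} {O : Subgroup G} (A : Γ.ArkFacts) (hO : O ∈ Γ.Ark) (k : ℕ) :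
    ∀ W V : Subgroup G, W ≤ O → ND Γ W → V ≤ W → (∀ x ∈ V, Γ.kap x = 0) → 2 ^ k ≤ Nat.card V → Nat.card W ≤ 4 ^ k →
      sg Γ (fun x => x ∈ W) = 2 ^ k := by
  induction k with
  | zero =>
    intro W V _ _ _ _ _ h
    rw [(card_le_one_iff_eq_bot W).1 h, sg_bot, pow_zero]
  | succ k ih =>
    intro W V hW hn hV hk h1 h2
    have h0 : 0 < 2 ^ k := by positivity
    obtain ⟨u, hu, hu1⟩ := exists_ne_one (E := V) (by omega)
    obtain ⟨v, hv, hvu⟩ := hn u (hV hu) hu1
    have huv : Γ.bet u v = 1 := by rw [bet_symm A hO (hW (hV hu)) (hW hv), hvu]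
    have h3 := card_split A hO hW (hV hu) hv huv
    have h4 := le_two (S := V) (R := perp A hO (hW hv)) fun a ha b hb k1 k2 => by
      have k3 := hW (hV ha)
      have k4 := hW (hV hb)
      rw [inv_eq A hO k3]
      refine ⟨mul_mem k3 k4, ?_⟩
      rw [A.bet_mul O hO a k3 b k4 v (hW hv), (Ark.two_cases _).resolve_left fun h => k1 ⟨k3, h⟩,
        (Ark.two_cases _).resolve_left fun h => k2 ⟨k4, h⟩, one_one]
    rw [sg_hyp A hO hW (hV hu) hv huv (hk u hu), ih _ (V ⊓ perp A hO (hW hv)) (inf_le_left.trans (inf_le_left.trans hW))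
      (nd_split A hO hW (hV hu) hv huv hn) (fun x hx => ⟨⟨hV hx.1, hW (hV hx.1), ?_⟩, hx.2⟩) (fun x hx => hk x hx.1)
      (by omega) (by omega), pow_succ, mul_comm]
    unfold Geo.bet
    rw [hk _ (mul_mem hx.1 hu), hk x hx.1, hk u hu]
    rfl

theorem kap_sing {V : Subgroup G} (hV : Γ.Sing V) : ∀ x ∈ V, Γ.kap x = 0 := fun x hx =>
  kap_eq_zero.2 ((em (x = 1)).imp_right (hV.1 x hx))

theorem sg_ark {G : Type*} [Group G] [Fintype G] {Γ : Geo G} {O : Subgroup G} (E : Ext Γ) (hO : O ∈ Γ.Ark) :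
    sg Γ (fun x => x ∈ O) = 32 := by
  obtain ⟨V, hVO, hV, hc⟩ := E.big O hO
  exact sg_top E.F.ark hO 5 O V le_rfl (fun w hw h => E.F.ark.bet_nondeg O hO w hw h) hVO (kap_sing hV) (by omega)
    (by rw [E.F.ark.card O hO]; norm_num)

/-! ### the groups `C_{Q_u}(y)` -/

theorem pt_of_kap {a : G} (h : Γ.kap a = 0) (h1 : a ≠ 1) : a ∈ Γ.Pt := (kap_eq_zero.1 h).resolve_left h1

section ovoid

variable (E : Ext Γ) (hO : O ∈ Γ.Ark) {y : G} (hy : y * y * y = 1)
include E hO hy

/-- transitivity on the points which are not collinear to `u` -/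
theorem exists_move {u w w' : G} (hu : u ∈ O) (hw : w ∈ O) (hw' : w' ∈ O) (pu : u ∈ Γ.Pt) (pw : w ∈ Γ.Pt)
    (pw' : w' ∈ Γ.Pt) (b1 : Γ.bet w u = 1) (b2 : Γ.bet w' u = 1) (yu : u * y = y * u) (yw : w * y = y * w)
    (yw' : w' * y = y * w') : ∃ d ∈ Γ.QQ u, d * y = y * d ∧ d * w * d⁻¹ = w' := by
  have B := E.F.basic
  have A := E.F.ark
  have hL := E.large u pu
  have n1 := (not_mem_QQ A hO hu pu hw).2 b1
  have n2 := (not_mem_QQ A hO hu pu hw').2 b2
  have bad : ∀ q x : G, x ∈ O → x ∈ Γ.Pt → Γ.bet x u = 1 → q * w * q⁻¹ ≠ x * u := fun q x _ px bx h => by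
    have h1 := kap_conj B w q
    rw [h, kap_mul, kap_pt px, kap_pt pu, kap_pt pw, bx] at h1
    revert h1; decide
  obtain ⟨q, hq, h⟩ := siegel hL (A.sq O hO w hw) (A.comm O hO w hw u hu) (mul_mem_QQ A hO hu pu hw' hw n2 n1)
    fun q hq h => by
      rcases h with h | h
      · exact CC_comm A hO (A.cent_le O hO u hu pu w (O_le_KK hw) n1 q hq (mul_inv_eq_iff_eq_mul.1 h)) (mul_mem hw' hw)
      · exact absurd (h.trans (A.comm O hO u hu w hw)) (bad q w hw pw b1)
  have h1 : q * w * q⁻¹ = w' := by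
    rcases h with h | h
    · rw [h, mul_assoc, A.sq O hO w hw, mul_one]
    · refine absurd ?_ (bad q w' hw' pw' b2)
      rw [h, mul_assoc w' w u, A.comm O hO w hw u hu, mul_assoc, mul_assoc, A.sq O hO w hw, mul_one]
  have hyQ : ∀ x ∈ Γ.QQ u, y * x * y⁻¹ ∈ Γ.QQ u := fun x hx => QQ_norm B pu yu.symm hx
  have h2 := ncard_mod3 hy (A := {d | d ∈ Γ.QQ u ∧ d * w * d⁻¹ = w'}) fun d hd => ⟨hyQ d hd.1, by
    calc y * d * y⁻¹ * w * (y * d * y⁻¹)⁻¹ = y * d * (y⁻¹ * (w * y)) * d⁻¹ * y⁻¹ := by group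
      _ = y * (d * w * d⁻¹) * y⁻¹ := by rw [yw]; group
      _ = w' := by rw [hd.2, ← yw']; group⟩
  have h3 : {d | d ∈ Γ.QQ u ∧ d * w * d⁻¹ = w'} = (fun c => q * c) '' ((Γ.QQ u ⊓ centralizer {w} : Subgroup G) : Set G) := by
    ext d
    constructor
    · rintro ⟨k1, k2⟩
      refine ⟨q⁻¹ * d, ⟨(Γ.QQ u).mul_mem ((Γ.QQ u).inv_mem hq) k1, mem_centralizer_singleton_iff.2 ?_⟩, by group⟩
      calc q⁻¹ * d * w = q⁻¹ * (d * w * d⁻¹) * d := by group
        _ = w * (q⁻¹ * d) := by rw [k2, ← h1]; group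
    · rintro ⟨c, ⟨k1, k2⟩, rfl⟩
      refine ⟨mul_mem hq k1, ?_⟩
      calc q * c * w * (q * c)⁻¹ = q * (c * w) * c⁻¹ * q⁻¹ := by group
        _ = w' := by rw [mem_centralizer_singleton_iff.1 k2, ← h1]; group
  by_contra hc
  have h4 : {a | a ∈ {d | d ∈ Γ.QQ u ∧ d * w * d⁻¹ = w'} ∧ a * y = y * a} = ∅ :=
    Set.eq_empty_of_forall_notMem fun a ha => hc ⟨a, ha.1.1, ha.2, ha.1.2⟩
  rw [h4, Set.ncard_empty, h3, Set.ncard_image_of_injective _ (mul_right_injective q), ← Nat.card_coe_set_eq] at h2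
  obtain ⟨n, hn⟩ := IsPGroup.iff_card.1 ((B.QQ_two u pu).to_le (inf_le_left (b := centralizer {w})))
  have h5 : 3 ∣ 2 ^ n := hn ▸ (Nat.modEq_zero_iff_dvd.1 h2)
  exact absurd (Nat.prime_three.dvd_of_dvd_pow h5) (by norm_num)

/-- a double transposition -/
theorem swap5 {a b c d e : G} (ha : a ∈ O) (hb : b ∈ O) (hc : c ∈ O) (hd : d ∈ O) (pa : a ∈ Γ.Pt) (pb : b ∈ Γ.Pt)
    (pc : c ∈ Γ.Pt) (pd : d ∈ Γ.Pt) (ba : Γ.bet b a = 1) (ca : Γ.bet c a = 1) (da : Γ.bet d a = 1)
    (bc : Γ.bet b c = 1) (bd : Γ.bet b d = 1) (cd : Γ.bet c d = 1) (he : e = a * b * c * d)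
    (ya : a * y = y * a) (yb : b * y = y * b) (yc : c * y = y * c) :
    ∃ g ∈ Γ.QQ a, g * y = y * g ∧ g * a * g⁻¹ = a ∧ g * b * g⁻¹ = c ∧ g * c * g⁻¹ = b ∧ g * d * g⁻¹ = e ∧
      g * e * g⁻¹ = d := by
  have B := E.F.basic
  have A := E.F.ark
  have hL := E.large a pa
  obtain ⟨g, hg, hgy, hgb⟩ := exists_move E hO hy ha hb hc pa pb pc ba ca ya yb yc
  have hga : g * a * g⁻¹ = a := by rw [hL.comm_z g hg]; group
  have key : ∀ x ∈ O, Γ.bet x a = 1 → g * x * g⁻¹ = c * b * x ∨ g * x * g⁻¹ = c * b * x * a := by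
    intro x hx hxa
    have h1 := conj_Q hL hg (mul_mem_QQ A hO ha pa hb hx ((not_mem_QQ A hO ha pa hb).2 ba)
      ((not_mem_QQ A hO ha pa hx).2 hxa))
    have h2 : g * x * g⁻¹ = c * (g * (b * x) * g⁻¹) := by
      calc g * x * g⁻¹ = g * (b * b) * x * g⁻¹ := by rw [A.sq O hO b hb, mul_one]
        _ = (g * b * g⁻¹) * (g * (b * x) * g⁻¹) := by group
        _ = _ := by rw [hgb]
    rw [h2]
    rcases h1 with h1 | h1 <;> rw [h1]
    · left; group
    · right; group
  have hcb : c * b * c = b := by rw [A.comm O hO c hc b hb, mul_assoc, A.sq O hO c hc, mul_one]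
  have h1 : g * c * g⁻¹ = b := by
    rcases key c hc ca with h | h
    · rw [h, hcb]
    · have h2 := kap_conj B c g
      rw [h, hcb, kap_mul, kap_pt pa, kap_pt pb, kap_pt pc, ba] at h2
      exact absurd h2 (by decide)
  have h2 : g * d * g⁻¹ = e := by
    rcases key d hd da with h | h
    · have h2 := kap_conj B d g
      rw [h, kap_mul, kap_mul, kap_pt pb, kap_pt pc, kap_pt pd, A.bet_mul O hO c hc b hb d hd, bd, cd,
        bet_symm A hO hc hb, bc] at h2
      exact absurd h2 (by decide)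
    · rw [h, he, A.comm O hO _ (mul_mem (mul_mem hc hb) hd) a ha, A.comm O hO c hc b hb]
      group
  refine ⟨g, hg, hgy, hga, hgb, h1, h2, ?_⟩
  rw [← h2]
  have h3 : g * (g * d * g⁻¹) * g⁻¹ = (g * g) * d * (g * g)⁻¹ := by group
  rw [h3]
  rcases hL.sq g hg with h | h <;> rw [h]
  · group
  · rw [A.comm O hO a ha d hd]; group

/-- **Four pairwise non-collinear points.** -/
theorem ovoid {H : Subgroup G} {a b c d : G} (ha : a ∈ O) (hb : b ∈ O) (hc : c ∈ O) (hd : d ∈ O) (pa : a ∈ Γ.Pt)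
    (pb : b ∈ Γ.Pt) (pc : c ∈ Γ.Pt) (pd : d ∈ Γ.Pt) (ab : Γ.bet a b = 1) (ac : Γ.bet a c = 1) (ad : Γ.bet a d = 1)
    (bc : Γ.bet b c = 1) (bd : Γ.bet b d = 1) (cd : Γ.bet c d = 1) (ya : a * y = y * a) (yb : b * y = y * b)
    (yc : c * y = y * c) (yd : d * y = y * d)
    (hH : ∀ g, g * y = y * g → (∀ x ∈ O, g * x * g⁻¹ ∈ O) → g ∈ H) : ¬ Group.IsSolvable H := by
  have A := E.F.ark
  have m := A.bet_mul O hO
  have s := fun {x z : G} (hx : x ∈ O) (hz : z ∈ O) (h : Γ.bet x z = 1) => (bet_symm A hO hz hx).trans h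
  have hab := mul_mem ha hb
  have habc := mul_mem hab hc
  have he := mul_mem habc hd
  have ea : Γ.bet (a * b * c * d) a = 1 := by
    rw [m _ habc d hd a ha, m _ hab c hc a ha, m a ha b hb a ha, bet_self A hO ha, s ha hb ab, s ha hc ac, s ha hd ad]
    decide
  have eb : Γ.bet (a * b * c * d) b = 1 := by
    rw [m _ habc d hd b hb, m _ hab c hc b hb, m a ha b hb b hb, bet_self A hO hb, ab, s hb hc bc, s hb hd bd]
    decide
  have ec : Γ.bet (a * b * c * d) c = 1 := by
    rw [m _ habc d hd c hc, m _ hab c hc c hc, m a ha b hb c hc, bet_self A hO hc, ac, bc, s hc hd cd]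
    decide
  have ed : Γ.bet (a * b * c * d) d = 1 := by
    rw [m _ habc d hd d hd, m _ hab c hc d hd, m a ha b hb d hd, bet_self A hO hd, ad, bd, cd]
    decide
  obtain ⟨g₁, q₁, y₁, k₁⟩ := swap5 E hO hy ha hb hc hd pa pb pc pd (s ha hb ab) (s ha hc ac) (s ha hd ad) bc bd cd rfl
    ya yb yc
  obtain ⟨g₂, q₂, y₂, k₂⟩ := swap5 E hO hy (e := a * b * c * d) ha hb hd hc pa pb pd pc (s ha hb ab) (s ha hd ad) (s ha hc ac)
    bd bc (s hc hd cd) (by rw [mul_assoc _ c d, A.comm O hO c hc d hd, ← mul_assoc]) ya yb yd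
  obtain ⟨g₃, q₃, y₃, k₃⟩ := swap5 E hO hy (e := a * b * c * d) hb ha hd hc pb pa pd pc ab (s hb hd bd) (s hb hc bc) ad ac
    (s hc hd cd) (by rw [mul_assoc _ c d, A.comm O hO c hc d hd, ← mul_assoc, A.comm O hO a ha b hb]) yb ya yd
  have ne : ∀ {x z : G}, x ∈ O → Γ.bet x z = 1 → x ≠ z := fun hx h e => by
    rw [← e, bet_self A hO hx] at h
    exact zero_ne_one h
  refine not_solvable_five (u := ![a, b, c, d, a * b * c * d]) ?_ (hH g₁ y₁ (E.QO O hO a ha pa g₁ q₁))
    (hH g₂ y₂ (E.QO O hO a ha pa g₂ q₂)) (hH g₃ y₃ (E.QO O hO b hb pb g₃ q₃)) ?_ ?_ ?_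
  · have n1 := ne ha ab
    have n2 := ne ha ac
    have n3 := ne ha ad
    have n4 := ne hb bc
    have n5 := ne hb bd
    have n6 := ne hc cd
    have n7 := ne he ea
    have n8 := ne he eb
    have n9 := ne he ec
    have n10 := ne he ed
    generalize a * b * c * d = e at n7 n8 n9 n10
    intro i j h
    fin_cases i <;> fin_cases j <;> first | rfl | exact absurd h ‹_› | exact absurd h.symm ‹_›
  · intro i
    fin_cases i
    exacts [k₁.1, k₁.2.1, k₁.2.2.1, k₁.2.2.2.1, k₁.2.2.2.2]
  · intro i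
    fin_cases i
    exacts [k₂.1, k₂.2.1, k₂.2.2.2.1, k₂.2.2.1, k₂.2.2.2.2]
  · intro i
    fin_cases i
    exacts [k₃.2.1, k₃.1, k₃.2.2.2.1, k₃.2.2.1, k₃.2.2.2.2]

end ovoid

end Cfsg.Agent.SB.SporB
end

-- part: SB/SporB/F24Geo
section
/-!
# S5765, `Fi24'`: the 2-local subgroups of `C(y)`, abstract part (helper18)
-/

set_option autoImplicit false
set_option linter.unusedSectionVars false

namespace Cfsg.Agent.SB.SporB

open Subgroup Cfsg Cfsg.Agent.Co2Type.Quad
open Cfsg.Agent.H251 (omegaCenterOf_ne_bot mem_omegaCenterOf pCoreOf_isPGroup le_pCoreOf le_normalizer_pCoreOf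
  normalizer_le_normalizer_omegaCenterOf pCoreOf_le)
open Cfsg.Agent.R2.M7 Cfsg.Agent.R2.M7.Geo Cfsg.Agent.R2.M7.Elem Cfsg.Agent.R2.M7.Ark

variable {G : Type*} [Group G]

/-- further facts -/
structure Ext2 (Γ : Geo G) : Prop where
  line : ∀ L : Subgroup G, Γ.Sing L → Nat.card L = 4 → ¬ 13 ∣ Nat.card (normalizer (L : Set G)) ∧
    ∀ y, y * y * y = 1 → (∀ a ∈ L, y * a * y⁻¹ ∈ L) → ¬ Group.IsSolvable ↥(normalizer (L : Set G) ⊓ centralizer {y})
  big : ∀ F : Subgroup G, Γ.Sing F → 8 < Nat.card F → ∃ V : Subgroup G, (Γ.Sing V ∧ Nat.card V = 32 ∨ V ∈ Γ.Ark) ∧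
    ∀ x, (∀ a ∈ F, x * a * x⁻¹ ∈ F) → ∀ a ∈ V, x * a * x⁻¹ ∈ V

/-- the situation in `N(⟨y⟩)` -/
structure CtxF (Γ : Geo G) (y : G) (S : Subgroup G) : Prop where
  y3 : y * y * y = 1
  mem : y ∈ S
  norm : ∀ s ∈ S, ∀ g, g * y = y * g → s * g * s⁻¹ * y = y * (s * g * s⁻¹)
  max : ∀ U : Subgroup G, (∀ s ∈ S, ∀ u ∈ U, s * u * s⁻¹ ∈ U) →
    centralizer {y} ≤ normalizer (U : Set G) ∨ Group.IsSolvable ↥(normalizer (U : Set G) ⊓ centralizer {y})
  simp : ∀ U : Subgroup G, IsPGroup 2 U → U ≤ centralizer {y} → centralizer {y} ≤ normalizer (U : Set G) → U = ⊥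
  c13 : 13 ∣ Nat.card (centralizer ({y} : Set G))
  one : ∀ t, t * t = 1 → t ≠ 1 → t * y = y * t → ∀ H : Subgroup G, (∀ g, g * y = y * g → g * t = t * g → g ∈ H) →
    ¬ Group.IsSolvable H
  two : ∀ t d, IsA Γ t → IsA Γ d → IsA Γ (t * d) → t * d = d * t → t * y = y * t → d * y = y * d → ∀ H : Subgroup G,
    (∀ g, g * y = y * g → g * t = t * g → (g * d * g⁻¹ = d ∨ g * d * g⁻¹ = t * d) → g ∈ H) → ¬ Group.IsSolvable H

variable [Finite G] {Γ : Geo G} {y : G} {S : Subgroup G}

theorem mem_NC {U : Subgroup G} {g : G} (h1 : g * y = y * g) (h2 : ∀ u ∈ U, g * u * g⁻¹ ∈ U) :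
    g ∈ normalizer (U : Set G) ⊓ centralizer {y} :=
  ⟨SporB.norm_of (H := zpowers g) (fun _ ⟨k, hk⟩ => by
    have h3 : g ∈ normalizer (U : Set G) := mem_normalizer_fintype h2
    exact fun u hu => conj_of_norm (hk ▸ zpow_mem h3 k) hu) (mem_zpowers g), mem_centralizer_singleton_iff.2 h1⟩

theorem CtxF.solv (C : CtxF Γ y S) {U : Subgroup G} (h0 : U ≠ ⊥) (h2 : IsPGroup 2 U) (hy : U ≤ centralizer {y})
    (hn : ∀ s ∈ S, ∀ u ∈ U, s * u * s⁻¹ ∈ U) : Group.IsSolvable ↥(normalizer (U : Set G) ⊓ centralizer {y}) :=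
  (C.max U hn).resolve_left fun h => h0 (C.simp U h2 hy h)

theorem CtxF.inf (C : CtxF Γ y S) {U : Subgroup G} (hn : ∀ s ∈ S, ∀ u ∈ U, s * u * s⁻¹ ∈ U) :
    ∀ s ∈ S, ∀ u ∈ U ⊓ centralizer {y}, s * u * s⁻¹ ∈ U ⊓ centralizer {y} := fun s hs u hu =>
  ⟨hn s hs u hu.1, mem_centralizer_singleton_iff.2 (C.norm s hs u (mem_centralizer_singleton_iff.1 hu.2))⟩

/-- an invariant involution -/
theorem CtxF.single (C : CtxF Γ y S) {U : Subgroup G} {t : G} (ht : t ∈ U) (h1 : t ≠ 1) (h2 : t * t = 1)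
    (hU : ∀ a ∈ U, a = 1 ∨ a = t) (hy : t * y = y * t) (hn : ∀ s ∈ S, ∀ u ∈ U, s * u * s⁻¹ ∈ U) : False :=
  C.one t h2 h1 hy _ (fun g k1 k2 => mem_NC k1 (conj_of_comm fun a ha => comm_four k2 k2 ((hU a ha).imp_right Or.inl)))
    (C.solv (fun h => h1 (mem_bot.1 (h ▸ ht))) (two_of_sq fun a ha => by
      rcases hU a ha with rfl | rfl
      exacts [mul_one 1, h2]) (fun a ha => mem_centralizer_singleton_iff.2 (by
      rcases hU a ha with rfl | rfl
      exacts [by rw [mul_one, one_mul], hy])) hn)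

/-- no points -/
theorem CtxF.pure (C : CtxF Γ y S) (E : Ext Γ) {Z : Subgroup G} (h0 : Z ≠ ⊥) (hc : ∀ a ∈ Z, ∀ b ∈ Z, a * b = b * a)
    (hs : ∀ a ∈ Z, a * a = 1) (hp : ∀ a ∈ Z, a ∉ Γ.Pt) (hy : Z ≤ centralizer {y})
    (hn : ∀ s ∈ S, ∀ u ∈ Z, s * u * s⁻¹ ∈ Z) : False := by
  obtain ⟨t, ht, ht1⟩ : ∃ t ∈ Z, t ≠ 1 := by
    by_contra h
    push Not at h
    exact h0 ((eq_bot_iff_forall _).2 h)
  have hty := mem_centralizer_singleton_iff.1 (hy ht)
  by_cases h : ∀ a ∈ Z, a = 1 ∨ a = t
  · exact C.single ht ht1 (hs t ht) h hty hn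
  push Not at h
  obtain ⟨d, hd, hd1, hdt⟩ := h
  obtain ⟨h1, h2⟩ := pure_cases E hc hs hp ht hd ht1 hd1 hdt
  refine C.two t d ⟨hs t ht, ht1, hp t ht⟩ ⟨hs d hd, hd1, hp d hd⟩ h1 (hc t ht d hd) hty
    (mem_centralizer_singleton_iff.1 (hy hd)) _ (fun g k1 k2 k3 => mem_NC k1 fun a ha => ?_)
    (C.solv h0 (two_of_sq hs) hy hn)
  have k4 : g * t * g⁻¹ = t := by rw [k2]; group
  have k5 : g * d * g⁻¹ ∈ Z := by
    rcases k3 with k | k <;> rw [k]
    exacts [hd, mul_mem ht hd]
  rcases h2 a ha with rfl | rfl | rfl | rfl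
  · rw [mul_one, mul_inv_cancel]; exact Z.one_mem
  · rw [k4]; exact ht
  · exact k5
  · rw [show g * (t * d) * g⁻¹ = g * t * g⁻¹ * (g * d * g⁻¹) by group, k4]
    exact mul_mem ht k5

theorem CtxF.line (C : CtxF Γ y S) (E2 : Ext2 Γ) {L : Subgroup G} (hL : Γ.Sing L) (h4 : Nat.card L = 4)
    (hn : ∀ s ∈ S, ∀ u ∈ L, s * u * s⁻¹ ∈ L) : False := by
  obtain ⟨h1, h2⟩ := E2.line L hL h4
  rcases C.max L hn with h | h
  · exact h1 (C.c13.trans (card_dvd_of_le h))
  · exact h2 y C.y3 (hn y C.mem) h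

theorem card_two_pow {U : Subgroup G} (hs : ∀ a ∈ U, a * a = 1) (h8 : ¬ 8 < Nat.card U) :
    Nat.card U = 1 ∨ Nat.card U = 2 ∨ Nat.card U = 4 ∨ Nat.card U = 8 := by
  obtain ⟨n, hn⟩ := IsPGroup.iff_card.1 (two_of_sq hs)
  have h4 : 4 ≤ n → 2 ^ 4 ≤ 2 ^ n := fun h => Nat.pow_le_pow_right (by norm_num) h
  by_cases h0 : n < 4
  · interval_cases n <;> omega
  · have := h4 (by omega)
    omega

/-- a singular subgroup centralised by `y` -/
theorem CtxF.sing_fix (C : CtxF Γ y S) (E : Ext Γ) (E2 : Ext2 Γ) {U : Subgroup G} (hU : Γ.Sing U) (h0 : U ≠ ⊥)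
    (hy : U ≤ centralizer {y}) (hn : ∀ s ∈ S, ∀ u ∈ U, s * u * s⁻¹ ∈ U) : False := by
  have B := E.F.basic
  have hs := sing_sq B hU
  by_cases h8 : 8 ≤ Nat.card U
  · refine not_solvable_of_transv (L := ⊥) (sing_comm B hU) hs bot_le (by rw [card_bot]; omega) (fun u hu huL => ?_)
      (C.solv h0 (two_of_sq hs) hy hn)
    have hu1 : u ≠ 1 := fun h => huL (h ▸ one_mem _)
    have hL := E.large u (hU.1 u hu hu1)
    refine ⟨Γ.QQ u ⊓ centralizer {y},
      fun d hd _ => mem_NC (mem_centralizer_singleton_iff.1 hd.2) (Q_norm E hU hu hu1 hd.1),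
      fun d hd v hv => conj_Q hL hd.1 (hU.2 u hu hu1 v hv), fun d hd => hL.comm_z d hd.1,
      fun v hv h => hL.cent v (hU.2 u hu hu1 v hv) fun q hq => ?_⟩
    obtain ⟨n, k1, k2, k3⟩ := fix_lift hL C.y3 (mem_centralizer_singleton_iff.1 (hy hu)).symm hq
    exact ((k3 v (hU.2 u hu hu1 v hv) (mem_centralizer_singleton_iff.1 (hy hv)).symm).1
      (h n ⟨k1, mem_centralizer_singleton_iff.2 k2.symm⟩)).symm
  by_cases h4 : Nat.card U = 4
  · exact C.line E2 hU h4 hn
  rcases small_cases hs h0 h8 with ⟨x, hx, hx1, h⟩ | ⟨x, hx, v, hv, hx1, hv1, hvx, -⟩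
  · exact C.single hx hx1 (hs x hx) h (mem_centralizer_singleton_iff.1 (hy hx)) hn
  · have h1 := two_mul_le' (A := ⊥) (B := zpowers x) bot_le (mem_zpowers x) fun h => hx1 (mem_bot.1 h)
    have h2 := two_mul_le' (zpowers_le.2 hx) hv fun h => (mem_zp (hs x hx) h).elim hv1 hvx
    have h3 := card_two_pow hs (by omega)
    rw [card_bot] at h1
    omega

theorem avg_mem (A : Γ.ArkFacts) (B : Γ.Basic) {O : Subgroup G} (hO : O ∈ Γ.Ark) (hy : y * y * y = 1)
    (hn : ∀ u ∈ O, y * u * y⁻¹ ∈ O) : ND Γ (O ⊓ centralizer {y}) := by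
  intro w hw hw1
  obtain ⟨a, ha, haw⟩ := A.bet_nondeg O hO w hw.1 hw1
  have h1 := hn a ha
  have h2 := hn _ h1
  have hw' : y * w * y⁻¹ = w := by rw [← mem_centralizer_singleton_iff.1 hw.2]; group
  have hb : ∀ x, Γ.bet (y * x * y⁻¹) w = Γ.bet x w := fun x => by
    have := bet_conj B x w y
    rwa [hw'] at this
  refine ⟨a * (y * a * y⁻¹) * (y * (y * a * y⁻¹) * y⁻¹), ⟨mul_mem (mul_mem ha h1) h2,
    mem_centralizer_singleton_iff.2 (mul_inv_eq_iff_eq_mul.1 ?_).symm⟩, ?_⟩
  · calc y * (a * (y * a * y⁻¹) * (y * (y * a * y⁻¹) * y⁻¹)) * y⁻¹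
        = y * a * y⁻¹ * (y * (y * a * y⁻¹) * y⁻¹) * (y * (y * (y * a * y⁻¹) * y⁻¹) * y⁻¹) := by group
      _ = _ := by rw [conj3 hy, A.comm O hO _ (mul_mem h1 h2) a ha, ← mul_assoc a]
  · rw [A.bet_mul O hO _ (mul_mem ha h1) _ h2 w hw.1, A.bet_mul O hO a ha _ h1 w hw.1, hb, hb, hb a, haw]
    decide

/-- a hyperbolic pair, or two non-singular vectors -/
theorem nd_cases (A : Γ.ArkFacts) {O W : Subgroup G} (hO : O ∈ Γ.Ark) (hW : W ≤ O) (h : ND Γ W) (h0 : W ≠ ⊥) :
    (∃ a ∈ W, ∃ b ∈ W, Γ.kap a = 1 ∧ Γ.kap b = 1 ∧ Γ.bet a b = 1) ∨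
      ∃ a ∈ W, ∃ c ∈ W, Γ.kap c = 0 ∧ Γ.kap a = 1 ∧ Γ.bet c a = 1 := by
  obtain ⟨e, he, he1⟩ : ∃ t ∈ W, t ≠ 1 := by
    by_contra h
    push Not at h
    exact h0 ((eq_bot_iff_forall _).2 h)
  obtain ⟨f, hf, hfe⟩ := h e he he1
  rcases Ark.two_cases (Γ.kap e) with k1 | k1 <;> rcases Ark.two_cases (Γ.kap f) with k2 | k2
  · refine Or.inr ⟨f * e, mul_mem hf he, f, hf, k2, by rw [kap_mul, k1, k2, hfe]; decide, ?_⟩
    rw [bet_mul_right A hO (hW hf) (hW hf) (hW he), bet_self A hO (hW hf), hfe, zero_add]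
  · exact Or.inr ⟨f, hf, e, he, k1, k2, by rw [bet_symm A hO (hW he) (hW hf), hfe]⟩
  · exact Or.inr ⟨e, he, f, hf, k2, k1, hfe⟩
  · exact Or.inl ⟨f, hf, e, he, k2, k1, hfe⟩

/-- an invariant ark -/
theorem CtxF.ark (C : CtxF Γ y S) (E : Ext Γ) {O : Subgroup G} (hO : O ∈ Γ.Ark)
    (hn : ∀ s ∈ S, ∀ u ∈ O, s * u * s⁻¹ ∈ O) : False := by
  have _ := Fintype.ofFinite G
  have B := E.F.basic
  have A := E.F.ark
  have m := A.bet_mul O hO
  have hnd := avg_mem A B hO C.y3 (hn y C.mem)
  have hnW := C.inf hn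
  have hsg : sg Γ (fun x => x ∈ O ⊓ centralizer {y}) % 3 = 2 := by
    have h1 := sg_mod3 B C.y3 (P := fun x => x ∈ O) (hn y C.mem)
    rw [sg_ark E hO] at h1
    rw [sg_congr (P := fun x => x ∈ O ⊓ centralizer {y}) (P' := fun x => x ∈ O ∧ x * y = y * x)
      fun x => and_congr_right fun _ => mem_centralizer_singleton_iff, ← h1]
    rfl
  have hNW : ∀ g, g * y = y * g → (∀ x ∈ O, g * x * g⁻¹ ∈ O) → ∀ x ∈ O ⊓ centralizer {y},
      g * x * g⁻¹ ∈ O ⊓ centralizer {y} := fun g k1 k2 x hx =>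
    ⟨k2 x hx.1, (centralizer {y}).mul_mem ((centralizer {y}).mul_mem (mem_centralizer_singleton_iff.2 k1) hx.2)
      ((centralizer {y}).inv_mem (mem_centralizer_singleton_iff.2 k1))⟩
  have hWO : O ⊓ centralizer {y} ≤ O := inf_le_left
  have hWy : O ⊓ centralizer {y} ≤ centralizer {y} := inf_le_right
  generalize O ⊓ centralizer {y} = W at hnd hnW hsg hNW hWO hWy
  have h0 : W ≠ ⊥ := by
    rintro rfl
    rw [sg_bot] at hsg
    omega
  by_cases hp : ∀ a ∈ W, a ∉ Γ.Pt
  · exact C.pure E h0 (fun a ha b hb => A.comm O hO a (hWO ha) b (hWO hb)) (fun a ha => A.sq O hO a (hWO ha)) hp hWy hnW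
  push Not at hp
  obtain ⟨u, hu, pu⟩ := hp
  obtain ⟨v, hv, pv, huv⟩ : ∃ v ∈ W, v ∈ Γ.Pt ∧ Γ.bet u v = 1 := by
    obtain ⟨a, ha, hau⟩ := hnd u hu (B.pt_ne u pu)
    have ne : ∀ x, Γ.bet x u = 1 → x ≠ 1 := fun x hx h => by
      rw [h, bet_one_left] at hx
      exact zero_ne_one hx
    rcases Ark.two_cases (Γ.kap a) with k | k
    · exact ⟨a, ha, pt_of_kap k (ne a hau), by rw [bet_symm A hO (hWO hu) (hWO ha), hau]⟩
    · have h1 : Γ.bet (a * u) u = 1 := by rw [m a (hWO ha) u (hWO hu) u (hWO hu), hau, bet_self A hO (hWO hu), add_zero]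
      exact ⟨a * u, mul_mem ha hu, pt_of_kap (by rw [kap_mul, k, kap_pt pu, hau]; decide) (ne _ h1),
        by rw [bet_symm A hO (hWO hu) (hWO (mul_mem ha hu)), h1]⟩
  have huO := hWO hu
  have hvO := hWO hv
  have huvO := mul_mem huO hvO
  have kuv : Γ.kap (u * v) = 1 := by rw [kap_mul, kap_pt pu, kap_pt pv, huv]; decide
  have hnd1 := nd_split A hO hWO hu hv huv hnd
  have hsg1 := sg_hyp A hO hWO hu hv huv (kap_pt pu)
  have hpr := fun a (ha : a ∈ W) => proj A hO hWO hu hv huv ha
  have h1W : W ⊓ perp A hO huO ⊓ perp A hO hvO ≤ W := inf_le_left.trans inf_le_left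
  have h1u : ∀ a ∈ W ⊓ perp A hO huO ⊓ perp A hO hvO, Γ.bet a u = 0 := fun a ha => ha.1.2.2
  have h1v : ∀ a ∈ W ⊓ perp A hO huO ⊓ perp A hO hvO, Γ.bet a v = 0 := fun a ha => ha.2.2
  generalize W ⊓ perp A hO huO ⊓ perp A hO hvO = W₁ at hnd1 hsg1 hpr h1W h1u h1v
  have h1O := h1W.trans hWO
  have aniso : ∀ a ∈ W₁, ∀ b ∈ W₁, Γ.kap a = 1 → Γ.kap b = 1 → Γ.bet a b = 1 → False := by
    intro a ha b hb ka kb hab
    have key : ∀ x ∈ W₁, Γ.kap x = 1 → u * v * x ∈ Γ.Pt ∧ Γ.bet u (u * v * x) = 1 ∧ Γ.bet v (u * v * x) = 1 := by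
      intro x hx kx
      have e1 : Γ.bet u (u * v * x) = 1 := by
        rw [bet_symm A hO huO (mul_mem huvO (h1O hx)), m _ huvO x (h1O hx) u huO, m u huO v hvO u huO,
          bet_self A hO huO, bet_symm A hO hvO huO, huv, h1u x hx]
        decide
      refine ⟨pt_of_kap ?_ fun h => ?_, e1, ?_⟩
      · rw [kap_mul, kuv, kx, bet_symm A hO huvO (h1O hx), bet_mul_right A hO (h1O hx) huO hvO, h1u x hx, h1v x hx]
        decide
      · rw [h, bet_symm A hO huO O.one_mem, bet_one_left] at e1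
        exact zero_ne_one e1
      · rw [bet_symm A hO hvO (mul_mem huvO (h1O hx)), m _ huvO x (h1O hx) v hvO, m u huO v hvO v hvO,
          bet_self A hO hvO, huv, h1v x hx]
        decide
    obtain ⟨a1, a2, a3⟩ := key a ha ka
    obtain ⟨b1, b2, b3⟩ := key b hb kb
    have cy := fun {x : G} (hx : x ∈ W) => mem_centralizer_singleton_iff.1 (hWy hx)
    refine ovoid E hO C.y3 huO hvO (mul_mem huvO (h1O ha)) (mul_mem huvO (h1O hb)) pu pv a1 b1 huv a2 b2 a3 b3 ?_
      (cy hu) (cy hv) (cy (mul_mem (mul_mem hu hv) (h1W ha))) (cy (mul_mem (mul_mem hu hv) (h1W hb)))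
      (fun g k1 k2 => mem_NC k1 (hNW g k1 k2)) (C.solv h0 (two_of_sq fun a ha => A.sq O hO a (hWO ha)) hWy hnW)
    rw [m _ huvO a (h1O ha) _ (mul_mem huvO (h1O hb)), m u huO v hvO _ (mul_mem huvO (h1O hb)), b2, b3,
      bet_mul_right A hO (h1O ha) huvO (h1O hb), bet_mul_right A hO (h1O ha) huO hvO, h1u a ha, h1v a ha, hab]
    decide
  by_cases h1 : W₁ = ⊥
  · have hA := isA_of_kap (A.sq O hO _ huvO) kuv
    have hfix : ∀ s ∈ S, s * (u * v) * s⁻¹ = u * v := by
      intro s hs
      have k1 := hnW s hs _ (mul_mem hu hv)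
      have k2 := kap_conj B (u * v) s
      rw [kuv] at k2
      generalize s * (u * v) * s⁻¹ = x at k1 k2
      obtain ⟨b, hb, h⟩ := hpr x k1
      rw [h1, mem_bot] at hb
      subst hb
      rcases h with h | h | h | h
      · rw [← h, kap_one] at k2
        exact absurd k2 zero_ne_one
      · rw [eq_inv_of_mul_eq_one_left h.symm, inv_eq A hO huO, kap_pt pu] at k2
        exact absurd k2 zero_ne_one
      · rw [eq_inv_of_mul_eq_one_left h.symm, inv_eq A hO hvO, kap_pt pv] at k2
        exact absurd k2 zero_ne_one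
      · rw [mul_assoc] at h
        rw [eq_inv_of_mul_eq_one_left h.symm, inv_eq A hO huvO]
    refine C.single (mem_zpowers (u * v)) hA.2.1 hA.1 (fun a ha => mem_zp hA.1 ha)
      (mem_centralizer_singleton_iff.1 (hWy (mul_mem hu hv))) fun s hs a ha => ?_
    rcases mem_zp hA.1 ha with rfl | rfl
    · rw [mul_one, mul_inv_cancel]; exact one_mem _
    · rw [hfix s hs]; exact mem_zpowers _
  rcases nd_cases A hO h1O hnd1 h1 with ⟨a, ha, b, hb, k1, k2, k3⟩ | ⟨a, ha, c, hc, k1, k2, k3⟩
  · exact aniso a ha b hb k1 k2 k3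
  have hsg2 := sg_hyp A hO h1O hc ha k3 k1
  by_cases h2 : W₁ ⊓ perp A hO (h1O hc) ⊓ perp A hO (h1O ha) = ⊥
  · rw [h2, sg_bot] at hsg2
    omega
  obtain ⟨e, he, ke⟩ : ∃ e ∈ W₁ ⊓ perp A hO (h1O hc) ⊓ perp A hO (h1O ha), Γ.kap e = 1 := by
    rcases nd_cases A hO (inf_le_left.trans (inf_le_left.trans h1O)) (nd_split A hO h1O hc ha k3 hnd1) h2 with
      ⟨e, he, -, -, k, -⟩ | ⟨e, he, -, -, -, k, -⟩
    exacts [⟨e, he, k⟩, ⟨e, he, k⟩]
  refine aniso (e * c) (mul_mem he.1.1 hc) a ha ?_ k2 ?_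
  · rw [kap_mul, ke, k1, he.1.2.2]; decide
  · rw [m e (h1O he.1.1) c (h1O hc) a (h1O ha), he.2.2, k3, zero_add]

/-- an invariant singular subgroup -/
theorem CtxF.sing (C : CtxF Γ y S) (E : Ext Γ) (E2 : Ext2 Γ) {F : Subgroup G} (hF : Γ.Sing F) (h0 : F ≠ ⊥)
    (hn : ∀ s ∈ S, ∀ u ∈ F, s * u * s⁻¹ ∈ F) : False := by
  have key : ∀ V : Subgroup G, Γ.Sing V → (∀ s ∈ S, ∀ u ∈ V, s * u * s⁻¹ ∈ V) → Nat.card V % 3 = 1 := fun V hV h =>
    card_mod3 C.y3 (h y C.mem) (by
      by_contra h1
      exact C.sing_fix E E2 (sing_le hV inf_le_left) h1 inf_le_right (C.inf h))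
  by_cases h8 : 8 < Nat.card F
  · obtain ⟨V, ⟨hV, hc⟩ | hV, h⟩ := E2.big F hF h8
    · have := key V hV fun s hs => h s (hn s hs)
      omega
    · exact C.ark E hV fun s hs => h s (hn s hs)
  · have h1 := key F hF hn
    have h2 := card_two_pow (sing_sq E.F.basic hF) h8
    have h3 : Nat.card F ≠ 1 := fun h => h0 (card_eq_one.1 h)
    exact C.line E2 hF (by omega) hn

/-- **The 2-local subgroups of `C(y)`.** -/
theorem CtxF.no (C : CtxF Γ y S) (E : Ext Γ) (E2 : Ext2 Γ) {X : Subgroup G} (h0 : X ≠ ⊥) (hX : IsPGroup 2 X)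
    (hy : X ≤ centralizer {y}) (hn : ∀ s ∈ S, ∀ u ∈ X, s * u * s⁻¹ ∈ X) : False := by
  have hS : S ≤ normalizer (X : Set G) := SporB.norm_of hn
  by_cases hpt : ∃ c ∈ X, c ∈ Γ.Pt
  · obtain ⟨c, hcX, hc⟩ := hpt
    have St := sit E (pCoreOf_isPGroup (normalizer (X : Set G))) fun g hg => cent_le_core (ch2_pt E hX hcX hc)
      (centralizer_le_normalizer _) le_rfl (le_pCoreOf hX le_normalizer le_rfl) hg
    rcases MainCP.mainC E.F _ _ St with hO | ⟨F, hF0, -, hF, hFn⟩
    · exact C.ark E hO fun s hs => norm_omega s (hS hs)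
    · exact C.sing E E2 hF hF0 fun s hs => hFn s (norm_omega s (hS hs))
  · push Not at hpt
    exact C.pure E (omegaCenterOf_ne_bot hX h0)
      (fun a ha b hb => mem_cent.1 (mem_omegaCenterOf.1 ha).2.1 b (mem_omegaCenterOf.1 hb).1)
      (fun a ha => by rw [← pow_two]; exact (mem_omegaCenterOf.1 ha).2.2)
      (fun a ha => hpt a (mem_omegaCenterOf.1 ha).1) (fun a ha => hy (mem_omegaCenterOf.1 ha).1)
      fun s hs u hu => conj_of_norm (normalizer_le_normalizer_omegaCenterOf _ (hS hs)) hu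

end Cfsg.Agent.SB.SporB
end
end

-- part: SB/D4/Eng
section
prune_inst 0x153021440440000000008582310000442400009200400000c86006440240c0220d800040b0201416122080010009004811000030025000000e00000000040000000012063040a000620016000180000000000000000000000000000000000000000000000
set_option linter.all false
open scoped Cfsg.Agent.FastGrp

/-!
# S5765, `PΩ₈⁺(q)`: from the geometric statements to base size four (helper97)
-/

set_option autoImplicit false

namespace Cfsg.Agent.SB.D4

open QuadraticMap Module Cfsg.Agent.LieClassical.QuadForms Cfsg.Agent.LieClassical.OrthCore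
  Cfsg.Agent.LieClassical.OrthTrans Cfsg.Agent.ClassicalGeometry.OrthSemi Cfsg.Agent.ClassicalGeometry.OrthAut1
  Cfsg.Agent.ClassicalGeometry.TrialityOct Cfsg.Agent.ClassicalGeometry.Triality
  Cfsg.Agent.H989.OutOrth.Basic Cfsg.Agent.H989.OutOrth.Tri Cfsg.Agent.H786.FC

variable {F : Type} [Field F]

theorem autConj {G : Type*} [Group G] (α : MulAut G) (x : G) : α * MulAut.conj x * α⁻¹ = MulAut.conj (α x) := by
  ext y
  simp only [MulAut.conj_apply, _root_.MulAut.mul_apply, _root_.MulAut.inv_apply, _root_.map_mul, _root_.MulEquiv.apply_symm_apply, _root_.map_inv]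

/-- the semisimilitude of an element of `Ω` -/
def og : E8 F →* Gam (Q8 F) := (ofO (Q8 F)).comp (Subgroup.inclusion E_le_O)

theorem og_apply (g : E8 F) (x : V8 F) : (og g).1 x = g.1 x := rfl

theorem Psi_og (g : E8 F) : Psi (Q8 F) (og g) = MulAut.conj (g : G8 F) := Psi_ofO g

theorem og_conjE (M : Gam (Q8 F)) (g : E8 F) : og (conjE (Q8 F) M g) = M * og g * M⁻¹ :=
  Subtype.ext (Equiv.ext fun _ => rfl)

theorem conjE_apply (M : Gam (Q8 F)) (g : E8 F) (x : V8 F) : (conjE (Q8 F) M g).1 (M.1 x) = M.1 (g.1 x) :=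
  conjLin_apply' M g.1 x

theorem gam_smul (M : Gam (Q8 F)) : ∃ σ : F ≃+* F, ∀ (a : F) (v : V8 F), M.1 (a • v) = σ a • M.1 v := by
  obtain ⟨σ, c, h⟩ := M.2
  exact ⟨σ, h.smul⟩

theorem gam_zero (M : Gam (Q8 F)) : M.1 0 = 0 := by
  obtain ⟨σ, c, h⟩ := M.2
  exact h.map_zero

theorem gam_ne (M : Gam (Q8 F)) {v : V8 F} (h : v ≠ 0) : M.1 v ≠ 0 := fun h1 =>
  h (M.1.injective (h1.trans (gam_zero M).symm))

theorem gam_sing (M : Gam (Q8 F)) {v : V8 F} (h : Q8 F v = 0) : Q8 F (M.1 v) = 0 := by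
  obtain ⟨σ, c, hM⟩ := M.2
  rw [hM.form, h, map_zero, mul_zero]

theorem gam_neg (M : Gam (Q8 F)) (v : V8 F) : M.1 (-v) = - M.1 v := by
  obtain ⟨σ, c, hM⟩ := M.2
  rw [← zero_sub, hM.sub, hM.map_zero, zero_sub]

/-! ### rotations -/

theorem ol_lin (a b z : V8 F) :
    omul (oconj b) (omul a z) + omul (oconj a) (omul b z) = polar (Q8 F) a b • z := by
  have h := oconj_omul_omul (a + b) z
  rw [oconj_add, add_omul, add_omul, omul_add, omul_add, oconj_omul_omul, oconj_omul_omul, Q_add, add_smul,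
    add_smul] at h
  linear_combination (exp := 1) h

theorem or_lin (a b z : V8 F) :
    omul (omul z a) (oconj b) + omul (omul z b) (oconj a) = polar (Q8 F) a b • z := by
  have h := omul_omul_oconj (a + b) z
  rw [oconj_add, omul_add, omul_add, add_omul, add_omul, omul_omul_oconj, omul_omul_oconj, Q_add, add_smul,
    add_smul] at h
  linear_combination (exp := 1) h

theorem eigen_aux {c β l e : F} (hc : c ≠ 0) (he : e * e = 1) (hl : l * l = 1)
    (h : (e * l * c) ^ 2 - β * (e * l * c) + c * c = 0) : β ^ 2 = 4 * c ^ 2 := by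
  have h1 : (e * l) * (e * l) = 1 := by linear_combination l * l * he + hl
  have h2 : c * (β * (e * l) - 2 * c) = 0 := by linear_combination -h + c ^ 2 * h1
  have h3 := (mul_eq_zero.1 h2).resolve_left hc
  linear_combination (β * (e * l) + 2 * c) * h3 - β ^ 2 * h1

/-- the triality images of a non-degenerate rotation `r_a r_b` fix no nonsingular point -/
theorem rot_asym {a b : V8 F} (ha : Q8 F a ≠ 0) (hb : Q8 F b = Q8 F a) (hab : polar (Q8 F) a b ^ 2 ≠ 4 * Q8 F a ^ 2)
    {y y₁ y₂ : E8 F} (hy : og y = rr (Q8 F) a * rr (Q8 F) b) (h : T3 y y₁ y₂) {w : V8 F} (hw : Q8 F w ≠ 0) {l : F}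
    (hl : y₁.1 w = l • w ∨ y₂.1 w = l • w) : False := by
  have hb' : Q8 F b ≠ 0 := hb ▸ ha
  have hy' : y.1 = refl (Q8 F) a ha * refl (Q8 F) b hb' := by
    refine LinearEquiv.ext fun x => ?_
    rw [← og_apply, hy, rr_eq ha, rr_eq hb']
    rfl
  have h1 := tri_refl ha rfl hb ha hb'
  rw [← hy'] at h1
  obtain ⟨e, he, h2, h3⟩ := h1.unique (t3_iff.1 h).2
  have hw0 : oconj w ≠ 0 := fun h0 => hw (by rw [← norm_oconj, h0, map_zero])
  have hll : ∀ g : E8 F, g.1 w = l • w → l * l = 1 := fun g hg => by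
    have h4 := mem_O.1 (E_le_O g.2) w
    rw [hg, QuadraticMap.map_smul, smul_eq_mul] at h4
    exact mul_right_cancel₀ hw (h4.trans (one_mul _).symm)
  have hee : e * e = 1 := by
    have h4 := mem_O.1 (E_le_O (kap_conj_mem y₁.2)) (one8 F)
    rw [h2, QuadraticMap.map_smul, mem_O.1 (tri1_mem ha rfl hb), norm_one8] at h4
    simpa only [_root_.smul_eq_mul, _root_.mul_one] using h4
  have hei : e⁻¹ = e := inv_eq_of_mul_eq_one_left hee
  apply hab
  rcases hl with hl | hl
  · have h4 : oconj (y₁.1 (oconj (oconj w))) = e • (Q8 F a)⁻¹ • omul a (omul (oconj b) (oconj w)) := h2 (oconj w)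
    rw [oconj_oconj, hl, oconj_smul] at h4
    set z := oconj w
    have h5 : omul a (omul (oconj b) z) = (e * l * Q8 F a) • z := by
      calc omul a (omul (oconj b) z) = (e * Q8 F a) • e • (Q8 F a)⁻¹ • omul a (omul (oconj b) z) := by
            rw [smul_smul, smul_smul]
            have : e * Q8 F a * e * (Q8 F a)⁻¹ = 1 := by field_simp; linear_combination hee
            rw [this, one_smul]
        _ = _ := by rw [← h4, smul_smul]; congr 1; ring
    have h6 := ol_lin a b (omul (oconj b) z)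
    rw [omul_oconj_omul, omul_smul, h5, omul_smul] at h6
    have h7 := congrArg (omul a) h6
    rw [omul_add, omul_smul, omul_smul, omul_smul, h5, omul_oconj_omul, smul_smul, smul_smul, smul_smul,
      ← add_smul, hb] at h7
    refine eigen_aux ha hee (hll _ hl) ?_
    linear_combination smul_left_injective F hw0 h7
  · have h4 : oconj (y₂.1 (oconj (oconj w))) = e⁻¹ • (Q8 F a)⁻¹ • omul (omul (oconj w) (oconj b)) a := h3 (oconj w)
    rw [oconj_oconj, hl, oconj_smul, hei] at h4
    set z := oconj w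
    have h5 : omul (omul z (oconj b)) a = (e * l * Q8 F a) • z := by
      calc omul (omul z (oconj b)) a = (e * Q8 F a) • e • (Q8 F a)⁻¹ • omul (omul z (oconj b)) a := by
            rw [smul_smul, smul_smul]
            have : e * Q8 F a * e * (Q8 F a)⁻¹ = 1 := by field_simp; linear_combination hee
            rw [this, one_smul]
        _ = _ := by rw [← h4, smul_smul]; congr 1; ring
    have h6 := or_lin a b (omul z (oconj b))
    rw [omul_oconj_omul', smul_omul, h5, smul_omul] at h6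
    have h7 := congrArg (fun t => omul t a) h6
    simp only [add_omul, smul_omul] at h7
    rw [h5, omul_oconj_omul', smul_smul, smul_smul, smul_smul, ← add_smul, hb] at h7
    refine eigen_aux ha hee (hll _ hl) ?_
    linear_combination smul_left_injective F hw0 h7

section fin

variable [Fintype F]

theorem simple8 : IsSimpleGroup (G8 F) := Cfsg.Agent.LieClassical.OrthSimple.good_isSimpleGroup good8

theorem card8 : 360 < Nat.card (G8 F) := by
  have h1 := S0293.result (F := F) rfl 4 le_rfl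
  rw [Cfsg.Agent.H989.OutOrth.Forms.card_P good8, coe_plusForm]
  have hq : 2 ≤ Fintype.card F := Fintype.one_lt_card
  generalize Fintype.card F = q at *
  generalize Nat.card (Cfsg.POmega F (Cfsg.quadFormPlus 4 F)) = n at *
  have h2 : Nat.gcd 4 (q ^ 4 - 1) ≤ 4 := Nat.gcd_le_left _ (by norm_num)
  have h3 : 2 ^ 12 ≤ q ^ (4 * (4 - 1)) := Nat.pow_le_pow_left hq 12
  have h4 : 0 < q ^ 4 - 1 := by have := Nat.pow_le_pow_left hq 4; omega
  have h5 : 0 < ∏ i ∈ Finset.range (4 - 1), (q ^ (2 * (i + 1)) - 1) :=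
    Finset.prod_pos fun i _ => by have := Nat.one_lt_pow (n := 2 * (i + 1)) (by omega) hq; omega
  have h6 : 2 ^ 12 * 1 * 1 ≤ Nat.gcd 4 (q ^ 4 - 1) * n := by
    rw [h1]; exact Nat.mul_le_mul (Nat.mul_le_mul h3 h4) h5
  have h7 := Nat.mul_le_mul_right n h2
  omega

theorem noncomm8 : ¬ IsMulCommutative (G8 F) := by
  intro h
  have h1 : commutator (G8 F) = ⊤ := by
    have h2 := congrArg (Subgroup.map (QuotientGroup.mk' (Subgroup.center (E8 F)))) (commutator_E (good8 (F := F)))
    rwa [commutator_def, Subgroup.map_commutator, ← MonoidHom.range_eq_map, QuotientGroup.range_mk',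
      ← commutator_def] at h2
  have h3 : commutator (G8 F) = ⊥ := by
    rw [commutator_def, Subgroup.commutator_eq_bot_iff_le_centralizer]
    exact fun a _ b _ => h.is_comm.comm b a
  have := simple8 (F := F)
  exact bot_ne_top (h3.symm.trans h1)

theorem as8 : AS (InnG (G8 F)) := have := simple8 (F := F); as_inn noncomm8

theorem finite8 : Finite (G8 F) := Nat.finite_of_card_ne_zero (by have := card8 (F := F); omega)

theorem finite_aut : Finite (MulAut (G8 F)) :=
  have := finite8 (F := F)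
  Finite.of_injective (fun α : MulAut (G8 F) => (α : G8 F → G8 F)) DFunLike.coe_injective

theorem good_of_four {S : Subgroup (MulAut (G8 F))} (hS : Group.IsSolvable S) (h : Four (InnG (G8 F)) S) :
    Good (InnG (G8 F)) S := by
  have := finite_aut (F := F)
  have := simple8 (F := F)
  exact as8.good_of_four (by rw [← Nat.card_congr (innEquiv noncomm8).toEquiv]; exact card8) hS h

theorem exists_rot {v u : V8 F} (hv : Q8 F v ≠ 0) (hu : Q8 F u = Q8 F v) :
    ∃ x : E8 F, og x = rr (Q8 F) v * rr (Q8 F) u := by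
  have hu' : Q8 F u ≠ 0 := hu ▸ hv
  refine ⟨⟨_, good8.refl_mul_refl_mem hu' hv hu⟩, ?_⟩
  rw [rr_eq hv, rr_eq hu']
  rfl

omit [Fintype F] in
theorem cjv_eq {v u : V8 F} {x : E8 F} (hx : og x = rr (Q8 F) v * rr (Q8 F) u) (M : Gam (Q8 F)) :
    Psi (Q8 F) (cjv v u M) = (MulAut.conj (x : G8 F))⁻¹ * Psi (Q8 F) M * MulAut.conj (x : G8 F) := by
  (simp only [← Psi_og]; simp +singlePass only [← map_inv]; (conv => enter [@3, @5]; rw [← map_mul]); simp only [← map_mul]; simp only [hx]; simp only [mul_inv_rev]; (conv => enter [@3, @6, @5, @5, @5]; rw [rr_inv]); simp only [rr_inv]; rewrite [cjv]; with_reducible rfl)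

theorem Psi_of_scal {M : Gam (Q8 F)} (h : IsScal M) : Psi (Q8 F) M = 1 := by
  obtain ⟨c, hc⟩ := h
  have hc0 : c ≠ 0 := by
    rintro rfl
    exact gam_ne M e8_ne (by rw [hc, zero_smul])
  simp only [← Psi_scal good8 (Units.mk0 c hc0)]
  congr 1
  exact Subtype.ext (Equiv.ext hc)

theorem four_of_kill3 {S : Subgroup (MulAut (G8 F))} (h : Kill3 (S.comap (Psi (Q8 F)))) : Four (InnG (G8 F)) S := by
  obtain ⟨v₁, u₁, v₂, u₂, v₃, u₃, a, b, h1, h1', h2, h2', h3, h3', ha, hb, hab, hy, hy', hfix, hkill⟩ := h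
  obtain ⟨x₁, hx₁⟩ := exists_rot h1 h1'
  obtain ⟨x₂, hx₂⟩ := exists_rot h2 h2'
  obtain ⟨x₃, hx₃⟩ := exists_rot h3 h3'
  obtain ⟨y, hyy⟩ := exists_rot ha hb
  obtain ⟨y₁, y₂, hT⟩ := exists_T3 y
  refine ⟨_, ⟨(x₁ : G8 F), rfl⟩, _, ⟨(x₂ : G8 F), rfl⟩, _, ⟨(x₃ : G8 F), rfl⟩, fun s hs e1 e2 e3 => ?_⟩
  have key : ∀ (M : Gam (Q8 F)) (z : E8 F), s (y : G8 F) = (conjE (Q8 F) M z : E8 F) →
      ∃ l : F, z.1 (M⁻¹.1 v₁) = l • M⁻¹.1 v₁ := by
    intro M z hz
    simp only [Subgroup.mem_comap, ← hyy, Psi_og] at hy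
    simp only [Subgroup.mem_comap, cjv_eq hx₁, ← hyy, Psi_og] at hy'
    have h4 : og (conjE (Q8 F) M z) ∈ S.comap (Psi (Q8 F)) := by
      simp only [Subgroup.mem_comap, Psi_og, ← hz, ← autConj]
      exact mul_mem (mul_mem hs hy) (inv_mem hs)
    have h5 : cjv v₁ u₁ (og (conjE (Q8 F) M z)) ∈ S.comap (Psi (Q8 F)) := by
      simp only [Subgroup.mem_comap, cjv_eq hx₁, Psi_og, ← hz, ← autConj]
      have h6 := mul_mem (mul_mem e1 hy') (inv_mem e1)
      convert h6 using 1
      group
    obtain ⟨l, hl⟩ := hfix _ h4 h5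
    obtain ⟨σ, hσ⟩ := gam_smul M⁻¹
    refine ⟨σ l, ?_⟩
    rw [← hσ, ← hl]
    exact (inv_apply M.1 _).symm
  obtain ⟨M, hM | hM | hM⟩ := cosets s
  · subst hM
    exact Psi_of_scal (hkill M hs (by (simp only [Subgroup.mem_comap, cjv_eq hx₁]; assumption)) (by (simp only [Subgroup.mem_comap, cjv_eq hx₂]; assumption))
      (by (simp only [Subgroup.mem_comap, cjv_eq hx₃]; assumption)))
  · obtain ⟨l, hl⟩ := key M y₁ (hM _ _ _ hT)
    exact (rot_asym ha hb hab hyy hT (Q_ne M⁻¹ h1) (Or.inl hl)).elim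
  · obtain ⟨l, hl⟩ := key M y₂ (hM _ _ _ hT)
    exact (rot_asym ha hb hab hyy hT (Q_ne M⁻¹ h1) (Or.inr hl)).elim

theorem four_of_small {A : Type*} [Group A] [Finite A] {T S N : Subgroup A} (hT : AS T) (hS : Group.IsSolvable S)
    (hN : N.index = 3) {x y : A} (hx : x ∈ T) (hy : y ∈ T)
    (h : ∀ s ∈ S, x⁻¹ * s * x ∈ S → y⁻¹ * s * y ∈ S → s ∈ N → s = 1) : Four T S := by
  let D : Subgroup A := S ⊓ S.comap (MulAut.conj x⁻¹).toMonoidHom ⊓ S.comap (MulAut.conj y⁻¹).toMonoidHom
  have hD : ∀ k, k ∈ D ↔ k ∈ S ∧ x⁻¹ * k * x ∈ S ∧ y⁻¹ * k * y ∈ S := fun k => by simp only [D, and_assoc, _root_.map_inv, _root_.MulEquiv.toMonoidHom_eq_coe, _root_.Subgroup.mem_inf, _root_.Subgroup.mem_comap, _root_.MonoidHom.coe_coe, _root_.MulAut.inv_apply, _root_.MulAut.conj_symm_apply]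
  have h3 : Nat.card D ≤ 3 := by
    rw [← hN]
    refine Nat.card_le_card_of_injective (fun d : D => ((d : A) : A ⧸ N)) fun d d' hd => ?_
    have h4 := (hD _).1 (mul_mem (inv_mem d.2) d'.2)
    exact Subtype.ext (inv_mul_eq_one.1 (h _ h4.1 h4.2.1 h4.2.2 (QuotientGroup.eq.1 hd)))
  by_cases h0 : D = ⊥
  · refine four_of_two hx hy fun s hs h1 h2 => ?_
    have h4 := (hD s).2 ⟨hs, h1, h2⟩
    rwa [h0, Subgroup.mem_bot] at h4
  obtain ⟨⟨d, hd⟩, hd1⟩ := Subgroup.ne_bot_iff_exists_ne_one.1 h0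
  have hz : ∃ z ∈ T, z⁻¹ * d * z ∉ S := by
    by_contra hc
    push Not at hc
    let X : Subgroup A := ⨅ z : T, S.comap (MulAut.conj (z : A)⁻¹).toMonoidHom
    have hX : ∀ k, k ∈ X ↔ ∀ z ∈ T, z⁻¹ * k * z ∈ S := fun k => by simp only [X, Subgroup.mem_iInf, _root_.map_inv, _root_.MulEquiv.toMonoidHom_eq_coe, _root_.Subgroup.mem_comap, _root_.MonoidHom.coe_coe, _root_.MulAut.inv_apply, _root_.MulAut.conj_symm_apply, _root_.Subtype.forall]
    rcases hT.eq_bot_or_le (X := X) (fun t ht k hk => (hX _).2 fun z hz => by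
      have h4 := (hX k).1 hk (t⁻¹ * z) (mul_mem (inv_mem ht) hz)
      convert h4 using 1
      group) with h4 | h4
    · have h5 := (hX d).2 hc
      rw [h4, Subgroup.mem_bot] at h5
      exact hd1 (Subtype.ext h5)
    · exact hT.not_le hS fun t ht => by simpa using (hX t).1 (h4 ht) 1 (one_mem _)
  obtain ⟨z, hz, hdz⟩ := hz
  refine ⟨x, hx, y, hy, z, hz, fun s hs h1 h2 h4 => ?_⟩
  let D' : Subgroup D := (S.comap (MulAut.conj z⁻¹).toMonoidHom).subgroupOf D
  have hD' : ∀ k : D, k ∈ D' ↔ z⁻¹ * k * z ∈ S := fun k => by simp only [D', Subgroup.mem_subgroupOf, _root_.map_inv, _root_.MulEquiv.toMonoidHom_eq_coe, _root_.Subgroup.mem_comap, _root_.MonoidHom.coe_coe, _root_.MulAut.inv_apply, _root_.MulAut.conj_symm_apply]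
  have h5 : D' ≠ ⊤ := fun h6 => hdz ((hD' ⟨d, hd⟩).1 (h6 ▸ Subgroup.mem_top _))
  have h6 := D'.card_mul_index
  have h7 : D'.index ≠ 1 := fun h8 => h5 (Subgroup.index_eq_one.1 h8)
  have h8 : D'.index ≠ 0 := Subgroup.index_ne_zero_of_finite
  have h9 : Nat.card D' ≤ 1 := by
    by_contra h10
    have := Nat.mul_le_mul (show 2 ≤ Nat.card D' by omega) (show 2 ≤ D'.index by omega)
    omega
  have h10 : (⟨s, (hD s).2 ⟨hs, h1, h2⟩⟩ : D) ∈ D' := (hD' _).2 h4
  rw [Subgroup.eq_bot_of_card_le D' h9, Subgroup.mem_bot] at h10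
  exact congrArg Subtype.val h10

theorem four_of_kill2 {S : Subgroup (MulAut (G8 F))} (hS : Group.IsSolvable S) (h : Kill2 (S.comap (Psi (Q8 F)))) :
    Four (InnG (G8 F)) S := by
  obtain ⟨v₁, u₁, v₂, u₂, h1, h1', h2, h2', hkill⟩ := h
  obtain ⟨x₁, hx₁⟩ := exists_rot h1 h1'
  obtain ⟨x₂, hx₂⟩ := exists_rot h2 h2'
  have := finite_aut (F := F)
  refine four_of_small as8 hS index_three ⟨(x₁ : G8 F), rfl⟩ ⟨(x₂ : G8 F), rfl⟩ ?_
  rintro _ hs e1 e2 ⟨M, rfl⟩
  exact Psi_of_scal (hkill M hs (by (simp only [Subgroup.mem_comap, cjv_eq hx₁]; assumption)) (by (simp only [Subgroup.mem_comap, cjv_eq hx₂]; assumption)))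

end fin

end Cfsg.Agent.SB.D4

private theorem dce_c94cbe1bcb2a : _root_.True := by
  try have : _root_.True := by simp only [_root_.Cfsg.Agent.SB.D4.cjv.eq_1]
  exact _root_.True.intro
end
end

-- part: SB/D4/Ctx
section
prune_inst 0x10000000000000
set_option linter.all false
open scoped Cfsg.Agent.FastGrp

/-!
# S5765, `PΩ₈⁺(q)`: the minimal invariant subgroup (helper97)
-/

set_option autoImplicit false
set_option linter.unusedSectionVars false

namespace Cfsg.Agent.SB.D4

open QuadraticMap Module Cfsg.Agent.LieClassical.QuadForms Cfsg.Agent.LieClassical.OrthCore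
  Cfsg.Agent.LieClassical.OrthTrans Cfsg.Agent.ClassicalGeometry.OrthSemi Cfsg.Agent.ClassicalGeometry.OrthAut1
  Cfsg.Agent.ClassicalGeometry.TrialityOct Cfsg.Agent.ClassicalGeometry.Triality
  Cfsg.Agent.H989.OutOrth.Basic Cfsg.Agent.H989.OutOrth.Tri Cfsg.Agent.H786.FC

variable {F : Type} [Field F] [Fintype F]

/-- `S` involves triality, `X` is a minimal `S`-invariant subgroup of exponent `r` -/
structure Cx (S : Subgroup (MulAut (G8 F))) (X : Subgroup (G8 F)) (r : ℕ) : Prop where
  solv : Group.IsSolvable S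
  max : MaxInv (InnG (G8 F)) S
  t1 : ∃ α ∈ S, ∃ M, Ty1 α M
  t2 : ∃ α ∈ S, ∃ M, Ty2 α M
  ne : X ≠ ⊥
  le : ∀ x ∈ X, MulAut.conj x ∈ S
  inv : ∀ s ∈ S, ∀ x ∈ X, s x ∈ X
  min : ∀ Y ≤ X, (∀ s ∈ S, ∀ y ∈ Y, s y ∈ Y) → Y = ⊥ ∨ Y = X
  comm : ∀ x ∈ X, ∀ y ∈ X, x * y = y * x
  prime : r.Prime
  pow : ∀ x ∈ X, x ^ r = 1
  char : (r : F) ≠ 0

/-- the lifts of `S` -/
abbrev LL (S : Subgroup (MulAut (G8 F))) : Subgroup (Gam (Q8 F)) := S.comap (Psi (Q8 F))

theorem conj_inj8 : Function.Injective (MulAut.conj : G8 F →* MulAut (G8 F)) :=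
  have := simple8 (F := F); conj_injective noncomm8

theorem exists_cx {p : ℕ} [CharP F p] {S : Subgroup (MulAut (G8 F))} (hS : Group.IsSolvable S)
    (hm : MaxInv (InnG (G8 F)) S) (hn : NPar p (InnG (G8 F)) S) (h1 : ∃ α ∈ S, ∃ M, Ty1 α M)
    (h2 : ∃ α ∈ S, ∃ M, Ty2 α M) : ∃ X r, Cx S X r := by
  have := finite_aut (F := F)
  obtain ⟨X, hle, h0, hinv, hmin, hc, ⟨r, hr, hpow⟩, -⟩ := hm.exists_min as8 hS
  have hX : (X.comap (MulAut.conj : G8 F →* MulAut (G8 F))).map MulAut.conj = X :=
    Subgroup.map_comap_eq_self (hle.trans inf_le_right)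
  refine ⟨X.comap MulAut.conj, r, hS, hm, h1, h2, fun h => h0 (by rw [← hX, h, Subgroup.map_bot]),
    fun x hx => (hle hx).1, fun s hs x hx => ?_, fun Y hY hY' => ?_, fun x hx y hy => conj_inj8 ?_, hr,
    fun x hx => conj_inj8 ?_, fun h => h0 (hn X hle (fun x => ⟨1, Subtype.ext ?_⟩) hinv)⟩
  · rw [Subgroup.mem_comap, ← autConj]
    exact hinv s hs _ hx
  · rcases hmin (Y.map MulAut.conj) (hX ▸ Subgroup.map_mono hY) (by
      rintro s hs _ ⟨y, hy, rfl⟩
      exact ⟨s y, hY' s hs y hy, (autConj s y).symm⟩) with h | h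
    · exact Or.inl ((Subgroup.map_eq_bot_iff_of_injective Y conj_inj8).1 h)
    · exact Or.inr (Subgroup.map_injective conj_inj8 (h.trans hX.symm))
  · simp only [map_mul, map_mul]
    exact hc _ hx _ hy
  · rw [map_pow, map_one]
    exact hpow _ hx
  · have hp : p = r := (Nat.prime_dvd_prime_iff_eq (CharP.char_is_prime F p) hr).1 ((CharP.cast_eq_zero_iff F p r).1 h)
    simp only [pow_one, hp]
    exact hpow x x.2

theorem nondeg8' : Nondeg (Q8 F) := good8.nondeg

theorem finrank8 : finrank F (V8 F) = 8 := by simp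

/-- the bivector `e ∧ e'` -/
def wd {V : Type} [AddCommGroup V] [Module F V] (Q : QuadraticForm F V) (e e' v : V) : V :=
  polar Q e v • e' - polar Q e' v • e

theorem pl_line {y z : V8 F} (hy : Q8 F y = 0) (hy0 : y ≠ 0) (hz : Q8 F z = 0) (hz0 : z ≠ 0)
    (h : ∀ t, ∃ t', pm y t' = pm z t) : ∃ l : F, z = l • y := by
  have h1 : xO (oconj z) = xO (oconj y) := by
    refine Submodule.eq_of_le_of_finrank_eq ?_ ?_
    · rintro _ ⟨t, rfl⟩
      obtain ⟨t', ht⟩ := h (oconj t)
      rw [pm, pm, oconj_oconj] at ht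
      exact ⟨_, ht⟩
    · exact (ClassicalGeometry.TrialitySpaces.finrank_leftSp (by rwa [norm_oconj])
        (ClassicalGeometry.TrialitySpaces.oconj_ne_zero hz0)).trans
        (ClassicalGeometry.TrialitySpaces.finrank_leftSp (by rwa [norm_oconj])
        (ClassicalGeometry.TrialitySpaces.oconj_ne_zero hy0)).symm
  rw [xO_eq_iff good8 (by rwa [norm_oconj]) (ClassicalGeometry.TrialitySpaces.oconj_ne_zero hy0)
    (ClassicalGeometry.TrialitySpaces.oconj_ne_zero hz0)] at h1
  obtain ⟨l, hl⟩ := Submodule.mem_span_singleton.1 (h1 ▸ Submodule.mem_span_singleton_self (oconj z))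
  exact ⟨l, by rw [← oconj_oconj z, ← hl, oconj_smul, oconj_oconj]⟩

theorem pr_line {y z : V8 F} (hy : Q8 F y = 0) (hy0 : y ≠ 0) (hz : Q8 F z = 0) (hz0 : z ≠ 0)
    (h : ∀ t, ∃ t', pm t' y = pm t z) : ∃ l : F, z = l • y := by
  have h1 : Ox (oconj z) = Ox (oconj y) := by
    refine Submodule.eq_of_le_of_finrank_eq ?_ ?_
    · rintro _ ⟨t, rfl⟩
      obtain ⟨t', ht⟩ := h (oconj t)
      rw [pm, pm, oconj_oconj] at ht
      exact ⟨_, ht⟩
    · exact (ClassicalGeometry.TrialitySpaces.finrank_rightSp (by rwa [norm_oconj])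
        (ClassicalGeometry.TrialitySpaces.oconj_ne_zero hz0)).trans
        (ClassicalGeometry.TrialitySpaces.finrank_rightSp (by rwa [norm_oconj])
        (ClassicalGeometry.TrialitySpaces.oconj_ne_zero hy0)).symm
  rw [Ox_eq_iff good8 (by rwa [norm_oconj]) (ClassicalGeometry.TrialitySpaces.oconj_ne_zero hy0)
    (ClassicalGeometry.TrialitySpaces.oconj_ne_zero hz0)] at h1
  obtain ⟨l, hl⟩ := Submodule.mem_span_singleton.1 (h1 ▸ Submodule.mem_span_singleton_self (oconj z))
  exact ⟨l, by rw [← oconj_oconj z, ← hl, oconj_smul, oconj_oconj]⟩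

omit [Fintype F] in
theorem range_pr (y : V8 F) : LinearMap.range (pr y) = ClassicalGeometry.TrialitySpaces.rightSp (oconj y) := by
  ext v
  constructor
  · rintro ⟨t, rfl⟩
    exact ⟨oconj t, rfl⟩
  · rintro ⟨t, rfl⟩
    exact ⟨oconj t, by rw [pr_apply, pm, oconj_oconj]; rfl⟩

omit [Fintype F] in
theorem range_pl (y : V8 F) : LinearMap.range (pl y) = ClassicalGeometry.TrialitySpaces.leftSp (oconj y) := by
  ext v
  constructor
  · rintro ⟨t, rfl⟩
    exact ⟨oconj t, rfl⟩
  · rintro ⟨t, rfl⟩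
    exact ⟨oconj t, by rw [pl_apply, pm, oconj_oconj]; rfl⟩

theorem finrank_pr {y : V8 F} (hy : Q8 F y = 0) (hy0 : y ≠ 0) : finrank F (LinearMap.range (pr y)) = 4 := by
  rw [range_pr]
  exact ClassicalGeometry.TrialitySpaces.finrank_rightSp (by rwa [norm_oconj])
    (ClassicalGeometry.TrialitySpaces.oconj_ne_zero hy0)

theorem conjE_conjE_inv (M : Gam (Q8 F)) (a : E8 F) : conjE (Q8 F) M (conjE (Q8 F) M⁻¹ a) = a := by
  rw [map_inv]
  exact (conjE (Q8 F) M).apply_symm_apply a

theorem conjE_inv_conjE (M : Gam (Q8 F)) (a : E8 F) : conjE (Q8 F) M⁻¹ (conjE (Q8 F) M a) = a := by simp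

theorem conjE_eig {M : Gam (Q8 F)} {a : E8 F} {v : V8 F} {l : F} (h : a.1 v = l • v) :
    ∃ l' : F, (conjE (Q8 F) M a).1 (M.1 v) = l' • M.1 v := by
  obtain ⟨σ, hσ⟩ := gam_smul M
  exact ⟨σ l, by rw [conjE_apply, h, hσ]⟩

namespace Cx

variable {S : Subgroup (MulAut (G8 F))} {X : Subgroup (G8 F)} {r : ℕ} (h : Cx S X r)
include h

theorem le_of_inv {H : Subgroup (G8 F)} (hH : H ≠ ⊤) (hinv : ∀ s ∈ S, ∀ y ∈ H, s y ∈ H) {g : G8 F} (hg : g ∈ H) :
    MulAut.conj g ∈ S := by
  have := finite_aut (F := F)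
  refine h.max.le_of_inv as8 (Y := H.map MulAut.conj) (Subgroup.map_le_range _ _) (fun e => hH ?_) ?_ ⟨g, hg, rfl⟩
  · apply Subgroup.map_injective conj_inj8
    rw [e, ← MonoidHom.range_eq_map]
  · rintro s hs _ ⟨y, hy, rfl⟩
    exact ⟨s y, hinv s hs y hy, (autConj s y).symm⟩

theorem cent {g : G8 F} (hg : ∀ x ∈ X, x * g = g * x) : MulAut.conj g ∈ S := by
  refine h.le_of_inv (H := Subgroup.centralizer (X : Set (G8 F))) (fun e => h.ne ?_) (fun s hs y hy x hx => ?_) hg
  · have := simple8 (F := F)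
    rw [eq_bot_iff]
    intro x hx
    apply conj_inj8
    ext y
    have h1 : y ∈ Subgroup.centralizer (X : Set (G8 F)) := e ▸ Subgroup.mem_top y
    simp only [h1 x hx, _root_.MulAut.conj_apply, _root_.mul_inv_cancel_right, _root_.map_one, _root_.MulAut.one_apply]
  · have h1 := congrArg s (hy _ (h.inv s⁻¹ (inv_mem hs) x hx))
    simpa only [_root_.MulAut.inv_apply, _root_.map_mul, _root_.MulEquiv.apply_symm_apply] using h1

theorem solv_cent : Group.IsSolvable (Subgroup.centralizer (X : Set (G8 F))) := by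
  have := h.solv
  exact Group.isSolvable_of_isSolvable_injective
    (f := ((MulAut.conj : G8 F →* MulAut (G8 F)).comp (Subgroup.subtype _)).codRestrict S fun g => h.cent g.2)
    fun a b e => Subtype.ext (conj_inj8 (congrArg Subtype.val e))

theorem norm {g : G8 F} (hg : MulAut.conj g ∈ S) {x : G8 F} (hx : x ∈ X) : g * x * g⁻¹ ∈ X := h.inv _ hg x hx

theorem conjE_mem {M : Gam (Q8 F)} (hM : M ∈ LL S) {a : E8 F} (ha : (a : G8 F) ∈ X) :
    ((conjE (Q8 F) M a : E8 F) : G8 F) ∈ X := h.inv _ hM _ ha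

theorem og_mem {y : E8 F} (hy : ∀ x ∈ X, ∃ a : E8 F, (a : G8 F) = x ∧ a * y = y * a) : og y ∈ LL S := by
  simp only [Subgroup.mem_comap, Psi_og]
  refine h.cent fun x hx => ?_
  obtain ⟨a, rfl, ha⟩ := hy x hx
  exact congrArg (QuotientGroup.mk : E8 F → G8 F) ha

theorem rot_mem {u v : V8 F} (hu : Q8 F u ≠ 0) (hv : Q8 F v = Q8 F u) (hy : ∀ x ∈ X, ∃ a : E8 F, (a : G8 F) = x ∧
    rr (Q8 F) (a.1 u) * rr (Q8 F) (a.1 v) = rr (Q8 F) u * rr (Q8 F) v) : rr (Q8 F) u * rr (Q8 F) v ∈ LL S := by
  obtain ⟨y, hy'⟩ := exists_rot hu hv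
  simp only [← hy', Subgroup.mem_comap, Psi_og]
  refine h.cent fun x hx => ?_
  obtain ⟨a, rfl, ha⟩ := hy x hx
  apply conj_inj8
  ((conv => enter [@2]; rw [map_mul]); simp only [map_mul]; rewrite [← Psi_og]; simp only [← Psi_og]; (conv => enter [@2]; rw [← map_mul (Psi (Q8 F))]); simp only [← map_mul (Psi (Q8 F))]; simp only [hy'])
  congr 1
  rw [← og_apply, ← og_apply, ← conj_rr _ hu, ← conj_rr _ (hv ▸ hu)] at ha
  rw [← mul_inv_eq_iff_eq_mul]
  refine Eq.trans ?_ ha
  group

theorem sg_mem {e e' : V8 F} (he : Q8 F e = 0) (he' : Q8 F e' = 0)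
    (hy : ∀ x ∈ X, ∃ a : E8 F, (a : G8 F) = x ∧ wd (Q8 F) (a.1 e) (a.1 e') = wd (Q8 F) e e') (c : F)
    (hc : polar (Q8 F) e (c • e') = 0) :
    ((⟨siegel (Q8 F) e (c • e') he hc, siegel_mem_E he hc⟩ : E8 F) : G8 F) ∈
      Subgroup.centralizer (X : Set (G8 F)) := by
  intro x hx
  obtain ⟨a, rfl, ha⟩ := hy x hx
  refine congrArg (QuotientGroup.mk : E8 F → G8 F) (Subtype.ext (LinearEquiv.ext fun v => ?_))
  have hO := E_le_O a.2
  have h1 := congrFun ha (a.1 v)
  rw [wd, wd, polar_map hO, polar_map hO] at h1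
  show a.1 (siegel (Q8 F) e (c • e') he hc v) = siegel (Q8 F) e (c • e') he hc (a.1 v)
  simp only [siegel_apply, QuadraticMap.map_smul, he', smul_eq_mul, mul_zero, zero_mul, zero_smul, sub_zero, map_add,
    map_sub, map_smul, polar_smul_left]
  linear_combination (norm := module) c • h1

theorem no_sl2 (hG : BoxSL2) (hq : 4 ≤ Nat.card F) {e e' f f' : V8 F} (he : Q8 F e = 0) (he' : Q8 F e' = 0)
    (hf : Q8 F f = 0) (hf' : Q8 F f' = 0) (h1 : polar (Q8 F) e e' = 0) (h2 : polar (Q8 F) f f' = 0)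
    (h3 : polar (Q8 F) e f * polar (Q8 F) e' f' - polar (Q8 F) e f' * polar (Q8 F) e' f ≠ 0)
    (hy : ∀ x ∈ X, ∃ a : E8 F, (a : G8 F) = x ∧ wd (Q8 F) (a.1 e) (a.1 e') = wd (Q8 F) e e' ∧
      wd (Q8 F) (a.1 f) (a.1 f') = wd (Q8 F) f f') : False :=
  hG F (V8 F) (Q8 F) _ e e' f f' he hf good8 hq he' hf' h1 h2 h3
    (h.sg_mem he he' fun x hx => (hy x hx).imp fun _ ha => ⟨ha.1, ha.2.1⟩)
    (h.sg_mem hf hf' fun x hx => (hy x hx).imp fun _ ha => ⟨ha.1, ha.2.2⟩) h.solv_cent

theorem mem_iff {s : MulAut (G8 F)} (hs : s ∈ S) {x : G8 F} : s x ∈ X ↔ x ∈ X :=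
  ⟨fun hx => by simpa only [_root_.MulAut.inv_apply, _root_.MulEquiv.symm_apply_apply] using h.inv s⁻¹ (inv_mem hs) _ hx, h.inv s hs x⟩

theorem sym1 : ∃ M : Gam (Q8 F), ∀ a b c : E8 F, T3 a b c →
    ((a : G8 F) ∈ X ↔ ((conjE (Q8 F) M b : E8 F) : G8 F) ∈ X) := by
  obtain ⟨α, hα, M, hM⟩ := h.t1
  exact ⟨M, fun a b c ht => by rw [← hM a b c ht, h.mem_iff hα]⟩

theorem sym2 : ∃ M : Gam (Q8 F), ∀ a b c : E8 F, T3 a b c →
    ((a : G8 F) ∈ X ↔ ((conjE (Q8 F) M c : E8 F) : G8 F) ∈ X) := by
  obtain ⟨α, hα, M, hM⟩ := h.t2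
  exact ⟨M, fun a b c ht => by rw [← hM a b c ht, h.mem_iff hα]⟩

/-- a fixed singular point gives an invariant totally singular solid -/
theorem tf1 {e : V8 F} (he : Q8 F e = 0) (he0 : e ≠ 0)
    (hfix : ∀ x ∈ X, ∃ a : E8 F, (a : G8 F) = x ∧ ∃ l : F, a.1 e = l • e) :
    ∃ U : Submodule F (V8 F), finrank F U = 4 ∧ (∀ u ∈ U, Q8 F u = 0) ∧
      ∀ a : E8 F, (a : G8 F) ∈ X → ∀ u ∈ U, a.1 u ∈ U := by
  obtain ⟨M, hM⟩ := h.sym2
  refine ⟨LinearMap.range (pr (M⁻¹.1 e)), finrank_pr (gam_sing _ he) (gam_ne _ he0), ?_, fun a ha => ?_⟩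
  · rintro _ ⟨t, rfl⟩
    rw [pr_apply, norm_pm, gam_sing _ he, mul_zero]
  rintro _ ⟨t, rfl⟩
  obtain ⟨b, c, ht⟩ := exists_T3 a
  obtain ⟨a', ha', l, hl⟩ := hfix _ ((hM a b c ht).1 ha)
  obtain ⟨d, -, hd⟩ := mk_eq_iff.1 ha'
  have h1 : (conjE (Q8 F) M c).1 e = (d * l) • e := by rw [hd, hl, smul_smul]
  obtain ⟨l', hl'⟩ := conjE_eig (M := M⁻¹) h1
  rw [conjE_inv_conjE] at hl'
  refine ⟨l' • b.1 t, ?_⟩
  rw [pr_apply, pr_apply, ht, hl', smul_pm, pm_smul]

/-- an invariant totally singular solid gives a fixed singular point -/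
theorem tf2 {U : Submodule F (V8 F)} (h4 : finrank F U = 4) (hs : ∀ u ∈ U, Q8 F u = 0)
    (hinv : ∀ x ∈ X, ∃ a : E8 F, (a : G8 F) = x ∧ ∀ u ∈ U, a.1 u ∈ U) :
    ∃ e : V8 F, Q8 F e = 0 ∧ e ≠ 0 ∧ ∀ a : E8 F, (a : G8 F) ∈ X → ∃ l : F, a.1 e = l • e := by
  have hinv' : ∀ a : E8 F, (a : G8 F) ∈ X → ∀ u ∈ U, a.1 u ∈ U := fun a ha u hu => by
    obtain ⟨a', ha', h1⟩ := hinv _ ha
    obtain ⟨d, -, hd⟩ := mk_eq_iff.1 ha'
    rw [hd]
    exact U.smul_mem _ (h1 u hu)
  obtain ⟨x, hx, hx0, hU⟩ := ClassicalGeometry.TrialitySpaces.isOct_of_singular hs h4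
  have hy : Q8 F (oconj x) = 0 := by rwa [norm_oconj]
  have hy0 := ClassicalGeometry.TrialitySpaces.oconj_ne_zero hx0
  rw [← oconj_oconj x, ← range_pl, ← range_pr] at hU
  set y := oconj x
  rcases hU with rfl | rfl
  · obtain ⟨M, hM⟩ := h.sym1
    refine ⟨M.1 y, gam_sing _ hy, gam_ne _ hy0, fun a' ha' => ?_⟩
    rw [← conjE_conjE_inv M a'] at ha' ⊢
    obtain ⟨a, c, ht⟩ := exists_T3₁ (conjE (Q8 F) M⁻¹ a')
    set b := conjE (Q8 F) M⁻¹ a'
    obtain ⟨l, hl⟩ := pl_line hy hy0 ((mem_O.1 (E_le_O b.2) y).trans hy) (b.1.map_ne_zero_iff.2 hy0) fun t => by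
      obtain ⟨t, rfl⟩ := c.1.surjective t
      rw [← ht]
      exact hinv' a ((hM a b c ht).2 ha') _ ⟨t, rfl⟩
    exact conjE_eig hl
  · obtain ⟨M, hM⟩ := h.sym2
    refine ⟨M.1 y, gam_sing _ hy, gam_ne _ hy0, fun a' ha' => ?_⟩
    rw [← conjE_conjE_inv M a'] at ha' ⊢
    obtain ⟨a, b, ht⟩ := exists_T3₂ (conjE (Q8 F) M⁻¹ a')
    set c := conjE (Q8 F) M⁻¹ a'
    obtain ⟨l, hl⟩ := pr_line hy hy0 ((mem_O.1 (E_le_O c.2) y).trans hy) (c.1.map_ne_zero_iff.2 hy0) fun t => by
      obtain ⟨t, rfl⟩ := b.1.surjective t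
      rw [← ht]
      exact hinv' a ((hM a b c ht).2 ha') _ ⟨t, rfl⟩
    exact conjE_eig hl

end Cx

end Cfsg.Agent.SB.D4

private theorem dce_925d18bd05b2 : _root_.True := by
  try have : _root_.True := by simp only [_root_.Cfsg.Agent.SB.D4.wd.eq_1]
  exact _root_.True.intro
end

section
prune_inst 0xfdfff9bbb8bddfdfff7e7fa7dccffdf9b93fffe6dff9cbffe06bff5bff4b00cbc5fbad8fea91fe5ed66a1410f87b53f9ffceffe06bdc7ffffd5ff41ffbff8ffdf7b50851d788340fbc0fff03f0778e7f000000000000000000000000000000000200000000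

-- part: SB/D4/Lin
section
prune_inst 0x20006044442200000018050020000064680001020000000028000a0003086202a000000104a000120002804000000060021000200000000000000000000500000000120000408000020000000000000000000000000000000000000000010000000000000
set_option linter.all false
open scoped Cfsg.Agent.FastGrp

/-!
# S5765, `PΩ₈⁺(q)`: linear algebra (helper97)
-/

set_option autoImplicit false
set_option linter.unusedSectionVars false

namespace Cfsg.Agent.SB.D4

open QuadraticMap Module Cfsg.Agent.LieClassical.OrthCore Cfsg.Agent.LieClassical.OrthTrans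
  Cfsg.Agent.ClassicalGeometry.OrthSemi Cfsg.Agent.H989.OutOrth.Basic

variable {F V : Type} [Field F] [AddCommGroup V] [Module F V] {Q : QuadraticForm F V}

/-! ### orthogonal complements -/

variable (Q) in
/-- the orthogonal complement -/
def prp (W : Submodule F V) : Submodule F V := LinearMap.BilinForm.orthogonal (polarBilin Q) W

theorem mem_prp {W : Submodule F V} {x : V} : x ∈ prp Q W ↔ ∀ y ∈ W, polar Q x y = 0 :=
  ⟨fun h y hy => (polar_comm _ _ _).trans (h y hy), fun h y hy => (polar_comm _ _ _).trans (h y hy)⟩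

theorem prp_anti {W W' : Submodule F V} (h : W ≤ W') : prp Q W' ≤ prp Q W :=
  fun _ hx => mem_prp.2 fun y hy => mem_prp.1 hx y (h hy)

theorem le_prp_prp (W : Submodule F V) : W ≤ prp Q (prp Q W) :=
  fun _ hx => mem_prp.2 fun _ hy => (polar_comm _ _ _).trans (mem_prp.1 hy _ hx)

theorem Nd.inf_prp {W : Submodule F V} (h : Nd Q W) : W ⊓ prp Q W = ⊥ :=
  eq_bot_iff.2 fun x hx => h x hx.1 (mem_prp.1 hx.2)

theorem nd_top (hQ : Nondeg Q) : Nd Q ⊤ := fun x _ h => hQ x fun y => h y trivial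

section fd

variable [FiniteDimensional F V]

theorem finrank_prp (hQ : Nondeg Q) (W : Submodule F V) : finrank F W + finrank F (prp Q W) = finrank F V := by
  have h1 : (polarBilin Q).Nondegenerate := ⟨fun x h => hQ x h, fun x h => hQ x fun y => (polar_comm _ _ _).trans (h y)⟩
  have h2 := LinearMap.BilinForm.finrank_orthogonal h1 W
  have h3 := W.finrank_le
  rw [prp]
  omega

theorem prp_prp (hQ : Nondeg Q) (W : Submodule F V) : prp Q (prp Q W) = W := by
  refine (Submodule.eq_of_le_of_finrank_eq (le_prp_prp W) ?_).symm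
  have h1 := finrank_prp hQ W
  have h2 := finrank_prp hQ (prp Q W)
  omega

theorem Nd.sup_prp (hQ : Nondeg Q) {W : Submodule F V} (h : Nd Q W) : W ⊔ prp Q W = ⊤ := by
  apply Submodule.eq_top_of_finrank_eq
  have h1 := Submodule.finrank_sup_add_finrank_inf_eq W (prp Q W)
  rw [h.inf_prp, finrank_bot, finrank_prp hQ] at h1
  omega

theorem Nd.sup_inf_prp (hQ : Nondeg Q) {U W : Submodule F V} (h : Nd Q U) (hU : U ≤ W) : U ⊔ W ⊓ prp Q U = W := by
  rw [inf_comm, ← sup_inf_assoc_of_le _ hU, h.sup_prp hQ, top_inf_eq]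

theorem Nd.finrank_inf_prp (hQ : Nondeg Q) {U W : Submodule F V} (h : Nd Q U) (hU : U ≤ W) :
    finrank F U + finrank F ↥(W ⊓ prp Q U) = finrank F W := by
  have h1 := Submodule.finrank_sup_add_finrank_inf_eq U (W ⊓ prp Q U)
  rw [h.sup_inf_prp hQ hU, inf_left_comm, h.inf_prp, inf_bot_eq, finrank_bot] at h1
  omega

theorem Nd.nd_inf_prp (hQ : Nondeg Q) {U W : Submodule F V} (h : Nd Q U) (hU : U ≤ W) (hW : Nd Q W) :
    Nd Q (W ⊓ prp Q U) := by
  intro x hx h1
  refine hW x hx.1 fun y hy => ?_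
  rw [← h.sup_inf_prp hQ hU] at hy
  obtain ⟨u, hu, z, hz, rfl⟩ := Submodule.mem_sup.1 hy
  rw [polar_add_right, mem_prp.1 hx.2 u hu, h1 z hz, add_zero]

theorem Nd.nd_prp (hQ : Nondeg Q) {U : Submodule F V} (h : Nd Q U) : Nd Q (prp Q U) := by
  simpa using h.nd_inf_prp hQ le_top (nd_top hQ)

theorem exists_pre {a : V ≃ₗ[F] V} {W : Submodule F V} (hW : ∀ w ∈ W, a w ∈ W) {y : V} (hy : y ∈ W) :
    ∃ w ∈ W, a w = y := by
  have h1 : W.map a.toLinearMap = W :=
    Submodule.eq_of_le_of_finrank_eq (by rintro _ ⟨w, hw, rfl⟩; exact hW w hw) (LinearEquiv.finrank_map_eq a W)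
  rw [← h1] at hy
  exact hy

theorem prp_inv {a : V ≃ₗ[F] V} (ha : a ∈ O Q) {W : Submodule F V} (hW : ∀ w ∈ W, a w ∈ W) {x : V}
    (hx : x ∈ prp Q W) : a x ∈ prp Q W := mem_prp.2 fun y hy => by
  obtain ⟨w, hw, rfl⟩ := exists_pre hW hy
  rw [polar_map ha, mem_prp.1 hx w hw]

end fd

theorem gam_pre [Finite F] [Finite V] (M : Gam Q) {W W' : Submodule F V} (h : ∀ w ∈ W, M.1 w ∈ W')
    (hd : finrank F W' ≤ finrank F W) {y : V} (hy : y ∈ W') : ∃ w ∈ W, M.1 w = y := by
  have h1 : gmap M W = W' := by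
    refine Submodule.eq_of_le_of_finrank_le (fun v hv => ?_) (by rwa [finrank_gmap])
    have h2 := h _ hv
    rwa [show M.1 (M⁻¹.1 v) = v from apply_inv M.1 v] at h2
  rw [← h1] at hy
  exact ⟨_, hy, apply_inv M.1 y⟩

theorem gam_prp [Finite F] [Finite V] (M : Gam Q) {W W' : Submodule F V} (h : ∀ w ∈ W, M.1 w ∈ W')
    (hd : finrank F W' ≤ finrank F W) {x : V} (hx : x ∈ prp Q W) : M.1 x ∈ prp Q W' := mem_prp.2 fun y hy => by
  obtain ⟨w, hw, rfl⟩ := gam_pre M h hd hy
  obtain ⟨σ, c, hM⟩ := M.2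
  rw [hM.polar, mem_prp.1 hx w hw, map_zero, mul_zero]

/-! ### totally singular planes -/

theorem polar_of_ts {U : Submodule F V} (hs : ∀ u ∈ U, Q u = 0) {x y : V} (hx : x ∈ U) (hy : y ∈ U) :
    polar Q x y = 0 := by
  have h1 := Q_add (Q := Q) x y
  rw [hs _ (add_mem hx hy), hs x hx, hs y hy] at h1
  simpa using h1.symm

theorem exists_indep2 {U : Submodule F V} (h2 : 2 ≤ finrank F U) {e : V} : ∃ e' ∈ U, ∀ c : F, e' ≠ c • e := by
  by_contra hc
  push Not at hc
  have h1 : U ≤ Submodule.span F {e} := fun x hx => by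
    obtain ⟨c, rfl⟩ := hc x hx
    exact Submodule.smul_mem _ _ (Submodule.mem_span_singleton_self e)
  have h3 := (Submodule.finrank_mono h1).trans (finrank_span_le_card ({e} : Set V))
  simp at h3
  omega

theorem hasTS_of_le {U W : Submodule F V} (hU : U ≤ W) (hs : ∀ u ∈ U, Q u = 0) (h2 : 2 ≤ finrank F U) :
    HasTS Q W := by
  obtain ⟨e, he, he0⟩ := exists_indep2 h2 (e := 0)
  obtain ⟨e', he', h⟩ := exists_indep2 h2 (e := e)
  exact ⟨e, hU he, e', hU he', hs e he, hs e' he', polar_of_ts hs he he', by simpa using he0 0, h⟩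

theorem Nd.exists_one {W : Submodule F V} (h : Nd Q W) {e : V} (he : e ∈ W) (he0 : e ≠ 0) :
    ∃ g ∈ W, polar Q e g = 1 := by
  by_contra hc
  push Not at hc
  refine he0 (h e he fun y hy => by_contra fun h1 => hc ((polar Q e y)⁻¹ • y) (W.smul_mem _ hy) ?_)
  rw [polar_smul_right, smul_eq_mul, inv_mul_cancel₀ h1]

/-- hyperbolic completion -/
theorem opp {W : Submodule F V} (h : Nd Q W) (hT : HasTS Q W) : ∃ e ∈ W, ∃ e' ∈ W, ∃ f ∈ W, ∃ f' ∈ W,
    Q e = 0 ∧ Q e' = 0 ∧ Q f = 0 ∧ Q f' = 0 ∧ polar Q e e' = 0 ∧ polar Q f f' = 0 ∧ polar Q e f = 1 ∧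
      polar Q e' f' = 1 ∧ polar Q e f' = 0 ∧ polar Q e' f = 0 := by
  obtain ⟨e, he, e', he', h1, h2, h3, h4, h5⟩ := hT
  obtain ⟨g, hg, hg1⟩ := h.exists_one he h4
  obtain ⟨y, hy, hy1⟩ := h.exists_one (sub_mem he' (W.smul_mem (polar Q e' g) he)) (sub_ne_zero.2 (h5 _))
  rw [polar_sub_left, polar_smul_left, smul_eq_mul] at hy1
  obtain ⟨g', hg', k1, k2⟩ : ∃ g' ∈ W, polar Q e g' = 0 ∧ polar Q e' g' = 1 :=
    ⟨y - polar Q e y • g, sub_mem hy (W.smul_mem _ hg), by simp [polar_sub_right, polar_smul_right, hg1], by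
      rw [polar_sub_right, polar_smul_right, smul_eq_mul]; linear_combination hy1⟩
  obtain ⟨g, hg, k3, k4⟩ : ∃ g ∈ W, polar Q e g = 1 ∧ polar Q e' g = 0 :=
    ⟨g - polar Q e' g • g', sub_mem hg (W.smul_mem _ hg'), by simp [polar_sub_right, polar_smul_right, hg1, k1], by
      simp [polar_sub_right, polar_smul_right, k2]⟩
  have h3' : polar Q e' e = 0 := (polar_comm _ _ _).trans h3
  obtain ⟨f, hf, k5, k6, k7⟩ : ∃ f ∈ W, Q f = 0 ∧ polar Q e f = 1 ∧ polar Q e' f = 0 :=
    ⟨g + (-Q g) • e, add_mem hg (W.smul_mem _ he), by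
      rw [Q_add, QuadraticMap.map_smul, polar_smul_right, polar_comm, h1, k3]; simp, by
      simp [polar_add_right, polar_smul_right, k3, h1], by simp [polar_add_right, polar_smul_right, k4, h3']⟩
  refine ⟨e, he, e', he', f, hf, g' + (-Q g') • e' + (-polar Q f g') • e,
    add_mem (add_mem hg' (W.smul_mem _ he')) (W.smul_mem _ he), h1, h2, k5, ?_, h3, ?_, k6, ?_, ?_, k7⟩
  · rw [Q_add, Q_add, QuadraticMap.map_smul, QuadraticMap.map_smul, polar_smul_right, polar_smul_right,
      polar_add_left, polar_smul_left, polar_comm _ g' e', polar_comm _ g' e, h1, h2, k1, k2, h3']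
    simp
  · rw [polar_add_right, polar_add_right, polar_smul_right, polar_smul_right, polar_comm _ f e', polar_comm _ f e,
      k6, k7]
    simp
  · simp [polar_add_right, polar_smul_right, k2, h2, h3']
  · simp [polar_add_right, polar_smul_right, k1, h1, h3]

/-! ### rotations -/

theorem rr_smul {c : F} (hc : c ≠ 0) (v : V) : rr Q (c • v) = rr Q v := by
  refine Subtype.ext (Equiv.ext fun x => ?_)
  rw [rr_apply, rr_apply, QuadraticMap.map_smul, polar_smul_left, smul_smul, smul_eq_mul, smul_eq_mul]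
  congr 2
  by_cases h : Q v = 0
  · simp [h]
  · field_simp

theorem rr_neg (v : V) : rr Q (-v) = rr Q v := by
  rw [← neg_one_smul F, rr_smul (neg_ne_zero.2 one_ne_zero)]

theorem polar_rot {x : V ≃ₗ[F] V} (hx : x ∈ O Q) {u : V} {t : F} (h : x (x u) = t • x u - u) (ht : t ^ 2 ≠ 4) :
    polar Q u (x u) = t * Q u := by
  have h1 := mem_O.1 hx (x u)
  have h2 := polar_map hx u (x u)
  rw [h, sub_eq_add_neg, Q_add, QuadraticMap.map_smul, QuadraticMap.map_neg, polar_neg_right, polar_smul_left,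
    mem_O.1 hx, polar_comm, smul_eq_mul, smul_eq_mul] at h1
  rw [h, polar_sub_right, polar_smul_right, polar_self', mem_O.1 hx, polar_comm, smul_eq_mul] at h2
  by_contra hc
  have h3 := sub_ne_zero.2 hc
  have h4 : t = 0 := mul_right_cancel₀ h3 (by linear_combination -h1)
  have h5 : (2 : F) = 0 := mul_right_cancel₀ h3 (by linear_combination -h2)
  exact ht (by linear_combination t * h4 - 2 * h5)

theorem rr_rot {x : V ≃ₗ[F] V} (hx : x ∈ O Q) {u : V} {t : F} (h : x (x u) = t • x u - u) (ht : t ^ 2 ≠ 4)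
    (hu : Q u ≠ 0) : rr Q (x u) * rr Q (x (x u)) = rr Q u * rr Q (x u) := by
  have h1 : (rr Q (x u)).1 u = - x (x u) := by
    rw [rr_apply, mem_O.1 hx, polar_comm, polar_rot hx h ht, h, neg_sub]
    congr 2
    field_simp
  rw [← rr_neg (x (x u)), ← h1, ← conj_rr _ hu, rr_inv, ← mul_assoc, ← mul_assoc, rr_mul_self, one_mul]

theorem pow_rel {x : V ≃ₗ[F] V} {u : V} {t : F} (h : x (x u) = t • x u - u) (j : ℕ) :
    x (x ((x ^ j) u)) = t • x ((x ^ j) u) - (x ^ j) u := by
  have h1 : ∀ v, x ((x ^ j) v) = (x ^ j) (x v) := fun v =>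
    LinearEquiv.congr_fun ((pow_succ' x j).symm.trans (pow_succ x j)) v
  rw [h1, h1, h, map_sub, map_smul]

theorem rr_pow {x : V ≃ₗ[F] V} (hx : x ∈ O Q) {u : V} {t : F} (h : x (x u) = t • x u - u) (ht : t ^ 2 ≠ 4)
    (hu : Q u ≠ 0) (j : ℕ) : rr Q ((x ^ j) u) * rr Q ((x ^ j) (x u)) = rr Q u * rr Q (x u) := by
  induction j with
  | zero => rfl
  | succ j ih =>
    have h1 : ∀ v, (x ^ j) (x v) = x ((x ^ j) v) := fun v =>
      LinearEquiv.congr_fun ((pow_succ x j).symm.trans (pow_succ' x j)) v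
    rw [← ih, pow_succ', LinearEquiv.mul_apply, LinearEquiv.mul_apply, h1]
    exact rr_rot hx (pow_rel h j) ht (by rwa [mem_O.1 (pow_mem hx j)])

theorem wd_rot {e e' e'' : V} {t : F} (h : e'' = t • e' - e) : wd Q e' e'' = wd Q e e' := by
  funext v
  rw [wd, wd, h, polar_sub_left, polar_smul_left, smul_eq_mul]
  module

theorem wd_pow {x : V ≃ₗ[F] V} {u : V} {t : F} (h : x (x u) = t • x u - u) (j : ℕ) :
    wd Q ((x ^ j) u) ((x ^ j) (x u)) = wd Q u (x u) := by
  induction j with
  | zero => rfl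
  | succ j ih =>
    have h1 : ∀ v, (x ^ j) (x v) = x ((x ^ j) v) := fun v =>
      LinearEquiv.congr_fun ((pow_succ x j).symm.trans (pow_succ' x j)) v
    rw [← ih, pow_succ', LinearEquiv.mul_apply, LinearEquiv.mul_apply, h1]
    exact wd_rot (pow_rel h j)

theorem wd_smul {c : F} (hc : c * c = 1) (e e' : V) : wd Q (c • e) (c • e') = wd Q e e' := by
  funext v
  rw [wd, wd, polar_smul_left, polar_smul_left, smul_smul, smul_smul, smul_eq_mul, smul_eq_mul, mul_right_comm, hc,
    mul_right_comm, hc, one_mul, one_mul]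

/-! ### enumeration -/

theorem exists_enum {ι : Type} (s : Finset ι) {n : ℕ} (hs : s.card = n + 1) {i : ι} (hi : i ∈ s) :
    ∃ f : Fin (n + 1) → ι, Function.Injective f ∧ (∀ k, f k ∈ s) ∧ (∀ j ∈ s, ∃ k, f k = j) ∧ f (Fin.last n) = i := by
  let e := (s.equivFinOfCardEq hs).symm
  refine ⟨fun k => e (Equiv.swap (Fin.last n) (e.symm ⟨i, hi⟩) k), fun k k' h => ?_, fun k => (e _).2,
    fun j hj => ⟨Equiv.swap (Fin.last n) (e.symm ⟨i, hi⟩) (e.symm ⟨j, hj⟩), by simp⟩, by simp⟩
  exact (Equiv.swap _ _).injective (e.injective (Subtype.ext h))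

/-! ### coprime action -/

/-- fixed vectors -/
def Fx (X : Subgroup (V ≃ₗ[F] V)) : Submodule F V := ⨅ a : X, LinearMap.ker (a.1.toLinearMap - 1)

theorem mem_Fx {X : Subgroup (V ≃ₗ[F] V)} {v : V} : v ∈ Fx X ↔ ∀ a ∈ X, a v = v := by
  simp only [Fx, Submodule.mem_iInf, LinearMap.mem_ker, LinearMap.sub_apply, sub_eq_zero, Subtype.forall]
  rfl

theorem pow_fix {x : V ≃ₗ[F] V} {v : V} (h : x v = v) (n : ℕ) : (x ^ n) v = v := by
  induction n with
  | zero => rfl
  | succ n ih => rw [pow_succ, LinearEquiv.mul_apply, h, ih]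

theorem pow_inv {x : V ≃ₗ[F] V} {U : Submodule F V} (h : ∀ v ∈ U, x v ∈ U) (n : ℕ) : ∀ v ∈ U, (x ^ n) v ∈ U := by
  induction n with
  | zero => exact fun _ hv => hv
  | succ n ih => exact fun v hv => by rw [pow_succ, LinearEquiv.mul_apply]; exact ih _ (h v hv)

theorem mem_Fx_zpowers {x : V ≃ₗ[F] V} {v : V} : v ∈ Fx (Subgroup.zpowers x) ↔ x v = v := by
  rw [mem_Fx]
  refine ⟨fun h => h x (Subgroup.mem_zpowers x), fun h a ha => ?_⟩
  exact (Subgroup.zpowers_le (H := MulAction.stabilizer (V ≃ₗ[F] V) v)).2 h ha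

section cop

variable {X : Subgroup (V ≃ₗ[F] V)} {r : ℕ}

theorem pgroup_of_pow (hp : ∀ a ∈ X, a ^ r = 1) : IsPGroup r X :=
  fun a => ⟨1, Subtype.ext (by rw [pow_one]; exact hp a a.2)⟩

theorem card_congr [Finite F] [Finite V] (hr : r.Prime) (hp : ∀ a ∈ X, a ^ r = 1) {U : Submodule F V}
    (hU : ∀ a ∈ X, ∀ v ∈ U, a v ∈ U) :
    Nat.card F ^ finrank F U ≡ Nat.card F ^ finrank F ↥(U ⊓ Fx X) [MOD r] := by
  have : Fact r.Prime := ⟨hr⟩
  let T : SubMulAction X V := ⟨U, fun a v hv => hU a a.2 v hv⟩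
  have h1 := (pgroup_of_pow hp).card_modEq_card_fixedPoints T
  have h2 : Nat.card T = Nat.card U := rfl
  have h3 : Nat.card (MulAction.fixedPoints X T) = Nat.card ↥(U ⊓ Fx X) :=
    Nat.card_congr ⟨fun v => ⟨v.1.1, v.1.2, mem_Fx.2 fun a ha => congrArg Subtype.val (v.2 ⟨a, ha⟩)⟩,
      fun v => ⟨⟨v.1, v.2.1⟩, fun a => Subtype.ext (mem_Fx.1 v.2.2 a a.2)⟩, fun _ => rfl, fun _ => rfl⟩
  rwa [h2, h3, Module.natCard_eq_pow_finrank (K := F) (V := U),
    Module.natCard_eq_pow_finrank (K := F) (V := ↥(U ⊓ Fx X))] at h1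

theorem card_ne_zero_zmod [Finite F] (hr : r.Prime) (hc : (r : F) ≠ 0) : (Nat.card F : ZMod r) ≠ 0 := by
  have := Fintype.ofFinite F
  obtain ⟨p, hp⟩ := CharP.exists F
  obtain ⟨n, hp', hn⟩ := FiniteField.card F p
  rw [Nat.card_eq_fintype_card, hn, Ne, ZMod.natCast_eq_zero_iff]
  intro h
  rw [(Nat.prime_dvd_prime_iff_eq hr hp').1 (hr.dvd_of_dvd_pow h)] at hc
  exact hc (CharP.cast_eq_zero F p)

theorem order_dvd [Finite F] [Finite V] (hr : r.Prime) (hc : (r : F) ≠ 0) (hp : ∀ a ∈ X, a ^ r = 1)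
    {U : Submodule F V} (hU : ∀ a ∈ X, ∀ v ∈ U, a v ∈ U) :
    ∃ m, finrank F U = finrank F ↥(U ⊓ Fx X) + m ∧ orderOf (Nat.card F : ZMod r) ∣ m := by
  have : Fact r.Prime := ⟨hr⟩
  obtain ⟨m, hm⟩ := Nat.exists_eq_add_of_le (Submodule.finrank_mono (inf_le_left : U ⊓ Fx X ≤ U))
  refine ⟨m, hm, orderOf_dvd_of_pow_eq_one ?_⟩
  have h1 := (ZMod.natCast_eq_natCast_iff _ _ _).2 (card_congr hr hp hU)
  rw [hm, pow_add, Nat.cast_mul, Nat.cast_pow, Nat.cast_pow] at h1
  exact mul_left_cancel₀ (pow_ne_zero _ (card_ne_zero_zmod hr hc)) (h1.trans (mul_one _).symm)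

theorem order_dvd_one [Finite F] [Finite V] (hr : r.Prime) (hc : (r : F) ≠ 0) {x : V ≃ₗ[F] V} (hx : x ^ r = 1)
    {U : Submodule F V} (hU : ∀ v ∈ U, x v ∈ U) :
    ∃ m, finrank F U = finrank F ↥(U ⊓ Fx (Subgroup.zpowers x)) + m ∧ orderOf (Nat.card F : ZMod r) ∣ m := by
  have hf : IsOfFinOrder x := isOfFinOrder_iff_pow_eq_one.2 ⟨r, hr.pos, hx⟩
  refine order_dvd hr hc (fun a ha => ?_) fun a ha => ?_
  · obtain ⟨n, rfl⟩ := hf.mem_powers_iff_mem_zpowers.2 ha
    rw [← pow_mul, mul_comm, pow_mul, hx, one_pow]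
  · obtain ⟨n, rfl⟩ := hf.mem_powers_iff_mem_zpowers.2 ha
    exact pow_inv hU n

theorem perp_of_fx [Finite X] (hr : r.Prime) (hc : (r : F) ≠ 0) (hO : X ≤ O Q) (hp : ∀ a ∈ X, a ^ r = 1)
    {U : Submodule F V} (hU : ∀ a ∈ X, ∀ v ∈ U, a v ∈ U) {c : V} (hc' : c ∈ Fx X)
    (h : ∀ w ∈ U ⊓ Fx X, polar Q c w = 0) {v : V} (hv : v ∈ U) : polar Q c v = 0 := by
  have : Fact r.Prime := ⟨hr⟩
  have := Fintype.ofFinite X
  obtain ⟨n, hn⟩ := IsPGroup.iff_card.1 (pgroup_of_pow hp)
  have h1 := h (∑ a : X, a.1 v) ⟨U.sum_mem fun a _ => hU a a.2 v hv, mem_Fx.2 fun b hb => by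
    rw [map_sum]
    exact Fintype.sum_equiv (Equiv.mulLeft ⟨b, hb⟩) _ _ fun _ => rfl⟩
  have h2 : ∀ a : X, polarBilin Q c (a.1 v) = polar Q c v := fun a => by
    rw [← polar_map (hO a.2) c v, mem_Fx.1 hc' a a.2]; rfl
  have h3 : polarBilin Q c (∑ a : X, a.1 v) = 0 := h1
  rw [map_sum, Finset.sum_congr rfl fun a _ => h2 a, Finset.sum_const, Finset.card_univ, ← Nat.card_eq_fintype_card,
    hn, nsmul_eq_mul, Nat.cast_pow] at h3
  exact (mul_eq_zero.1 h3).resolve_left (pow_ne_zero _ hc)

theorem nd_Fx [Finite X] (hQ : Nondeg Q) (hr : r.Prime) (hc : (r : F) ≠ 0) (hO : X ≤ O Q) (hp : ∀ a ∈ X, a ^ r = 1) :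
    Nd Q (Fx X) := fun c hc' h =>
  hQ c fun _ => perp_of_fx hr hc hO hp (U := ⊤) (fun _ _ _ _ => trivial) hc' (fun w hw => h w hw.2) trivial

theorem norm_fix {g : V ≃ₗ[F] V} (hg : g ^ r = 1) (v : V) :
    g (∑ j ∈ Finset.range r, (g ^ j) v) = ∑ j ∈ Finset.range r, (g ^ j) v := by
  have h1 := Finset.sum_range_succ (fun j => (g ^ j) v) r
  rw [Finset.sum_range_succ', hg, pow_zero, add_left_inj] at h1
  rw [map_sum]
  refine Eq.trans (Finset.sum_congr rfl fun j _ => ?_) h1
  rw [pow_succ', LinearEquiv.mul_apply]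

theorem fix_of_pow (hr : r.Prime) {g : V ≃ₗ[F] V} (hg : g ^ r = 1) {j : ℕ} (hj : ¬ r ∣ j) {v : V}
    (h : (g ^ j) v = v) : g v = v := by
  obtain ⟨m, hm⟩ := Nat.exists_mul_mod_eq_one_of_coprime ((Nat.Prime.coprime_iff_not_dvd hr).2 hj).symm hr.one_lt
  have h1 := pow_fix h m
  rwa [← pow_mul, ← Nat.div_add_mod (j * m) r, hm.2, pow_add, pow_mul, hg, one_pow, one_mul, pow_one] at h1

/-- if `a` is fixed point free on `U` then some `a ^ i * b` is not -/
theorem cyc (hr : r.Prime) (hc : (r : F) ≠ 0) {a b : V ≃ₗ[F] V} (hab : a * b = b * a) (ha : a ^ r = 1)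
    (hb : b ^ r = 1) {U : Submodule F V} (h0 : U ≠ ⊥) (haU : ∀ v ∈ U, a v ∈ U) (hbU : ∀ v ∈ U, b v ∈ U)
    (hf : ∀ v ∈ U, a v = v → v = 0) : ∃ i : ℕ, ∃ w ∈ U, w ≠ 0 ∧ (a ^ i * b) w = w := by
  by_contra hcon
  push Not at hcon
  obtain ⟨v, hv, hv0⟩ := (Submodule.ne_bot_iff U).1 h0
  have hC : Commute a b := hab
  have h1 : ∀ i ∈ Finset.range r, ∑ j ∈ Finset.range r, ((a ^ i * b) ^ j) v = 0 := fun i _ => by
    by_contra h2
    refine hcon i _ (U.sum_mem fun j _ => pow_inv (x := a ^ i * b) (fun w hw => pow_inv haU i (b w) (hbU w hw)) j v hv) h2 (norm_fix ?_ v)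
    rw [(hC.pow_left i).mul_pow, ← pow_mul, mul_comm i, pow_mul, ha, hb, one_pow, one_mul]
  have h2 := Finset.sum_eq_zero h1
  rw [Finset.sum_comm, Finset.sum_eq_single 0] at h2
  · simp only [pow_zero, LinearEquiv.coe_one, id_eq, Finset.sum_const, Finset.card_range] at h2
    rw [← Nat.cast_smul_eq_nsmul F] at h2
    exact hv0 ((smul_eq_zero.1 h2).resolve_left hc)
  · intro j hj hj0
    have h3 : ∀ i, ((a ^ i * b) ^ j) v = ((a ^ j) ^ i) ((b ^ j) v) := fun i => by
      rw [(hC.pow_left i).mul_pow, ← pow_mul, mul_comm i, pow_mul, LinearEquiv.mul_apply]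
    rw [Finset.sum_congr rfl fun i _ => h3 i]
    refine hf _ (U.sum_mem fun i _ => pow_inv (pow_inv haU j) i _ (pow_inv hbU j v hv)) (fix_of_pow hr ha
      (Nat.not_dvd_of_pos_of_lt (Nat.pos_of_ne_zero hj0) (Finset.mem_range.1 hj)) (norm_fix ?_ _))
    rw [← pow_mul, mul_comm, pow_mul, ha, one_pow]
  · exact fun h => (h (Finset.mem_range.2 hr.pos)).elim

end cop

end Cfsg.Agent.SB.D4

private theorem dce_2e66cde15228 : _root_.True := by
  try have : _root_.True := by simp only [_root_.Cfsg.Agent.SB.D4.Fx.eq_1]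
  try have : _root_.True := by simp only [_root_.Cfsg.Agent.SB.D4.prp.eq_1]
  exact _root_.True.intro
end

-- part: SB/D4/Odd
section
set_option linter.all false
open scoped Cfsg.Agent.FastGrp

/-!
# S5765, `PΩ₈⁺(q)`: the lifts of odd order (helper97)
-/

set_option autoImplicit false
set_option linter.unusedSectionVars false

namespace Cfsg.Agent.SB.D4

open QuadraticMap Module Cfsg.Agent.LieClassical.QuadForms Cfsg.Agent.LieClassical.OrthCore
  Cfsg.Agent.LieClassical.OrthTrans Cfsg.Agent.ClassicalGeometry.OrthSemi Cfsg.Agent.ClassicalGeometry.OrthAut1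
  Cfsg.Agent.ClassicalGeometry.TrialityOct Cfsg.Agent.ClassicalGeometry.Triality
  Cfsg.Agent.H989.OutOrth.Basic Cfsg.Agent.H989.OutOrth.Tri Cfsg.Agent.H786.FC

theorem even_of_fpf {F V : Type} [Field F] [AddCommGroup V] [Module F V] [FiniteDimensional F V]
    {Q : QuadraticForm F V} {r : ℕ} (hr : r.Prime) (ho : Odd r) {x : V ≃ₗ[F] V} (hO : x ∈ O Q) (hx : x ^ r = 1)
    {U : Submodule F V} (hN : Nd Q U) (hU : ∀ v ∈ U, x v ∈ U) (hf : ∀ v ∈ U, x v = v → v = 0) :
    Even (finrank F U) := by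
  refine hN.even (s := x.toLinearMap - (x⁻¹ : V ≃ₗ[F] V).toLinearMap) (fun v hv => ?_) (fun v _ => ?_) fun v hv h => ?_
  · obtain ⟨w, hw, rfl⟩ := exists_pre hU hv
    exact sub_mem (hU _ hv) (by simpa using hw)
  · show polar Q v (x v - x⁻¹ v) = 0
    rw [polar_sub_right, ← polar_inv hO, polar_comm, sub_self]
  · refine hf v hv (fix_of_pow hr hx (j := 2) (fun h2 => ?_) ?_)
    · rw [(Nat.prime_dvd_prime_iff_eq hr Nat.prime_two).1 h2] at ho
      exact absurd ho (by decide)
    · have h1 : x v = x⁻¹ v := sub_eq_zero.1 h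
      rw [pow_two, LinearEquiv.mul_apply, h1]
      exact x.apply_symm_apply v

variable {F : Type} [Field F] [Fintype F]

omit [Fintype F] in
theorem Sc.pow {a : E8 F} {e : F} (h : Sc a e) (n : ℕ) : Sc (a ^ n) (e ^ n) := by
  induction n with
  | zero => simpa using Sc.one
  | succ n ih => rw [pow_succ, pow_succ]; exact ih.mul h

omit [Fintype F] in
theorem odd_lift {r : ℕ} (ho : Odd r) {a : E8 F} {e : F} (h : Sc (a ^ r) e) : (a ^ (r + 1)) ^ r = 1 := by
  obtain ⟨n, hn⟩ := ho.add_one
  have h1 := h.pow (r + 1)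
  rw [hn, pow_add e, ← mul_pow, h.sq, one_pow, ← hn, ← pow_mul, mul_comm, pow_mul] at h1
  exact h1.eq_one

omit [Fintype F] in
theorem odd_sc {r : ℕ} (ho : Odd r) {a : E8 F} {e : F} (h : Sc a e) (ha : a ^ r = 1) : a = 1 := by
  obtain ⟨n, rfl⟩ := ho
  have h1 := h.pow (2 * n + 1)
  rw [ha, pow_succ, pow_mul, pow_two, h.sq, one_pow, one_mul] at h1
  exact (h1.unique Sc.one ▸ h : Sc a 1).eq_one

theorem exists_T3_odd {r : ℕ} (ho : Odd r) {a : E8 F} (ha : a ^ r = 1) :
    ∃ b c, T3 a b c ∧ b ^ r = 1 ∧ c ^ r = 1 := by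
  obtain ⟨b, c, h⟩ := exists_T3 a
  obtain ⟨d, d', h1, h2, -⟩ := (h.pow r).sc (ha ▸ Sc.one)
  have h3 := h.pow (r + 1)
  rw [pow_succ a, ha, one_mul] at h3
  exact ⟨_, _, h3, odd_lift ho h1, odd_lift ho h2⟩

theorem finite_E8 : Finite (E8 F) :=
  Finite.of_injective (fun a : E8 F => (a.1 : V8 F → V8 F)) fun _ _ h => Subtype.ext (DFunLike.coe_injective h)

theorem finite_sub (Y : Subgroup (GL8 F)) : Finite Y :=
  Finite.of_injective (fun a : Y => (a.1 : V8 F → V8 F)) fun _ _ h => Subtype.ext (DFunLike.coe_injective h)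

namespace Cx

variable {S : Subgroup (MulAut (G8 F))} {X : Subgroup (G8 F)} {r : ℕ} (h : Cx S X r) (ho : Odd r)
include h

/-- the order of `q` modulo `r` -/
theorem order_cases : orderOf (Nat.card F : ZMod r) ∣ 4 ∨ orderOf (Nat.card F : ZMod r) ∣ 6 := by
  have : Fact r.Prime := ⟨h.prime⟩
  obtain ⟨⟨x, hx⟩, hx1⟩ := Subgroup.ne_bot_iff_exists_ne_one.1 h.ne
  have h1 : r ∣ Nat.card (G8 F) := by
    rw [← orderOf_eq_prime (h.pow x hx) fun e => hx1 (Subtype.ext e)]
    exact orderOf_dvd_natCard x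
  have h2 := S0293.result (F := F) rfl 4 le_rfl
  rw [Cfsg.Agent.H989.OutOrth.Forms.card_P good8, coe_plusForm] at h1
  have h3 := h2 ▸ h1.mul_left (Nat.gcd 4 (Fintype.card F ^ 4 - 1))
  have hq := card_ne_zero_zmod h.prime h.char
  have hq1 : 0 < Fintype.card F := Fintype.card_pos
  rw [Nat.card_eq_fintype_card] at hq ⊢
  have key : ∀ n, r ∣ Fintype.card F ^ n - 1 → orderOf (Fintype.card F : ZMod r) ∣ n := fun n hn => by
    refine orderOf_dvd_of_pow_eq_one ?_
    rw [← ZMod.natCast_eq_zero_iff, Nat.cast_sub (Nat.one_le_pow _ _ hq1), Nat.cast_pow, Nat.cast_one] at hn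
    exact sub_eq_zero.1 hn
  simp only [Finset.prod_range_succ, Finset.prod_range_zero, one_mul, h.prime.dvd_mul, Nat.reduceSub] at h3
  rcases h3 with (h3 | h3) | (h3 | h3) | h3
  · exact (hq ((ZMod.natCast_eq_zero_iff _ _).2 (h.prime.dvd_of_dvd_pow h3))).elim
  · exact Or.inl (key _ h3)
  · exact Or.inl ((key _ h3).trans (by norm_num))
  · exact Or.inl (key _ h3)
  · exact Or.inr (key _ h3)

include ho

theorem comm_odd {a b : E8 F} (ha : (a : G8 F) ∈ X) (hb : (b : G8 F) ∈ X) (hbr : b ^ r = 1) : a * b = b * a := by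
  have h1 : ((a * b * a⁻¹ * b⁻¹ : E8 F) : G8 F) = 1 := by
    rw [QuotientGroup.mk_mul, QuotientGroup.mk_mul, QuotientGroup.mk_mul, h.comm _ ha _ hb]
    simp
  have h2 := Subgroup.mem_center_iff.1 ((QuotientGroup.eq_one_iff _).1 h1)
  obtain ⟨e, he⟩ := mk_eq_one_iff.1 h1
  have h3 := odd_sc ho he (by
    have h4 : Commute (a * b * a⁻¹ * b⁻¹) b := (h2 b).symm
    have h5 := h4.mul_pow r
    rwa [inv_mul_cancel_right, conj_pow, hbr, mul_one, mul_one, mul_inv_cancel, eq_comm] at h5)
  rwa [mul_inv_eq_one, mul_inv_eq_iff_eq_mul] at h3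

/-- the lifts of odd order -/
def Y : Subgroup (GL8 F) where
  carrier := {g | ∃ a : E8 F, a.1 = g ∧ (a : G8 F) ∈ X ∧ a ^ r = 1}
  mul_mem' := by
    rintro _ _ ⟨a, rfl, ha, ha'⟩ ⟨b, rfl, hb, hb'⟩
    refine ⟨a * b, rfl, mul_mem ha hb, ?_⟩
    rw [Commute.mul_pow (h.comm_odd ho ha hb hb'), ha', hb', one_mul]
  one_mem' := ⟨1, rfl, one_mem X, one_pow r⟩
  inv_mem' := by
    rintro _ ⟨a, rfl, ha, ha'⟩
    exact ⟨a⁻¹, rfl, inv_mem ha, by rw [inv_pow, ha', inv_one]⟩

theorem coe_mem_Y {a : E8 F} : a.1 ∈ h.Y ho ↔ (a : G8 F) ∈ X ∧ a ^ r = 1 :=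
  ⟨fun ⟨_, e, h1⟩ => Subtype.ext e ▸ h1, fun h1 => ⟨a, rfl, h1⟩⟩

theorem lift (x : G8 F) (hx : x ∈ X) : ∃ a : E8 F, (a : G8 F) = x ∧ a.1 ∈ h.Y ho := by
  obtain ⟨a, rfl⟩ := QuotientGroup.mk_surjective x
  have h1 : ((a ^ (r + 1) : E8 F) : G8 F) = a := by rw [QuotientGroup.mk_pow, pow_succ, h.pow _ hx, one_mul]
  obtain ⟨e, he⟩ := mk_eq_one_iff.1 (show ((a ^ r : E8 F) : G8 F) = 1 from h.pow _ hx)
  exact ⟨_, h1, (h.coe_mem_Y ho).2 ⟨h1 ▸ hx, odd_lift ho he⟩⟩

theorem Y_le : h.Y ho ≤ O (Q8 F) := by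
  rintro _ ⟨a, rfl, -⟩
  exact E_le_O a.2

theorem Y_pow : ∀ g ∈ h.Y ho, g ^ r = 1 := by
  rintro _ ⟨a, rfl, -, ha⟩
  exact congrArg Subtype.val ha

theorem Y_comm : ∀ g ∈ h.Y ho, ∀ g' ∈ h.Y ho, g * g' = g' * g := by
  rintro _ ⟨a, rfl, ha, -⟩ _ ⟨b, rfl, hb, hb'⟩
  exact congrArg Subtype.val (h.comm_odd ho ha hb hb')

theorem Y_conj : ∀ M ∈ LL S, ∀ g ∈ h.Y ho, conjLin M g ∈ h.Y ho := by
  rintro M hM _ ⟨a, rfl, ha, ha'⟩
  exact ⟨conjE (Q8 F) M a, rfl, h.conjE_mem hM ha, by rw [← map_pow, ha', map_one]⟩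

theorem Y_ne : ∃ g ∈ h.Y ho, g ≠ 1 := by
  obtain ⟨⟨x, hx⟩, hx1⟩ := Subgroup.ne_bot_iff_exists_ne_one.1 h.ne
  obtain ⟨a, rfl, ha⟩ := h.lift ho x hx
  exact ⟨_, ha, fun e => hx1 (Subtype.ext (congrArg (QuotientGroup.mk : E8 F → G8 F) (Subtype.ext e : a = 1)))⟩

theorem Fx_ne_top : Fx (h.Y ho) ≠ ⊤ := fun e => by
  obtain ⟨g, hg, hg1⟩ := h.Y_ne ho
  exact hg1 (LinearEquiv.ext fun v => mem_Fx.1 (e ▸ Submodule.mem_top) g hg)

theorem nd_FxY : Nd (Q8 F) (Fx (h.Y ho)) :=
  have := finite_sub (h.Y ho)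
  nd_Fx nondeg8' h.prime h.char (h.Y_le ho) (h.Y_pow ho)

theorem conjE_mem_Y {M : Gam (Q8 F)} {a b : E8 F} (ha : a ^ r = 1) (hb : b ^ r = 1)
    (hM : (a : G8 F) ∈ X ↔ ((conjE (Q8 F) M b : E8 F) : G8 F) ∈ X) : a.1 ∈ h.Y ho ↔ conjLin M b.1 ∈ h.Y ho := by
  rw [h.coe_mem_Y ho, ← coe_conjE, h.coe_mem_Y ho, ← map_pow, hb, map_one, hM, ha]

theorem tf1Y {e : V8 F} (he : Q8 F e = 0) (he0 : e ≠ 0) (hfix : e ∈ Fx (h.Y ho)) :
    ∃ U : Submodule F (V8 F), finrank F U = 4 ∧ (∀ u ∈ U, Q8 F u = 0) ∧ ∀ g ∈ h.Y ho, ∀ u ∈ U, g u ∈ U := by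
  obtain ⟨U, h1, h2, h3⟩ := h.tf1 he he0 fun x hx => (h.lift ho x hx).imp fun a ha =>
    ⟨ha.1, 1, by rw [mem_Fx.1 hfix _ ha.2, one_smul]⟩
  refine ⟨U, h1, h2, ?_⟩
  rintro _ ⟨a, rfl, ha, -⟩
  exact h3 a ha

theorem tf2Y {U : Submodule F (V8 F)} (h4 : finrank F U = 4) (hs : ∀ u ∈ U, Q8 F u = 0)
    (hinv : ∀ g ∈ h.Y ho, ∀ u ∈ U, g u ∈ U) :
    ∃ e : V8 F, Q8 F e = 0 ∧ e ≠ 0 ∧ ∀ g ∈ h.Y ho, ∃ l : F, g e = l • e := by
  obtain ⟨e, h1, h2, h3⟩ := h.tf2 h4 hs fun x hx => (h.lift ho x hx).imp fun a ha => ⟨ha.1, hinv _ ha.2⟩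
  refine ⟨e, h1, h2, ?_⟩
  rintro _ ⟨a, rfl, ha, -⟩
  exact h3 a ha

theorem rot_memY {u v : V8 F} (hu : Q8 F u ≠ 0) (hv : Q8 F v = Q8 F u) (hy : ∀ g ∈ h.Y ho,
    rr (Q8 F) (g u) * rr (Q8 F) (g v) = rr (Q8 F) u * rr (Q8 F) v) : rr (Q8 F) u * rr (Q8 F) v ∈ LL S :=
  h.rot_mem hu hv fun x hx => (h.lift ho x hx).imp fun _ ha => ⟨ha.1, hy _ ha.2⟩

end Cx

end Cfsg.Agent.SB.D4
end

-- part: SB/D4/K2
section
prune_inst 0x4000000000000000008400000080000420000200000000002080000000000000000000020000000000000000000010000000010008108a000000000000000000000000000000000000000000000000000000000000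
set_option linter.all false
open scoped Cfsg.Agent.FastGrp

-- part: SB/D4/K4
section
/-!
# S5765, `PΩ₈⁺(q)`: primes dividing `q² + 1` (helper97)
-/

set_option autoImplicit false
set_option linter.unusedSectionVars false

namespace Cfsg.Agent.SB.D4

open QuadraticMap Module Cfsg.Agent.LieClassical.QuadForms Cfsg.Agent.LieClassical.OrthCore
  Cfsg.Agent.LieClassical.OrthTrans Cfsg.Agent.ClassicalGeometry.OrthSemi Cfsg.Agent.ClassicalGeometry.OrthAut1
  Cfsg.Agent.ClassicalGeometry.TrialityOct Cfsg.Agent.ClassicalGeometry.Triality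
  Cfsg.Agent.H989.OutOrth.Basic Cfsg.Agent.H989.OutOrth.Tri Cfsg.Agent.H786.FC

section gen

variable {F V : Type} [Field F] [AddCommGroup V] [Module F V] {Q : QuadraticForm F V}
  {Y : Subgroup (V ≃ₗ[F] V)} {r : ℕ}

theorem add_pow_card [Fintype F] [Nontrivial V] {f g : Module.End F V} (h : Commute f g) :
    (f + g) ^ Fintype.card F = f ^ Fintype.card F + g ^ Fintype.card F := by
  obtain ⟨p, hp⟩ := CharP.exists F
  obtain ⟨n, hp', hn⟩ := FiniteField.card F p
  have : Fact p.Prime := ⟨hp'⟩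
  have := charP_of_injective_algebraMap (algebraMap F (Module.End F V)).injective p
  rw [hn, add_pow_char_pow_of_commute _ _ h]

theorem toLin_pow (a : V ≃ₗ[F] V) (n : ℕ) : (a ^ n).toLinearMap = a.toLinearMap ^ n :=
  map_pow LinearEquiv.automorphismGroup.toLinearMapMonoidHom a n

theorem toLin_comm {a b : V ≃ₗ[F] V} (h : a * b = b * a) : Commute a.toLinearMap b.toLinearMap :=
  Commute.map h LinearEquiv.automorphismGroup.toLinearMapMonoidHom

theorem sym_pow_card [Fintype F] [Nontrivial V] (a : V ≃ₗ[F] V) :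
    sym a ^ Fintype.card F = sym (a ^ Fintype.card F) := by
  rw [sym, add_pow_card (toLin_comm (by simp)), ← toLin_pow, ← toLin_pow, inv_pow, sym]

theorem sym_inv (a : V ≃ₗ[F] V) : sym a⁻¹ = sym a := by rw [sym, inv_inv, add_comm, sym]

theorem pow_eq_self {G : Type*} [Group G] {a : G} (ha : a ^ r = 1) {m : ℕ} (h : (m : ZMod r) = 1) : a ^ m = a := by
  have h1 := (ZMod.natCast_eq_natCast_iff m 1 r).1 (h.trans Nat.cast_one.symm)
  exact (pow_eq_pow_iff_modEq.2 (h1.of_dvd (orderOf_dvd_of_pow_eq_one ha))).trans (pow_one a)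

theorem pow_eq_inv {G : Type*} [Group G] {a : G} (ha : a ^ r = 1) {m : ℕ} (h : (m : ZMod r) = -1) : a ^ m = a⁻¹ := by
  obtain ⟨c, hc⟩ := (ZMod.natCast_eq_zero_iff (m + 1) r).1 (by rw [Nat.cast_succ, h, neg_add_cancel])
  rw [eq_inv_iff_mul_eq_one, ← pow_succ, hc, pow_mul, ha, one_pow]

theorem pow_of_sr (hr : r.Prime) (hc : (r : F) ≠ 0) (hcomm : ∀ a ∈ Y, ∀ b ∈ Y, a * b = b * a)
    (hp : ∀ a ∈ Y, a ^ r = 1) {U : Submodule F V} (hU : ∀ a ∈ Y, ∀ v ∈ U, a v ∈ U)
    (hsr : ∀ g ∈ Y, ∀ w ∈ U, w ≠ 0 → g w = w → ∀ v ∈ U, g v = v) {x : V ≃ₗ[F] V} (hx : x ∈ Y)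
    (hx' : ∃ v ∈ U, x v ≠ v) {b : V ≃ₗ[F] V} (hb : b ∈ Y) : ∃ j : ℕ, ∀ v ∈ U, b v = (x ^ j) v := by
  obtain ⟨v₀, hv₀, hv₀'⟩ := hx'
  obtain ⟨i, w, hw, hw0, h1⟩ := cyc hr hc (hcomm x hx b hb) (hp x hx) (hp b hb) (U := U)
    (by rintro rfl; exact hv₀' (by rw [(Submodule.mem_bot F).1 hv₀, map_zero])) (hU x hx) (hU b hb)
    fun v hv h => by_contra fun h0 => hv₀' (hsr x hx v hv h0 h v₀ hv₀)
  refine ⟨(r - 1) * i, fun v hv => ?_⟩
  have h2 : x ^ ((r - 1) * i) * (x ^ i * b) = b := by
    rw [← mul_assoc, ← pow_add, ← Nat.succ_mul, Nat.succ_eq_add_one, Nat.sub_add_cancel hr.pos, pow_mul, hp x hx,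
      one_pow, one_mul]
  conv_lhs => rw [← h2]
  rw [LinearEquiv.mul_apply, hsr _ (mul_mem (pow_mem hx i) hb) w hw hw0 h1 v hv]

/-- irreducible -/
def Irr (Y : Subgroup (V ≃ₗ[F] V)) (U : Submodule F V) : Prop :=
  ∀ U' ≤ U, (∀ g ∈ Y, ∀ v ∈ U', g v ∈ U') → U' = ⊥ ∨ U' = U

theorem Irr.sr (hcomm : ∀ a ∈ Y, ∀ b ∈ Y, a * b = b * a) {U : Submodule F V} (hU : ∀ a ∈ Y, ∀ v ∈ U, a v ∈ U)
    (hI : Irr Y U) : ∀ g ∈ Y, ∀ w ∈ U, w ≠ 0 → g w = w → ∀ v ∈ U, g v = v := by
  intro g hg w hw hw0 h v hv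
  rcases hI (U ⊓ Fx (Subgroup.zpowers g)) inf_le_left (fun a ha v hv => ⟨hU a ha v hv.1, mem_Fx_zpowers.2 (by
    rw [comm_apply hcomm hg ha, mem_Fx_zpowers.1 hv.2])⟩) with h1 | h1
  · exact (hw0 ((Submodule.eq_bot_iff _).1 h1 w ⟨hw, mem_Fx_zpowers.2 h⟩)).elim
  · exact mem_Fx_zpowers.1 (inf_eq_left.1 h1 hv)

theorem Irr.schur [Fintype F] {U : Submodule F V} (hU : ∀ a ∈ Y, ∀ v ∈ U, a v ∈ U) (hI : Irr Y U)
    {s : Module.End F V} (hs : s ^ Fintype.card F = s) (hsU : ∀ v ∈ U, s v ∈ U)
    (hc : ∀ g ∈ Y, Commute s g.toLinearMap) : ∃ c : F, ∀ v ∈ U, s v = c • v := by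
  by_contra hcon
  have h1 : ∀ c : F, U ⊓ LinearMap.ker (s - c • 1) = ⊥ := fun c => by
    refine (hI _ inf_le_left fun g hg v hv => ⟨hU g hg v hv.1, ?_⟩).resolve_right fun h => hcon ⟨c, fun v hv => ?_⟩
    · have h2 : s v - c • v = 0 := hv.2
      have h3 : s (g v) = g (s v) := LinearMap.congr_fun (hc g hg) v
      show s (g v) - c • g v = 0
      rw [h3, ← map_smul, ← map_sub, h2, map_zero]
    · exact sub_eq_zero.1 (inf_eq_left.1 h hv)
  have h2 := le_iSup_eig hs hsU
  simp only [h1, iSup_bot, le_bot_iff] at h2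
  exact hcon ⟨0, fun v hv => by rw [h2] at hv; rw [(Submodule.mem_bot F).1 hv, map_zero, smul_zero]⟩

theorem end_pow_inv {f : Module.End F V} {U : Submodule F V} (h : ∀ v ∈ U, f v ∈ U) (n : ℕ) :
    ∀ v ∈ U, (f ^ n) v ∈ U := by
  induction n with
  | zero => exact fun _ hv => hv
  | succ n ih => exact fun v hv => by rw [pow_succ, Module.End.mul_apply]; exact ih _ (h v hv)

/-- the quartic relation -/
def qrt (x : V ≃ₗ[F] V) (σ π : F) : Module.End F V :=
  x.toLinearMap ^ 4 - (σ • (x.toLinearMap ^ 3 + x.toLinearMap) - π • x.toLinearMap ^ 2 - 1)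

theorem qrt_apply (x : V ≃ₗ[F] V) (σ π : F) (v : V) :
    qrt x σ π v = x (x (x (x v))) - (σ • (x (x (x v)) + x v) - π • x (x v) - v) := rfl

theorem Irr.quartic [Fintype F] [Nontrivial V] (hcomm : ∀ a ∈ Y, ∀ b ∈ Y, a * b = b * a) {U : Submodule F V}
    (hU : ∀ a ∈ Y, ∀ v ∈ U, a v ∈ U) (hI : Irr Y U) {x : V ≃ₗ[F] V} (hx : x ∈ Y)
    (hq : (x ^ Fintype.card F) ^ Fintype.card F = x⁻¹) : ∃ σ π : F, ∀ v ∈ U, qrt x σ π v = 0 := by
  have h1 : (sym x ^ Fintype.card F) ^ Fintype.card F = sym x := by rw [sym_pow_card, sym_pow_card, hq, sym_inv]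
  have h2 : ∀ v ∈ U, sym x v ∈ U := fun v hv => add_mem (hU x hx v hv) (hU _ (inv_mem hx) v hv)
  have h3 : ∀ g ∈ Y, Commute (sym x) g.toLinearMap := fun g hg =>
    (toLin_comm (hcomm x hx g hg)).add_left (toLin_comm (hcomm _ (inv_mem hx) g hg))
  have h4 := Commute.self_pow (sym x) (Fintype.card F)
  obtain ⟨σ, hσ⟩ := hI.schur hU (s := sym x + sym x ^ Fintype.card F) (by rw [add_pow_card h4, h1, add_comm])
    (fun v hv => add_mem (h2 v hv) (end_pow_inv h2 _ v hv)) fun g hg => (h3 g hg).add_left ((h3 g hg).pow_left _)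
  obtain ⟨π, hπ⟩ := hI.schur hU (s := sym x ^ Fintype.card F * sym x) (by rw [h4.symm.mul_pow, h1, h4.eq])
    (fun v hv => end_pow_inv h2 _ _ (h2 v hv)) fun g hg => ((h3 g hg).pow_left _).mul_left (h3 g hg)
  refine ⟨σ, π + 2, fun v hv => ?_⟩
  have h5 := hU x hx _ (hU x hx v hv)
  have h6 := hσ _ (h2 _ h5)
  rw [LinearMap.add_apply, ← Module.End.mul_apply (sym x ^ Fintype.card F), hπ _ h5] at h6
  have h7 : ∀ w, x⁻¹ (x w) = w := fun w => x.symm_apply_apply w
  simp only [sym_apply, map_add, h7] at h6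
  rw [qrt_apply]
  linear_combination (norm := module) h6

/-- the cyclic subspace -/
def T4 (x : V ≃ₗ[F] V) (v : V) : Submodule F V := Submodule.span F (Set.range ![v, x v, x (x v), x (x (x v))])

theorem T4_inv {x : V ≃ₗ[F] V} {v : V} {σ π : F} (h : qrt x σ π v = 0) : ∀ w ∈ T4 x v, x w ∈ T4 x v := by
  have h1 : ∀ i, ![v, x v, x (x v), x (x (x v))] i ∈ T4 x v := fun i => Submodule.subset_span ⟨i, rfl⟩
  have h2 : T4 x v ≤ (T4 x v).comap x.toLinearMap := by
    refine Submodule.span_le.2 ?_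
    rintro _ ⟨i, rfl⟩
    fin_cases i
    · exact h1 1
    · exact h1 2
    · exact h1 3
    · show x (x (x (x v))) ∈ T4 x v
      rw [sub_eq_zero.1 ((qrt_apply x σ π v).symm.trans h)]
      exact sub_mem (sub_mem (Submodule.smul_mem _ _ (add_mem (h1 3) (h1 1))) (Submodule.smul_mem _ _ (h1 2))) (h1 0)
  exact h2

theorem ts_span {s : Set V} (h1 : ∀ x ∈ s, Q x = 0) (h2 : ∀ x ∈ s, ∀ y ∈ s, polar Q x y = 0) :
    ∀ u ∈ Submodule.span F s, Q u = 0 := by
  have h3 : Submodule.span F s ≤ prp Q (Submodule.span F s) := Submodule.span_le.2 fun x hx => mem_prp.2 fun y hy =>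
    (Submodule.span_le (p := LinearMap.ker (polarBilin Q x))).2 (h2 x hx) hy
  intro u hu
  induction hu using Submodule.span_induction with
  | mem x hx => exact h1 x hx
  | zero => exact map_zero Q
  | add x y hx hy k1 k2 => rw [Q_add, k1, k2, mem_prp.1 (h3 hx) y hy, add_zero, add_zero]
  | smul c x _ k => rw [QuadraticMap.map_smul, k, smul_zero]

theorem T4_ts {x : V ≃ₗ[F] V} (hx : x ∈ O Q) {v : V} {σ π : F} (h : qrt x σ π (x⁻¹ v) = 0) (h0 : Q v = 0)
    (h1 : polar Q v (x v) = 0) (h2 : polar Q v (x (x v)) = 0) : ∀ u ∈ T4 x v, Q u = 0 := by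
  have h3 : polar Q v (x (x (x v))) = 0 := by
    have h4 := sub_eq_zero.1 ((qrt_apply x σ π _).symm.trans h)
    rw [show x (x⁻¹ v) = v from x.apply_symm_apply v] at h4
    rw [h4, polar_sub_right, polar_sub_right, polar_smul_right, polar_smul_right, polar_add_right, ← polar_inv hx,
      polar_comm _ (x v), h1, h2, polar_self_of_sing h0]
    simp
  refine ts_span ?_ ?_
  · rintro _ ⟨i, rfl⟩
    (revert i; simp only [mem_O.1 hx, h0, _root_.Fin.forall_fin_succ, _root_.Nat.succ_eq_add_one, Nat.reduceAdd, Fin.isValue, _root_.Matrix.cons_val_zero, _root_.Matrix.cons_val_succ, _root_.Matrix.cons_val_fin_one, _root_.implies_true, _root_.and_self])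
  · rintro _ ⟨i, rfl⟩ _ ⟨j, rfl⟩
    (revert i j; simp only [polar_map hx, h0, h1, h2, h3, polar_comm _ _ v, _root_.Fin.forall_fin_succ, _root_.Nat.succ_eq_add_one, Nat.reduceAdd, Fin.isValue, _root_.Matrix.cons_val_zero, _root_.Matrix.cons_val_succ, _root_.Matrix.cons_val_fin_one, _root_.forall_const, _root_.QuadraticMap.polar_self, _root_.nsmul_zero, _root_.and_self, _root_.implies_true])

theorem gmap_inv {L : Subgroup (Gam Q)} (hL : ∀ M ∈ L, ∀ a ∈ Y, conjLin M a ∈ Y) {M : Gam Q} (hM : M ∈ L)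
    {U : Submodule F V} (hU : ∀ a ∈ Y, ∀ v ∈ U, a v ∈ U) : ∀ a ∈ Y, ∀ v ∈ gmap M U, a v ∈ gmap M U := by
  intro a ha v hv
  rw [mem_gmap, ← conjLin_apply']
  exact hU _ (hL _ (inv_mem hM) a ha) _ hv

theorem dec_prp [FiniteDimensional F V] (hQ : Nondeg Q) {W : Submodule F V} (hW : Nd Q W) : Dec Q ![W, prp Q W] := by
  refine ⟨fun i j hij x hx y hy => ?_, ?_⟩
  · fin_cases i <;> fin_cases j
    · exact (hij rfl).elim
    · exact (polar_comm _ _ _).trans (mem_prp.1 hy x hx)
    · exact mem_prp.1 hx y hy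
    · exact (hij rfl).elim
  · rw [eq_top_iff, ← hW.sup_prp hQ]
    exact sup_le (le_iSup ![W, prp Q W] 0) (le_iSup ![W, prp Q W] 1)

end gen

variable {F : Type} [Field F] [Fintype F]

namespace Cx

variable {S : Subgroup (MulAut (G8 F))} {X : Subgroup (G8 F)} {r : ℕ} (h : Cx S X r) (ho : Odd r)
  (h4 : orderOf (Nat.card F : ZMod r) = 4)
include h ho h4

theorem four_fx : Fx (h.Y ho) = ⊥ := by
  have := finite_sub (h.Y ho)
  obtain ⟨m, h1, h2⟩ := order_dvd h.prime h.char (h.Y_pow ho) (U := ⊤) fun _ _ _ _ => trivial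
  rw [top_inf_eq, finrank_top, finrank8] at h1
  rw [h4] at h2
  have h3 : finrank F (Fx (h.Y ho)) ≠ 8 := fun e =>
    h.Fx_ne_top ho (Submodule.eq_top_of_finrank_eq (e.trans finrank8.symm))
  rw [← Submodule.finrank_eq_zero]
  by_contra h0
  have hN := h.nd_FxY ho
  obtain ⟨e, heC, he0, he⟩ := LieClassical.OrthFinite.exists_sing_mem (Q := Q8 F) (Fx (h.Y ho)) (by omega)
  obtain ⟨U, k1, k2, k3⟩ := h.tf1Y ho he he0 heC
  obtain ⟨m', k4, k5⟩ := order_dvd h.prime h.char (h.Y_pow ho) k3
  rw [h4] at k5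
  have k6 := hN.two_mul_le (U := U ⊓ Fx (h.Y ho)) inf_le_right fun x hx y hy => polar_of_ts k2 hx.1 hy.1
  have k7 : U ⊓ Fx (h.Y ho) = ⊥ := Submodule.finrank_eq_zero.1 (by (clear * - h1 h3 k1 k4 k5 k6; omega))
  have k8 := (hN.nd_prp nondeg8').two_mul_le (U := U) (fun u hu => mem_prp.2 fun c hc => (polar_comm _ _ _).trans
    (perp_of_fx h.prime h.char (h.Y_le ho) (h.Y_pow ho) k3 hc (fun w hw => by
      rw [k7] at hw; rw [(Submodule.mem_bot F).1 hw, polar_zero_right]) hu)) fun x hx y hy => polar_of_ts k2 hx hy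
  have k9 := finrank_prp nondeg8' (Fx (h.Y ho))
  rw [finrank8] at k9
  omega

theorem four_dvd {U : Submodule F (V8 F)} (hU : ∀ g ∈ h.Y ho, ∀ v ∈ U, g v ∈ U) : 4 ∣ finrank F U := by
  obtain ⟨m, h1, h2⟩ := order_dvd h.prime h.char (h.Y_pow ho) hU
  rw [h.four_fx ho h4, inf_bot_eq, finrank_bot, zero_add] at h1
  rwa [h1, ← h4]

theorem four_irr {U : Submodule F (V8 F)} (hU : finrank F U = 4) : Irr (h.Y ho) U := fun U' h1 h2 => by
  have h3 := h.four_dvd ho h4 h2
  have h5 := Submodule.finrank_mono h1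
  by_cases h0 : finrank F U' = 0
  · exact Or.inl (Submodule.finrank_eq_zero.1 h0)
  · exact Or.inr (Submodule.eq_of_le_of_finrank_eq h1 (by omega))

theorem four_ts {U : Submodule F (V8 F)} (hU : ∀ g ∈ h.Y ho, ∀ v ∈ U, g v ∈ U) (hs : ∀ u ∈ U, Q8 F u = 0) :
    U = ⊥ := by
  rw [← Submodule.finrank_eq_zero]
  by_contra h0
  have h1 := h.four_dvd ho h4 hU
  have h2 : finrank F U ≤ 4 := ClassicalGeometry.TrialitySpaces.finrank_le_four hs
  obtain ⟨e, -, he0, he⟩ := h.tf2Y ho (U := U) (by omega) hs hU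
  have h3 := h.four_dvd ho h4 (U := Submodule.span F {e}) fun g hg v hv => by
    obtain ⟨c, rfl⟩ := Submodule.mem_span_singleton.1 hv
    obtain ⟨l, hl⟩ := he g hg
    rw [map_smul, hl]
    exact Submodule.smul_mem _ _ (Submodule.smul_mem _ _ (Submodule.mem_span_singleton_self e))
  rw [finrank_span_singleton he0] at h3
  omega

theorem four_nt {U : Submodule F (V8 F)} (hU : U ≠ ⊥) : ∃ x ∈ h.Y ho, ∃ w ∈ U, x w ≠ w := by
  by_contra hc
  push Not at hc
  exact hU (eq_bot_iff.2 fun w hw => h.four_fx ho h4 ▸ mem_Fx.2 fun a ha => hc a ha w hw)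

theorem four_str {U : Submodule F (V8 F)} (hU : ∀ g ∈ h.Y ho, ∀ v ∈ U, g v ∈ U) (h0 : U ≠ ⊥) (hI : Irr (h.Y ho) U) :
    ∃ x ∈ h.Y ho, ∃ σ π : F, (∀ v ∈ U, qrt x σ π v = 0) ∧ ∀ b ∈ h.Y ho, ∃ j : ℕ, ∀ v ∈ U, b v = (x ^ j) v := by
  have : Fact r.Prime := ⟨h.prime⟩
  obtain ⟨x, hx, hx'⟩ := h.four_nt ho h4 h0
  have h1 : (Nat.card F : ZMod r) ^ 2 = -1 := by
    refine (sq_eq_one_iff.1 ?_).resolve_left fun e => ?_
    · rw [← pow_mul, ← pow_orderOf_eq_one (Nat.card F : ZMod r), h4]
    · have h2 := orderOf_dvd_of_pow_eq_one e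
      rw [h4] at h2
      omega
  obtain ⟨σ, π, h2⟩ := hI.quartic (h.Y_comm ho) hU hx (by
    rw [← pow_mul]
    exact pow_eq_inv (h.Y_pow ho x hx) (by rw [Nat.cast_mul, ← Nat.card_eq_fintype_card, ← h1, pow_two]))
  exact ⟨x, hx, σ, π, h2, fun b hb => pow_of_sr h.prime h.char (h.Y_comm ho) (h.Y_pow ho) hU
    (hI.sr (h.Y_comm ho) hU) hx hx' hb⟩

theorem four_ex : ∃ W : Submodule F (V8 F), finrank F W = 4 ∧ ∀ g ∈ h.Y ho, ∀ v ∈ W, g v ∈ W := by
  by_cases hI : Irr (h.Y ho) ⊤
  · obtain ⟨x, hx, σ, π, h1, h2⟩ := h.four_str ho h4 (U := ⊤) (fun _ _ _ _ => trivial) top_ne_bot hI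
    have h3 : ∀ g ∈ h.Y ho, ∀ v ∈ T4 x (e8 F), g v ∈ T4 x (e8 F) := fun g hg v hv => by
      obtain ⟨j, hj⟩ := h2 g hg
      rw [hj v trivial]
      exact pow_inv (T4_inv (h1 _ trivial)) j v hv
    have h5 : finrank F (T4 x (e8 F)) ≤ 4 := finrank_range_le_card _
    rcases hI _ le_top h3 with h6 | h6
    · exact (e8_ne ((Submodule.eq_bot_iff _).1 h6 _ (Submodule.subset_span ⟨0, rfl⟩))).elim
    · rw [h6, finrank_top, finrank8] at h5
      omega
  · unfold Irr at hI
    push Not at hI
    obtain ⟨W, -, h1, h2, h3⟩ := hI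
    have h5 := h.four_dvd ho h4 h1
    have h6 := Submodule.finrank_lt h3
    have h7 := mt Submodule.finrank_eq_zero.1 h2
    rw [finrank8] at h6
    exact ⟨W, by omega, h1⟩

theorem four_nd {W : Submodule F (V8 F)} (hW : finrank F W = 4) (hU : ∀ g ∈ h.Y ho, ∀ v ∈ W, g v ∈ W) :
    Nd (Q8 F) W := by
  rcases h.four_irr ho h4 hW (W ⊓ prp (Q8 F) W) inf_le_left
    (fun g hg v hv => ⟨hU g hg v hv.1, prp_inv (h.Y_le ho hg) (hU g hg) hv.2⟩) with h1 | h1
  · exact fun x hx h2 => (Submodule.eq_bot_iff _).1 h1 x ⟨hx, mem_prp.2 h2⟩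
  · let T : Submodule F (V8 F) :=
      { carrier := {v | v ∈ W ∧ Q8 F v = 0}
        add_mem' := fun {a b} ha hb => ⟨add_mem ha.1 hb.1, by
          rw [Q_add, ha.2, hb.2, mem_prp.1 (inf_eq_left.1 h1 ha.1) b hb.1, add_zero, add_zero]⟩
        zero_mem' := ⟨zero_mem _, map_zero _⟩
        smul_mem' := fun c v hv => ⟨W.smul_mem c hv.1, by rw [QuadraticMap.map_smul, hv.2, smul_zero]⟩ }
    obtain ⟨e, heW, he0, he⟩ := LieClassical.OrthFinite.exists_sing_mem (Q := Q8 F) W (by omega)
    exact (he0 ((Submodule.eq_bot_iff _).1 (h.four_ts ho h4 (U := T)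
      (fun g hg v hv => ⟨hU g hg v hv.1, (mem_O.1 (h.Y_le ho hg) v).trans hv.2⟩) fun _ hv => hv.2) e ⟨heW, he⟩)).elim

theorem four_uniq {W U : Submodule F (V8 F)} (hW : finrank F W = 4) (hW' : ∀ g ∈ h.Y ho, ∀ v ∈ W, g v ∈ W)
    (hU : finrank F U = 4) (hU' : ∀ g ∈ h.Y ho, ∀ v ∈ U, g v ∈ U) : U = W ∨ U = prp (Q8 F) W := by
  by_contra hc
  push Not at hc
  have hN := h.four_nd ho h4 hW hW'
  have hP := finrank_prp nondeg8' W
  rw [finrank8] at hP
  have hP' : ∀ g ∈ h.Y ho, ∀ v ∈ prp (Q8 F) W, g v ∈ prp (Q8 F) W := fun g hg v hv =>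
    prp_inv (h.Y_le ho hg) (hW' g hg) hv
  have key : ∀ W' : Submodule F (V8 F), finrank F W' = 4 → (∀ g ∈ h.Y ho, ∀ v ∈ W', g v ∈ W') → U ≠ W' →
      U ⊓ W' = ⊥ := fun W' k1 k2 k3 =>
    (h.four_irr ho h4 hU _ inf_le_left fun g hg v hv => ⟨hU' g hg v hv.1, k2 g hg v hv.2⟩).resolve_right fun e =>
      k3 (Submodule.eq_of_le_of_finrank_eq (inf_eq_left.1 e) (hU.trans k1.symm))
  have k1 := Submodule.finrank_sup_add_finrank_inf_eq U W
  rw [key W hW hW' hc.1, finrank_bot] at k1
  have k2 : U ⊔ W = ⊤ := Submodule.eq_top_of_finrank_eq (by rw [finrank8]; omega)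
  have kill : ∀ φ : Module.End F (V8 F), (∀ v ∈ W, φ v = 0) → (∀ v ∈ U, φ v ∈ U) →
      (∀ v ∈ prp (Q8 F) W, φ v ∈ prp (Q8 F) W) → ∀ v, φ v = 0 := fun φ k3 k5 k6 v => by
    obtain ⟨u, hu, w, hw, rfl⟩ := Submodule.mem_sup.1 (k2 ▸ Submodule.mem_top : v ∈ U ⊔ W)
    rw [map_add, k3 w hw, add_zero]
    obtain ⟨w, hw, w', hw', e⟩ := Submodule.mem_sup.1 (hN.sup_prp nondeg8' ▸ Submodule.mem_top : u ∈ W ⊔ prp (Q8 F) W)
    refine (Submodule.eq_bot_iff _).1 (key _ (by omega) hP' hc.2) _ ⟨k5 u hu, ?_⟩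
    rw [← e, map_add, k3 w hw, zero_add]
    exact k6 w' hw'
  obtain ⟨x, hx, σ, π, h1, h2⟩ := h.four_str ho h4 hW' (by rintro rfl; simp at hW) (h.four_irr ho h4 hW)
  have hq : ∀ U : Submodule F (V8 F), (∀ v ∈ U, x v ∈ U) → ∀ v ∈ U, qrt x σ π v ∈ U := fun U k v hv =>
    (sub_mem (k _ (k _ (k _ (k v hv)))) (sub_mem (sub_mem (U.smul_mem _ (add_mem (k _ (k _ (k v hv))) (k v hv)))
      (U.smul_mem _ (k _ (k v hv)))) hv) :)
  have h3 := kill _ h1 (hq U (hU' x hx)) (hq _ (hP' x hx))
  obtain ⟨v, hv0, hv⟩ := H920.FP.cw ![Q8 F, LinearMap.BilinMap.toQuadraticMap ((polarBilin (Q8 F)).compl₂ x.toLinearMap),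
    LinearMap.BilinMap.toQuadraticMap ((polarBilin (Q8 F)).compl₂ (x * x).toLinearMap)] (by simp)
  refine hv0 ((Submodule.eq_bot_iff _).1 (h.four_ts ho h4 (U := T4 x v) (fun g hg w hw => ?_)
    (T4_ts (h.Y_le ho hx) (h3 _) (hv 0) (hv 1) (hv 2))) v (Submodule.subset_span ⟨0, rfl⟩))
  obtain ⟨j, hj⟩ := h2 g hg
  have h5 := kill (g.toLinearMap - (x ^ j).toLinearMap) (fun v hv => sub_eq_zero.2 (hj v hv))
    (fun v hv => sub_mem (hU' g hg v hv) (hU' _ (pow_mem hx j) v hv))
    (fun v hv => sub_mem (hP' g hg v hv) (hP' _ (pow_mem hx j) v hv)) w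
  rw [show g w = (x ^ j) w from sub_eq_zero.1 h5]
  exact pow_inv (T4_inv (h3 v)) j w hw

theorem four (hB : BoxB) : Kill2 (LL S) := by
  obtain ⟨W, hW, hW'⟩ := h.four_ex ho h4
  have hP := finrank_prp nondeg8' W
  rw [finrank8] at hP
  have hd : ∀ i, finrank F (![W, prp (Q8 F) W] i) = 4 := fun i => by
    fin_cases i
    · exact hW
    · show finrank F (prp (Q8 F) W) = 4
      omega
  have hi : ∀ g ∈ h.Y ho, ∀ i, ∀ v ∈ ![W, prp (Q8 F) W] i, g v ∈ ![W, prp (Q8 F) W] i := fun g hg i => by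
    fin_cases i
    · exact hW' g hg
    · exact fun v hv => prp_inv (h.Y_le ho hg) (hW' g hg) hv
  refine hB F (V8 F) (Q8 F) _ ![W, prp (Q8 F) W] (h.Y ho) r nondeg8' (dec_prp nondeg8' (h.four_nd ho h4 hW hW')) hd
    (fun M hM i => ?_) (h.Y_le ho) (h.Y_comm ho) (h.Y_pow ho) (fun c hc => ?_) hi
    (fun i => h.four_nt ho h4 fun e => by have := hd i; rw [e, finrank_bot] at this; omega)
    (fun i => h.four_irr ho h4 (hd i)) (fun x hx i hx' U hU hU' => ?_) (h.Y_conj ho)
  · rcases h.four_uniq ho h4 hW hW' ((finrank_gmap M _).trans (hd i))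
      (gmap_inv (h.Y_conj ho) hM fun g hg => hi g hg i) with e | e
    · exact ⟨0, fun x hx => e.le (apply_mem_gmap.2 hx)⟩
    · exact ⟨1, fun x hx => e.le (apply_mem_gmap.2 hx)⟩
  · have : Fact r.Prime := ⟨h.prime⟩
    by_contra h1
    have h2 : r ∣ Fintype.card F - 1 := orderOf_eq_prime hc h1 ▸ orderOf_dvd_of_pow_eq_one
      (FiniteField.pow_card_sub_one_eq_one c (by rintro rfl; simp [h.prime.ne_zero] at hc))
    rw [← ZMod.natCast_eq_zero_iff, Nat.cast_sub Fintype.card_pos, Nat.cast_one, sub_eq_zero] at h2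
    rw [Nat.card_eq_fintype_card, h2, orderOf_one] at h4
    omega
  · obtain ⟨m, h1, h2⟩ := order_dvd_one h.prime h.char (h.Y_pow ho x hx) hU'
    obtain ⟨w, hw, hw'⟩ := hx'
    have h3 : U ⊓ Fx (Subgroup.zpowers x) = ⊥ := eq_bot_iff.2 fun v hv => by_contra fun h0 =>
      hw' ((h.four_irr ho h4 (hd i)).sr (h.Y_comm ho) (fun g hg => hi g hg i) x hx v (hU hv.1) h0
        (mem_Fx_zpowers.1 hv.2) w hw)
    rw [h3, finrank_bot, zero_add] at h1
    rw [h4, ← h1] at h2
    have h5 := Submodule.finrank_mono hU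
    rw [hd i] at h5
    by_cases h0 : finrank F U = 0
    · exact Or.inl (Submodule.finrank_eq_zero.1 h0)
    · exact Or.inr (Submodule.eq_of_le_of_finrank_eq hU (by rw [hd i]; omega))

end Cx

end Cfsg.Agent.SB.D4
end

-- part: SB/D4/K1
section
/-!
# S5765, `PΩ₈⁺(q)`: odd primes dividing `q ± 1`, blocks (helper97)
-/

set_option autoImplicit false
set_option linter.unusedSectionVars false

namespace Cfsg.Agent.SB.D4

open QuadraticMap Module Cfsg.Agent.LieClassical.QuadForms Cfsg.Agent.LieClassical.OrthCore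
  Cfsg.Agent.LieClassical.OrthTrans Cfsg.Agent.ClassicalGeometry.OrthSemi Cfsg.Agent.ClassicalGeometry.OrthAut1
  Cfsg.Agent.ClassicalGeometry.TrialityOct Cfsg.Agent.ClassicalGeometry.Triality
  Cfsg.Agent.H989.OutOrth.Basic Cfsg.Agent.H989.OutOrth.Tri Cfsg.Agent.H786.FC

section gen

variable {F V : Type} [Field F] [AddCommGroup V] [Module F V] {Q : QuadraticForm F V}
  {Y : Subgroup (V ≃ₗ[F] V)} {r : ℕ}

theorem Bl_rel {θ : Y → F} {v : V} (hv : v ∈ Bl Y θ) (a : Y) : a.1 (a.1 v) = θ a • a.1 v - v := by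
  have h := congrArg a.1 (mem_Bl.1 hv a)
  rw [map_add, map_smul, show a.1 (a.1⁻¹ v) = v from a.1.apply_symm_apply v] at h
  exact eq_sub_of_add_eq h

theorem fix_of_two (hc : (r : F) ≠ 0) {a : V ≃ₗ[F] V} (ha : a ^ r = 1) {v : V} (h : a (a v) = (2 : F) • a v - v) :
    a v = v := by
  have h1 : ∀ j : ℕ, (a ^ j) v = v + (j : F) • (a v - v) := fun j => by
    induction j with
    | zero => simp only [_root_.pow_zero, _root_.LinearEquiv.coe_one, _root_.id_eq, _root_.Nat.cast_zero, _root_.zero_smul, _root_.add_zero]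
    | succ j ih =>
      rw [pow_succ', LinearEquiv.mul_apply, ih, map_add, map_smul, map_sub, h, Nat.cast_succ]
      module
  have h2 := h1 r
  rw [ha, LinearEquiv.coe_one, id_eq, left_eq_add, smul_eq_zero] at h2
  exact sub_eq_zero.1 (h2.resolve_left hc)

theorem fix_of_sq (hr : r.Prime) (ho : Odd r) (hc : (r : F) ≠ 0) {a : V ≃ₗ[F] V} (ha : a ^ r = 1) {v : V} {t : F}
    (ht : t ^ 2 = 4) (h : a (a v) = t • a v - v) : a v = v := by
  by_cases h2 : t = 2
  · exact fix_of_two hc ha (h2 ▸ h)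
  have h3 : t = -2 := eq_neg_of_add_eq_zero_left
    ((mul_eq_zero.1 (show (t - 2) * (t + 2) = 0 by linear_combination ht)).resolve_left (sub_ne_zero.2 h2))
  have h4 : (2 : F) ≠ 0 := fun e => h2 (by rw [h3, e, neg_zero])
  have key : ∀ w, a w = -w → w = 0 := fun w hw => by
    have h5 := fix_of_pow hr ha (j := 2) (v := w) (fun h2 => by
      rw [(Nat.prime_dvd_prime_iff_eq hr Nat.prime_two).1 h2] at ho
      exact absurd ho (by decide)) (by rw [pow_two, LinearEquiv.mul_apply, hw, map_neg, hw, neg_neg])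
    refine (smul_eq_zero.1 ?_).resolve_left h4
    rw [two_smul, ← eq_neg_iff_add_eq_zero, ← hw, h5]
  have h6 := key (a v + v) (by rw [map_add, h, h3]; module)
  rw [key v (eq_neg_of_add_eq_zero_left h6), map_zero]

theorem Fx_eq_Bl (hc : (r : F) ≠ 0) (hp : ∀ a ∈ Y, a ^ r = 1) : Fx Y = Bl Y fun _ => 2 := by
  ext v
  refine ⟨fun hv => mem_Bl.2 fun a => ?_, fun hv => mem_Fx.2 fun a ha => fix_of_two hc (hp a ha) (Bl_rel hv ⟨a, ha⟩)⟩
  rw [mem_Fx.1 hv a a.2, mem_Fx.1 hv _ (inv_mem a.2), two_smul]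

variable (Y) in
/-- `Y` acts on `W` through the quadratic element `x` -/
structure Gen (W : Submodule F V) (x : V ≃ₗ[F] V) (t : F) : Prop where
  mem : x ∈ Y
  ne : t ^ 2 ≠ 4
  inv : ∀ v ∈ W, x v ∈ W
  rel : ∀ v ∈ W, x (x v) = t • x v - v
  fpf : ∀ v ∈ W, x v = v → v = 0
  pow : ∀ b ∈ Y, ∃ j : ℕ, ∀ v ∈ W, b v = (x ^ j) v

theorem exists_gen (hr : r.Prime) (ho : Odd r) (hc : (r : F) ≠ 0) (hcomm : ∀ a ∈ Y, ∀ b ∈ Y, a * b = b * a)
    (hp : ∀ a ∈ Y, a ^ r = 1) {θ : Y → F} (h : ¬ Bl Y θ ≤ Fx Y) : ∃ x t, Gen Y (Bl Y θ) x t := by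
  have hsr : ∀ g ∈ Y, ∀ w ∈ Bl Y θ, w ≠ 0 → g w = w → ∀ v ∈ Bl Y θ, g v = v := fun g hg w hw h0 h1 v hv => by
    have h2 := Bl_rel hw ⟨g, hg⟩
    simp only [h1] at h2
    have h3 : θ ⟨g, hg⟩ = 2 := smul_left_injective F h0 (by
      show _ • w = (2 : F) • w
      rw [two_smul, ← sub_eq_iff_eq_add, ← h2])
    exact fix_of_two hc (hp g hg) (h3 ▸ Bl_rel hv ⟨g, hg⟩)
  obtain ⟨v, hv, h1⟩ := SetLike.not_le_iff_exists.1 h
  rw [mem_Fx] at h1
  push Not at h1
  obtain ⟨x, hx, h1⟩ := h1
  exact ⟨x, θ ⟨x, hx⟩, hx, fun ht => h1 (fix_of_sq hr ho hc (hp x hx) ht (Bl_rel hv ⟨x, hx⟩)),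
    fun w hw => Bl_inv hcomm θ hx hw, fun w hw => Bl_rel hw ⟨x, hx⟩,
    fun w hw h2 => by_contra fun h0 => h1 (hsr x hx w hw h0 h2 v hv),
    fun b hb => pow_of_sr hr hc hcomm hp (fun a ha v hv => Bl_inv hcomm θ ha hv) hsr hx ⟨v, hv, h1⟩ hb⟩

theorem Dec.le_prp {ι : Type} {P : ι → Submodule F V} (h : Dec Q P) {i j : ι} (hij : i ≠ j) : P i ≤ prp Q (P j) :=
  fun x hx => mem_prp.2 (h.orth i j hij x hx)

theorem Dec.add_le {ι : Type} {P : ι → Submodule F V} [FiniteDimensional F V] (hQ : Nondeg Q) (h : Dec Q P) {i j : ι}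
    (hij : i ≠ j) : finrank F (P i) + finrank F (P j) ≤ finrank F V := by
  have h1 := Submodule.finrank_mono (h.le_prp hij)
  have h2 := finrank_prp hQ (P j)
  omega

theorem Dec.enum {ι : Type} [Finite ι] {P : ι → Submodule F V} [FiniteDimensional F V] (hQ : Nondeg Q) (h : Dec Q P)
    {d n : ℕ} (hd : ∀ i, P i ≠ ⊥ → finrank F (P i) = d) (hn : (n + 1) * d = finrank F V) {i₀ : ι} (h0 : P i₀ ≠ ⊥) :
    ∃ f : Fin (n + 1) → ι, Dec Q (P ∘ f) ∧ (∀ k, finrank F (P (f k)) = d) ∧ f (Fin.last n) = i₀ ∧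
      ∀ L : Subgroup (Gam Q), Prm L P → Prm L (P ∘ f) := by
  classical
  have := Fintype.ofFinite ι
  have h1 := h.sum_finrank hQ
  rw [← Finset.sum_filter_of_ne (p := fun i => P i ≠ ⊥) (fun i _ h2 h3 => h2 (by rw [h3, finrank_bot])),
    Finset.sum_congr rfl fun i hi => hd i (Finset.mem_filter.1 hi).2, Finset.sum_const, smul_eq_mul, ← hn] at h1
  have hd0 : 0 < d := Nat.pos_of_ne_zero fun e => h0 (Submodule.finrank_eq_zero.1 ((hd i₀ h0).trans e))
  obtain ⟨f, k1, k2, k3, k4⟩ := exists_enum _ (Nat.eq_of_mul_eq_mul_right hd0 h1)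
    (Finset.mem_filter.2 ⟨Finset.mem_univ i₀, h0⟩)
  have k5 : ∀ i, P i ≠ ⊥ → ∃ k, f k = i := fun i hi => k3 i (Finset.mem_filter.2 ⟨Finset.mem_univ i, hi⟩)
  exact ⟨f, h.reindex f k1 k5, fun k => hd _ (Finset.mem_filter.1 (k2 k)).2, k4, fun L hL => hL.reindex f k5⟩

end gen

variable {F : Type} [Field F] [Fintype F]

namespace Cx

variable {S : Subgroup (MulAut (G8 F))} {X : Subgroup (G8 F)} {r : ℕ} (h : Cx S X r) (ho : Odd r)
include h ho

theorem gen_rot {W : Submodule F (V8 F)} {x : GL8 F} {t : F} (hG : Gen (h.Y ho) W x t) {u : V8 F} (hu : u ∈ W)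
    (hu' : Q8 F u ≠ 0) : rr (Q8 F) u * rr (Q8 F) (x u) ∈ LL S :=
  h.rot_memY ho hu' (mem_O.1 (h.Y_le ho hG.mem) u) fun g hg => by
    obtain ⟨j, hj⟩ := hG.pow g hg
    rw [hj u hu, hj _ (hG.inv u hu), rr_pow (h.Y_le ho hG.mem) (hG.rel u hu) hG.ne hu']

theorem gen_big (G : Geo) (hq : 4 ≤ Nat.card F) {W : Submodule F (V8 F)} {x : GL8 F} {t : F}
    (hG : Gen (h.Y ho) W x t) (hN : Nd (Q8 F) W) (h4 : 4 ≤ finrank F W) : False := by
  have hO := h.Y_le ho hG.mem
  obtain ⟨e, he, f, hf, h1, h2, h3, h5, h6⟩ := G.u2 F (V8 F) (Q8 F) W x t h4 hN hO hG.inv hG.rel hG.ne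
  refine h.no_sl2 G.sl2 hq h1 ((mem_O.1 hO e).trans h1) h2 ((mem_O.1 hO f).trans h2) h3 h5 h6 fun y hy => ?_
  obtain ⟨a, ha, ha'⟩ := h.lift ho y hy
  obtain ⟨j, hj⟩ := hG.pow _ ha'
  refine ⟨a, ha, ?_, ?_⟩
  · rw [hj e he, hj _ (hG.inv e he), wd_pow (hG.rel e he)]
  · rw [hj f hf, hj _ (hG.inv f hf), wd_pow (hG.rel f hf)]

theorem ex_gen {θ : h.Y ho → F} (hθ : ¬ Bl (h.Y ho) θ ≤ Fx (h.Y ho)) : ∃ x t, Gen (h.Y ho) (Bl (h.Y ho) θ) x t :=
  exists_gen h.prime ho h.char (h.Y_comm ho) (h.Y_pow ho) hθ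

variable (hk : orderOf (Nat.card F : ZMod r) ∣ 2)
include hk

theorem sym_card : ∀ a ∈ h.Y ho, sym a ^ Fintype.card F = sym a := fun a ha => by
  have : Fact r.Prime := ⟨h.prime⟩
  rw [sym_pow_card]
  rcases sq_eq_one_iff.1 (orderOf_dvd_iff_pow_eq_one.1 hk) with e | e
  · rw [pow_eq_self (h.Y_pow ho a ha) (Nat.card_eq_fintype_card (α := F) ▸ e)]
  · rw [pow_eq_inv (h.Y_pow ho a ha) (Nat.card_eq_fintype_card (α := F) ▸ e), sym_inv]

theorem dec : Dec (Q8 F) (Bl (h.Y ho)) :=
  have := finite_sub (h.Y ho)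
  dec_Bl (h.Y_le ho) (h.Y_comm ho) (h.sym_card ho hk)

theorem eq_two {θ : h.Y ho → F} (h0 : Bl (h.Y ho) θ ≠ ⊥) (hθ : Bl (h.Y ho) θ ≤ Fx (h.Y ho)) :
    Bl (h.Y ho) θ = Fx (h.Y ho) := by
  rw [Fx_eq_Bl h.char (h.Y_pow ho)] at hθ ⊢
  by_contra h1
  exact h0 (eq_bot_iff.2 (((h.dec ho hk).nd nondeg8' _).inf_prp ▸
    le_inf hθ ((h.dec ho hk).le_prp fun e => h1 (congrArg _ e))))

theorem ex_block : ∃ θ, ¬ Bl (h.Y ho) θ ≤ Fx (h.Y ho) := by
  by_contra hc
  push Not at hc
  exact h.Fx_ne_top ho (eq_top_iff.2 ((h.dec ho hk).span ▸ iSup_le hc))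

theorem bl_even (θ : h.Y ho → F) : Even (finrank F (Bl (h.Y ho) θ)) := by
  classical
  have key : ∀ θ, ¬ Bl (h.Y ho) θ ≤ Fx (h.Y ho) → Even (finrank F (Bl (h.Y ho) θ)) := fun θ hθ => by
    obtain ⟨x, t, hG⟩ := h.ex_gen ho hθ
    exact even_of_fpf h.prime ho (h.Y_le ho hG.mem) (h.Y_pow ho x hG.mem) ((h.dec ho hk).nd nondeg8' θ) hG.inv hG.fpf
  by_contra hc
  have := finite_sub (h.Y ho)
  have := Fintype.ofFinite (h.Y ho → F)
  have h1 := (h.dec ho hk).sum_finrank nondeg8'
  have h0 : ∀ θ, ¬ Even (finrank F (Bl (h.Y ho) θ)) → Bl (h.Y ho) θ = Fx (h.Y ho) := fun θ hθ =>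
    h.eq_two ho hk (fun e => hθ (by rw [e, finrank_bot]; exact Even.zero)) (by_contra fun e => hθ (key θ e))
  rw [← Finset.add_sum_erase _ _ (Finset.mem_univ θ), finrank8] at h1
  have h2 : Even (∑ θ' ∈ Finset.univ.erase θ, finrank F (Bl (h.Y ho) θ')) := Finset.even_sum _ fun θ' hθ' => by
    by_contra h3
    have h4 := (h.dec ho hk).le_prp (Finset.ne_of_mem_erase hθ')
    rw [h0 θ' h3, ← h0 θ hc] at h4
    rw [← inf_eq_left.2 h4, ((h.dec ho hk).nd nondeg8' θ).inf_prp, finrank_bot] at hc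
    exact hc Even.zero
  obtain ⟨m, hm⟩ := h2
  exact hc ⟨4 - m, by omega⟩

theorem half {e : V8 F} (he : Q8 F e = 0) (he0 : e ≠ 0) (heC : e ∈ Fx (h.Y ho)) :
    ∃ U : Submodule F (V8 F), (∀ u ∈ U, Q8 F u = 0) ∧ (∀ g ∈ h.Y ho, ∀ u ∈ U, g u ∈ U) ∧
      ∀ θ, 2 * finrank F ↥(U ⊓ Bl (h.Y ho) θ) = finrank F (Bl (h.Y ho) θ) := by
  classical
  obtain ⟨U, h1, h2, h3⟩ := h.tf1Y ho he he0 heC
  have := finite_sub (h.Y ho)
  have := Fintype.ofFinite (h.Y ho)
  have h4 := finrank_le_sum (h.Y_comm ho) (h.sym_card ho hk) h3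
  have h5 := (h.dec ho hk).sum_finrank nondeg8'
  have h6 : ∀ θ ∈ Finset.univ, 2 * finrank F ↥(U ⊓ Bl (h.Y ho) θ) ≤ finrank F (Bl (h.Y ho) θ) := fun θ _ =>
    ((h.dec ho hk).nd nondeg8' θ).two_mul_le inf_le_right fun x hx y hy => polar_of_ts h2 hx.1 hy.1
  refine ⟨U, h2, h3, fun θ => (Finset.sum_eq_sum_iff_of_le h6).1 (le_antisymm (Finset.sum_le_sum h6) ?_) θ
    (Finset.mem_univ θ)⟩
  rw [h5, finrank8, ← Finset.mul_sum]
  omega

theorem fx_ts (h4 : 4 ≤ finrank F (Fx (h.Y ho))) : HasTS (Q8 F) (Fx (h.Y ho)) := by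
  obtain ⟨e, heC, he0, he⟩ := LieClassical.OrthFinite.exists_sing_mem (Q := Q8 F) (Fx (h.Y ho)) (by omega)
  obtain ⟨U, h1, -, h3⟩ := h.half ho hk he he0 heC
  have h5 := h3 fun _ => 2
  rw [← Fx_eq_Bl h.char (h.Y_pow ho)] at h5
  exact hasTS_of_le (U := U ⊓ Fx (h.Y ho)) inf_le_right (fun u hu => h1 u hu.1) (by omega)

theorem planes (G : Geo) (h2 : ∀ θ, finrank F (Bl (h.Y ho) θ) ≤ 2)
    (hA : 3 ≤ Nat.card F ∨ ∀ θ, finrank F (Bl (h.Y ho) θ) = 2 → Aniso (Q8 F) (Bl (h.Y ho) θ)) : Kill3 (LL S) := by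
  have := finite_sub (h.Y ho)
  obtain ⟨θ, hθ⟩ := h.ex_block ho hk
  have h0 : Bl (h.Y ho) θ ≠ ⊥ := fun e => hθ (e ▸ bot_le)
  obtain ⟨f, k1, k2, k3, k4⟩ := (h.dec ho hk).enum nondeg8' (d := 2) (n := 3) (fun θ hθ => by
    have := h2 θ
    have := mt Submodule.finrank_eq_zero.1 hθ
    obtain ⟨m, hm⟩ := h.bl_even ho hk θ
    omega) finrank8.symm h0
  obtain ⟨x, t, hG⟩ := h.ex_gen ho hθ
  obtain ⟨u, hu, hu'⟩ := ((h.dec ho hk).nd nondeg8' θ).exists_nonsing h0
  have hO := h.Y_le ho hG.mem
  refine G.a F (V8 F) (Q8 F) _ _ nondeg8' k1 k2 (k4 _ (prm_Bl (h.Y_conj ho))) (hA.imp id fun hA i => hA _ (k2 i))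
    (Or.inl ⟨u, ?_, x u, ?_, hu', mem_O.1 hO u, fun e => hG.ne ?_, h.gen_rot ho hG hu hu'⟩)
  · exact (congrArg (Bl (h.Y ho)) k3).ge hu
  · exact (congrArg (Bl (h.Y ho)) k3).ge (hG.inv u hu)
  · rw [polar_rot hO (hG.rel u hu) hG.ne, mul_pow] at e
    exact mul_right_cancel₀ (pow_ne_zero 2 hu') e

theorem big (G : Geo) (hq : 4 ≤ Nat.card F) : Kill3 (LL S) := by
  refine h.planes ho hk G (fun θ => by_contra fun h2 => ?_) (Or.inl (by omega))
  have h4 : 4 ≤ finrank F (Bl (h.Y ho) θ) := by
    obtain ⟨m, hm⟩ := h.bl_even ho hk θ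
    omega
  by_cases hθ : Bl (h.Y ho) θ ≤ Fx (h.Y ho)
  · obtain ⟨e, he, e', he', f, hf, f', hf', k1, k2, k3, k4, k5, k6, k7, k8, k9, k10⟩ :=
      opp (h.nd_FxY ho) (h.fx_ts ho hk (h4.trans (Submodule.finrank_mono hθ)))
    refine h.no_sl2 G.sl2 hq k1 k2 k3 k4 k5 k6 (by simp [k7, k8, k9]) fun y hy => (h.lift ho y hy).imp fun a ha => ?_
    rw [mem_Fx.1 he _ ha.2, mem_Fx.1 he' _ ha.2, mem_Fx.1 hf _ ha.2, mem_Fx.1 hf' _ ha.2]
    exact ⟨ha.1, rfl, rfl⟩
  · obtain ⟨x, t, hG⟩ := h.ex_gen ho hθ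
    exact h.gen_big ho G hq hG ((h.dec ho hk).nd nondeg8' θ) h4

end Cx

end Cfsg.Agent.SB.D4
end

-- part: SB/D4/K3
section
/-!
# S5765, `PΩ₈⁺(q)`: primes dividing `q² ± q + 1` (helper97)
-/

set_option autoImplicit false
set_option linter.unusedSectionVars false

namespace Cfsg.Agent.SB.D4

open QuadraticMap Module Cfsg.Agent.LieClassical.QuadForms Cfsg.Agent.LieClassical.OrthCore
  Cfsg.Agent.LieClassical.OrthTrans Cfsg.Agent.ClassicalGeometry.OrthSemi Cfsg.Agent.ClassicalGeometry.OrthAut1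
  Cfsg.Agent.ClassicalGeometry.TrialityOct Cfsg.Agent.ClassicalGeometry.Triality
  Cfsg.Agent.H989.OutOrth.Basic Cfsg.Agent.H989.OutOrth.Tri Cfsg.Agent.H786.FC

variable {F : Type} [Field F]

theorem Tr.lin {a b c : GL8 F} (h : Tr a b c) {f g : V8 F →ₗ[F] V8 F} (h' : ∀ x y, a (pm x y) = pm (f x) (g y)) :
    ∃ e : F, e ≠ 0 ∧ (∀ x, b x = e • f x) ∧ ∀ x, c x = e⁻¹ • g x := by
  have h1 : Q8 F (one8 F) ≠ 0 := by rw [norm_one8]; exact one_ne_zero
  have hf : Function.Injective f := by
    rw [← LinearMap.ker_eq_bot, eq_bot_iff]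
    intro x hx
    have h2 := h' x (one8 F)
    rw [LinearMap.mem_ker.1 hx, zero_pm, LinearEquiv.map_eq_zero_iff] at h2
    exact pr_injective h1 (h2.trans (map_zero _).symm)
  have hg : Function.Injective g := by
    rw [← LinearMap.ker_eq_bot, eq_bot_iff]
    intro x hx
    have h2 := h' (one8 F) x
    rw [LinearMap.mem_ker.1 hx, pm_zero, LinearEquiv.map_eq_zero_iff] at h2
    exact pl_injective h1 (h2.trans (map_zero _).symm)
  exact Tr.unique (b := LinearEquiv.ofInjectiveEndo f hf) (c := LinearEquiv.ofInjectiveEndo g hg) h' h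

/-- the triality images of a long root element -/
theorem siegel_pm {e w : V8 F} (he : Q8 F e = 0) (hw : Q8 F w = 0) (hew : polar (Q8 F) e w = 0) (x y : V8 F) :
    siegel (Q8 F) e w he hew (pm x y) = pm (x + pm (pm e x) w) (y - pm e (pm y w)) := by
  have h1 := pm_lin_left (pm e x) y w
  have h2 := pm_lin_right x (pm y w) e
  have h3 : pm (pm e x) w = - pm (pm w x) e := by
    rw [eq_neg_iff_add_eq_zero, pm_lin_left, hew, zero_smul]
  have h4 : pm e (pm y w) = - pm w (pm y e) := by
    rw [eq_neg_iff_add_eq_zero, pm_lin_right, hew, zero_smul]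
  have h5 := pm_lin_left (pm w x) (pm e (pm y w)) e
  have h6 : polar (Q8 F) (pm w x) (pm e (pm y w)) = 0 := by
    rw [h4, polar_neg_right, polar_comm, polar_pm, polar_comm, polar_pm, pm_pm_left, hw, zero_smul, polar_zero_right,
      neg_zero]
  rw [pm_pm_left, he, zero_smul, zero_pm, add_zero, h6, zero_smul] at h5
  rw [polar_pm] at h1
  rw [← polar_pm, polar_comm] at h2
  rw [siegel_apply, hw, zero_mul, zero_smul, sub_zero, add_pm, pm_sub, pm_sub, ← h1, ← h2]
  nth_rw 3 [h3]
  rw [neg_pm, h5]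
  abel

variable [Fintype F]

/-- the elements acting as scalars on `C` -/
def scOn (C : Submodule F (V8 F)) : Subgroup (E8 F) where
  carrier := {a | ∃ l : F, ∀ v ∈ C, a.1 v = l • v}
  mul_mem' := by
    rintro a b ⟨l, hl⟩ ⟨l', hl'⟩
    refine ⟨l' * l, fun v hv => ?_⟩
    show a.1 (b.1 v) = _
    rw [hl' v hv, map_smul, hl v hv, smul_smul]
  one_mem' := ⟨1, fun v _ => (one_smul F v).symm⟩
  inv_mem' := by
    rintro a ⟨l, hl⟩
    refine ⟨l⁻¹, fun v hv => a.1.injective ?_⟩
    rw [map_smul, hl v hv, smul_smul]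
    refine (a.1.apply_symm_apply v).trans ?_
    by_cases h0 : l = 0
    · have h1 := hl v hv
      rw [h0, zero_smul, LinearEquiv.map_eq_zero_iff] at h1
      rw [h1, smul_zero]
    · rw [inv_mul_cancel₀ h0, one_smul]

namespace Cx

variable {S : Subgroup (MulAut (G8 F))} {X : Subgroup (G8 F)} {r : ℕ} (h : Cx S X r) (ho : Odd r)
include h

theorem core {H : Subgroup (G8 F)} (hH : H ≠ ⊤) {g : G8 F} (hg : ∀ s ∈ S, s g ∈ H) : MulAut.conj g ∈ S := by
  have hm : ∀ y, y ∈ (⨅ s : S, H.comap s.1.toMonoidHom) ↔ ∀ s ∈ S, s y ∈ H := fun y => by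
    simp only [Subgroup.mem_iInf, _root_.MulEquiv.toMonoidHom_eq_coe, _root_.Subgroup.mem_comap, _root_.MonoidHom.coe_coe, _root_.Subtype.forall]
  refine h.le_of_inv (H := ⨅ s : S, H.comap s.1.toMonoidHom) (fun e => hH (eq_top_iff.2 fun y _ => ?_))
    (fun s hs y hy => (hm _).2 fun s' hs' => (hm y).1 hy (s' * s) (mul_mem hs' hs)) ((hm g).2 hg)
  exact (hm y).1 (e ▸ Subgroup.mem_top y) 1 (one_mem S)

include ho

theorem fx_dim {x : GL8 F} (hx : x ∈ h.Y ho) (hx1 : x ≠ 1) : ∃ m, finrank F (Fx (Subgroup.zpowers x)) + m = 8 ∧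
    Even m ∧ m ≠ 0 ∧ orderOf (Nat.card F : ZMod r) ∣ m := by
  have := finite_sub (Subgroup.zpowers x)
  have hle := (Subgroup.zpowers_le (H := h.Y ho)).2 hx
  have hN := nd_Fx nondeg8' h.prime h.char (hle.trans (h.Y_le ho)) fun a ha => h.Y_pow ho a (hle ha)
  obtain ⟨m, hm, hk⟩ := order_dvd_one h.prime h.char (h.Y_pow ho x hx) (U := ⊤) fun _ _ => trivial
  rw [top_inf_eq, finrank_top, finrank8] at hm
  have h1 := finrank_prp nondeg8' (Fx (Subgroup.zpowers x))
  have h2 := even_of_fpf h.prime ho (h.Y_le ho hx) (h.Y_pow ho x hx) (hN.nd_prp nondeg8')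
    (fun v hv => prp_inv (h.Y_le ho hx) (fun w hw => by rwa [mem_Fx_zpowers.1 hw]) hv)
    fun v hv hv' => hN v (mem_Fx_zpowers.2 hv') (mem_prp.1 hv)
  rw [finrank8] at h1
  refine ⟨m, hm.symm, by rwa [show m = finrank F (prp (Q8 F) (Fx (Subgroup.zpowers x))) by omega], ?_, hk⟩
  rintro rfl
  have h3 : Fx (Subgroup.zpowers x) = ⊤ := Submodule.eq_top_of_finrank_eq (by rw [finrank8]; omega)
  exact hx1 (LinearEquiv.ext fun v => mem_Fx_zpowers.1 (h3 ▸ Submodule.mem_top))

theorem fx_inv {x g : GL8 F} (hx : x ∈ h.Y ho) (hg : g ∈ h.Y ho) {v : V8 F} (hv : v ∈ Fx (Subgroup.zpowers x)) :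
    g v ∈ Fx (Subgroup.zpowers x) := by
  rw [mem_Fx_zpowers] at hv ⊢
  rw [comm_apply (h.Y_comm ho) hx hg, hv]

theorem ty1_fx {s : MulAut (G8 F)} (hs : s ∈ S) {M : Gam (Q8 F)} (hM : Ty1 s M) {v : V8 F} :
    M.1 v ∈ Fx (h.Y ho) ↔ ∀ a b c : E8 F, T3 a b c → a.1 ∈ h.Y ho → b ^ r = 1 → b.1 v = v := by
  have key : ∀ a b c : E8 F, T3 a b c → a ^ r = 1 → b ^ r = 1 → (a.1 ∈ h.Y ho ↔ conjLin M b.1 ∈ h.Y ho) :=
    fun a b c ht ha hb => h.conjE_mem_Y ho ha hb (by rw [← hM a b c ht, h.mem_iff hs])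
  refine ⟨fun hv a b c ht ha hb => M.1.injective ?_, fun hv => mem_Fx.2 ?_⟩
  · rw [← conjLin_apply', mem_Fx.1 hv _ ((key a b c ht ((h.coe_mem_Y ho).1 ha).2 hb).1 ha)]
  · rintro _ ⟨a', rfl, ha', hr⟩
    have h1 : conjE (Q8 F) M⁻¹ a' ^ r = 1 := by rw [← map_pow, hr, map_one]
    obtain ⟨c, a, ht, -, ha⟩ := exists_T3_odd ho h1
    have h2 := hv a _ c ht.rot.rot ((key a _ c ht.rot.rot ha h1).2 (by
      rw [← coe_conjE, conjE_conjE_inv]; exact ⟨a', rfl, ha', hr⟩)) h1
    rw [← conjE_conjE_inv M a', conjE_apply, h2]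

theorem ty2_fx {s : MulAut (G8 F)} (hs : s ∈ S) {M : Gam (Q8 F)} (hM : Ty2 s M) {v : V8 F} :
    M.1 v ∈ Fx (h.Y ho) ↔ ∀ a b c : E8 F, T3 a b c → a.1 ∈ h.Y ho → c ^ r = 1 → c.1 v = v := by
  have key : ∀ a b c : E8 F, T3 a b c → a ^ r = 1 → c ^ r = 1 → (a.1 ∈ h.Y ho ↔ conjLin M c.1 ∈ h.Y ho) :=
    fun a b c ht ha hb => h.conjE_mem_Y ho ha hb (by rw [← hM a b c ht, h.mem_iff hs])
  refine ⟨fun hv a b c ht ha hb => M.1.injective ?_, fun hv => mem_Fx.2 ?_⟩
  · rw [← conjLin_apply', mem_Fx.1 hv _ ((key a b c ht ((h.coe_mem_Y ho).1 ha).2 hb).1 ha)]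
  · rintro _ ⟨a', rfl, ha', hr⟩
    have h1 : conjE (Q8 F) M⁻¹ a' ^ r = 1 := by rw [← map_pow, hr, map_one]
    obtain ⟨a, b, ht, ha, -⟩ := exists_T3_odd ho h1
    have h2 := hv a b _ ht.rot ((key a b _ ht.rot ha h1).2 (by
      rw [← coe_conjE, conjE_conjE_inv]; exact ⟨a', rfl, ha', hr⟩)) h1
    rw [← conjE_conjE_inv M a', conjE_apply, h2]

theorem L_fx {M : Gam (Q8 F)} (hM : M ∈ LL S) {v : V8 F} (hv : v ∈ Fx (h.Y ho)) : M.1 v ∈ Fx (h.Y ho) :=
  mem_Fx.2 fun g hg => by
    rw [← conjLin_inv_left M g, conjLin_apply', mem_Fx.1 hv _ (h.Y_conj ho _ (inv_mem hM) g hg)]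

theorem three (h3 : 3 ∣ orderOf (Nat.card F : ZMod r)) : False := by
  have hdim : ∀ x ∈ h.Y ho, x ≠ 1 → finrank F (Fx (Subgroup.zpowers x)) = 2 := fun x hx hx1 => by
    obtain ⟨m, h1, ⟨n, rfl⟩, h2, h4⟩ := h.fx_dim ho hx hx1
    have := h3.trans h4
    omega
  obtain ⟨x, hx, hx1⟩ := h.Y_ne ho
  have hC : Fx (Subgroup.zpowers x) = Fx (h.Y ho) := by
    obtain ⟨m, h1, h2⟩ := order_dvd h.prime h.char (h.Y_pow ho) (U := Fx (Subgroup.zpowers x))
      fun g hg v hv => h.fx_inv ho hx hg hv
    have h4 := h3.trans h2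
    have h5 := hdim x hx hx1
    refine le_antisymm (inf_eq_left.1 (Submodule.eq_of_le_of_finrank_eq inf_le_left (by omega))) fun v hv => ?_
    exact mem_Fx_zpowers.2 (mem_Fx.1 hv x hx)
  have hN := h.nd_FxY ho
  have hC2 := hdim x hx hx1
  rw [hC] at hC2
  set C := Fx (h.Y ho)
  have hW := finrank_prp nondeg8' C
  rw [finrank8] at hW
  obtain ⟨c₀, hc₀, hc₀'⟩ := hN.exists_nonsing (by rintro e; rw [e, finrank_bot] at hC2; omega)
  obtain ⟨e, heW, he0, he⟩ := LieClassical.OrthFinite.exists_sing_mem (Q := Q8 F) (prp (Q8 F) C) (by omega)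
  obtain ⟨s₁, hs₁, M₁, hM₁⟩ := h.t1
  obtain ⟨s₂, hs₂, M₂, hM₂⟩ := h.t2
  have hb₀ := (h.ty1_fx ho hs₁ hM₁ (v := M₁⁻¹.1 c₀)).1 ((apply_inv M₁.1 c₀).symm ▸ hc₀)
  have hd₀ := (h.ty2_fx ho hs₂ hM₂ (v := M₂⁻¹.1 c₀)).1 ((apply_inv M₂.1 c₀).symm ▸ hc₀)
  have hb₀' := Q_ne M₁⁻¹ hc₀'
  have hd₀' := Q_ne M₂⁻¹ hc₀'
  generalize M₁⁻¹.1 c₀ = b₀ at hb₀ hb₀'
  generalize M₂⁻¹.1 c₀ = d₀ at hd₀ hd₀'
  have hy : Q8 F (pm e b₀) = 0 := by rw [norm_pm, he, zero_mul]
  have hR := finrank_pr hy fun e0 => he0 (pr_injective hb₀' (e0.trans (map_zero _).symm))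
  have hR2 := Submodule.finrank_sup_add_finrank_inf_eq (LinearMap.range (pr (pm e b₀))) (prp (Q8 F) C)
  have hR3 := (LinearMap.range (pr (pm e b₀)) ⊔ prp (Q8 F) C).finrank_le
  rw [finrank8] at hR3
  obtain ⟨w, ⟨⟨t, ht⟩, hwW⟩, hwe⟩ := exists_indep2 (U := LinearMap.range (pr (pm e b₀)) ⊓ prp (Q8 F) C) (by omega)
    (e := e)
  have hw : Q8 F w = 0 := by rw [← ht, pr_apply, norm_pm, hy, mul_zero]
  have hyw : pm (pm e b₀) w = 0 := by rw [← ht, pr_apply, pm_pm_right, hy, zero_smul]
  have hew : polar (Q8 F) e w = 0 := by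
    have h1 := polar_pm b₀ (pm e b₀) w
    rw [hyw, pm_pm_right, polar_smul_left, polar_zero_right] at h1
    exact (smul_eq_zero.1 h1).resolve_left hb₀'
  let u : E8 F := ⟨siegel (Q8 F) e w he hew, siegel_mem_E he hew⟩
  have hu : ∀ v, u.1 v = v + polar (Q8 F) e v • w - polar (Q8 F) w v • e := fun v => by
    show siegel (Q8 F) e w he hew v = _
    rw [siegel_apply, hw, zero_mul, zero_smul, sub_zero]
  have hu0 : ∀ v, polar (Q8 F) e v = 0 → polar (Q8 F) w v = 0 → u.1 v = v := fun v h1 h2 => by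
    rw [hu, h1, h2, zero_smul, zero_smul, add_zero, sub_zero]
  have huC : ∀ v ∈ C, u.1 v = v := fun v hv => hu0 v (mem_prp.1 heW v hv) (mem_prp.1 hwW v hv)
  have hpm := siegel_pm he hw hew
  obtain ⟨b, c, hT⟩ := exists_T3 u
  obtain ⟨ε, -, hb, hc⟩ := Tr.lin hT (f := LinearMap.id + pr w ∘ₗ pl e) (g := LinearMap.id - pl e ∘ₗ pr w)
    fun x y => by
      simp only [LinearMap.add_apply, LinearMap.sub_apply, LinearMap.id_apply, LinearMap.comp_apply, pl_apply, pr_apply]
      exact hpm x y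
  have hfix : ∀ v v', (∀ a b c : E8 F, T3 a b c → a.1 ∈ h.Y ho → b ^ r = 1 → b.1 v = v) →
      (∀ a b c : E8 F, T3 a b c → a.1 ∈ h.Y ho → c ^ r = 1 → c.1 v' = v') →
      pm (v + pm (pm e v) w) (v' - pm e (pm v' w)) = pm v v' := fun v v' h1 h2 => by
    rw [← hpm]
    refine huC _ (mem_Fx.2 ?_)
    rintro _ ⟨a, rfl, ha, ha'⟩
    obtain ⟨b, c, ht, hb, hc⟩ := exists_T3_odd ho ha'
    rw [ht, h1 a b c ht ⟨a, rfl, ha, ha'⟩ hb, h2 a b c ht ⟨a, rfl, ha, ha'⟩ hc]
  have hg : ∀ v', (∀ a b c : E8 F, T3 a b c → a.1 ∈ h.Y ho → c ^ r = 1 → c.1 v' = v') →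
      v' - pm e (pm v' w) = v' := fun v' h2 => by
    have h1 := hfix b₀ v' hb₀ h2
    rw [hyw, add_zero] at h1
    exact pl_injective hb₀' h1
  have hf : ∀ v, (∀ a b c : E8 F, T3 a b c → a.1 ∈ h.Y ho → b ^ r = 1 → b.1 v = v) →
      v + pm (pm e v) w = v := fun v h2 => by
    have h1 := hfix v d₀ h2 hd₀
    rw [hg d₀ hd₀] at h1
    exact pr_injective hd₀' h1
  have huS : og u ∈ LL S := by
    (rewrite [Subgroup.mem_comap]; simp only [Psi_og])
    refine h.core (H := (scOn C).map (QuotientGroup.mk' _)) (fun e1 => ?_) fun s hs => ?_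
    · obtain ⟨w', hw', h1⟩ := hN.exists_one hc₀ (by rintro rfl; exact hc₀' (map_zero _))
      have h2 := mem_prp.1 heW w' hw'
      obtain ⟨a, ⟨l, hl⟩, ha⟩ : ((⟨siegel (Q8 F) e w' he h2, siegel_mem_E he h2⟩ : E8 F) : G8 F) ∈
        (scOn C).map (QuotientGroup.mk' _) := e1 ▸ Subgroup.mem_top _
      obtain ⟨d, -, hd⟩ := mk_eq_iff.1 ha
      have h4 : siegel (Q8 F) e w' he h2 c₀ = _ := hd c₀
      rw [siegel_apply, mem_prp.1 heW c₀ hc₀, polar_comm, h1, hl c₀ hc₀] at h4
      refine he0 (hN e ?_ (mem_prp.1 heW))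
      rw [show e = c₀ - d • l • c₀ by rw [← h4]; simp]
      exact sub_mem hc₀ (C.smul_mem _ (C.smul_mem _ hc₀))
    · have key : ∀ (M : Gam (Q8 F)) (z : E8 F) (l : F), (∀ v, M.1 v ∈ C → z.1 v = l • v) →
          ((conjE (Q8 F) M z : E8 F) : G8 F) ∈ (scOn C).map (QuotientGroup.mk' _) := fun M z l hz => by
        obtain ⟨σ, hσ⟩ := gam_smul M
        refine ⟨_, ⟨σ l, fun v hv => ?_⟩, rfl⟩
        obtain ⟨v, rfl⟩ := M.1.surjective v
        rw [conjE_apply, hz v hv, hσ]
      obtain ⟨M, hM | hM | hM⟩ := cosets s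
      · have hM' : M ∈ LL S := by (rewrite [Subgroup.mem_comap]; simp only [hM]; assumption)
        rw [← hM]
        refine key M u 1 fun v hv => ?_
        rw [one_smul]
        exact huC v ((inv_apply M.1 v) ▸ h.L_fx ho (inv_mem hM') hv)
      · rw [hM u b c hT]
        refine key M b ε fun v hv => ?_
        rw [hb]
        exact (congrArg _ (hf v ((h.ty1_fx ho hs hM).1 hv)) :)
      · rw [hM u b c hT]
        refine key M c ε⁻¹ fun v hv => ?_
        rw [hc]
        exact (congrArg _ (hg v ((h.ty2_fx ho hs hM).1 hv)) :)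
  have hz : u.1 * x * u.1⁻¹ * x⁻¹ ∈ h.Y ho := mul_mem (h.Y_conj ho _ huS x hx) (inv_mem hx)
  have hz1 : u.1 * x * u.1⁻¹ * x⁻¹ = 1 := by
    by_contra h1
    have h2 := finrank_prp nondeg8' (Submodule.span F (Set.range ![e, w, x e, x w]))
    have h4 : finrank F (Submodule.span F (Set.range ![e, w, x e, x w])) ≤ 4 := finrank_range_le_card _
    have h5 : prp (Q8 F) (Submodule.span F (Set.range ![e, w, x e, x w])) ≤
        Fx (Subgroup.zpowers (u.1 * x * u.1⁻¹ * x⁻¹)) := fun v hv => by
      have h6 : ∀ i, polar (Q8 F) (![e, w, x e, x w] i) v = 0 := fun i =>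
        (polar_comm _ _ _).trans (mem_prp.1 hv _ (Submodule.subset_span ⟨i, rfl⟩))
      have h7 := hu0 (x⁻¹ v) ((polar_inv (h.Y_le ho hx) e v).symm.trans (h6 2))
        ((polar_inv (h.Y_le ho hx) w v).symm.trans (h6 3))
      rw [mem_Fx_zpowers]
      show u.1 (x (u.1.symm (x⁻¹ v))) = v
      rw [u.1.symm_apply_eq.2 h7.symm]
      exact (congrArg u.1 (x.apply_symm_apply v)).trans (hu0 v (h6 0) (h6 1))
    have h8 := Submodule.finrank_mono h5
    rw [hdim _ hz h1] at h8
    rw [finrank8] at h2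
    omega
  rw [mul_inv_eq_one, mul_inv_eq_iff_eq_mul] at hz1
  have hU : LinearMap.range (u.1.toLinearMap - 1) ≤ Submodule.span F (Set.range ![e, w]) := by
    rintro _ ⟨v, rfl⟩
    show u.1 v - v ∈ _
    rw [hu, add_sub_assoc, add_sub_cancel_left]
    exact sub_mem (Submodule.smul_mem _ _ (Submodule.subset_span ⟨1, rfl⟩))
      (Submodule.smul_mem _ _ (Submodule.subset_span ⟨0, rfl⟩))
  obtain ⟨m, h1, h2⟩ := order_dvd_one h.prime h.char (h.Y_pow ho x hx) (U := LinearMap.range (u.1.toLinearMap - 1)) (by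
    rintro _ ⟨v, rfl⟩
    refine ⟨x v, ?_⟩
    show u.1 (x v) - x v = x (u.1 v - v)
    rw [map_sub]
    exact congrArg (· - x v) (LinearEquiv.congr_fun hz1 v))
  have h4 : finrank F (LinearMap.range (u.1.toLinearMap - 1)) ≤ 2 :=
    (Submodule.finrank_mono hU).trans (finrank_range_le_card _)
  have h5 := h3.trans h2
  have h6 := inf_eq_left.1 (Submodule.eq_of_le_of_finrank_eq (inf_le_left (b := Fx (Subgroup.zpowers x)))
    (show _ = finrank F (LinearMap.range (u.1.toLinearMap - 1)) by omega))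
  obtain ⟨v, hv⟩ := nondeg8'.exists_polar_eq he0 1
  have h7 : u.1 v - v ∈ C := hC ▸ h6 ⟨v, rfl⟩
  rw [hu, add_sub_assoc, add_sub_cancel_left, hv, one_smul] at h7
  exact hwe _ (sub_eq_zero.1 (hN _ h7 (mem_prp.1 (sub_mem hwW (Submodule.smul_mem _ _ heW)))))

end Cx

end Cfsg.Agent.SB.D4
end

-- part: SB/D4/K2
section
/-!
# S5765, `PΩ₈⁺(q)`: `q = 2`, `r = 3`; the case of odd `r` (helper97)
-/

set_option autoImplicit false
set_option linter.unusedSectionVars false
set_option linter.unusedSimpArgs false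

namespace Cfsg.Agent.SB.D4

open QuadraticMap Module Cfsg.Agent.LieClassical.QuadForms Cfsg.Agent.LieClassical.OrthCore
  Cfsg.Agent.LieClassical.OrthTrans Cfsg.Agent.ClassicalGeometry.OrthSemi Cfsg.Agent.ClassicalGeometry.OrthAut1
  Cfsg.Agent.ClassicalGeometry.TrialityOct Cfsg.Agent.ClassicalGeometry.Triality
  Cfsg.Agent.H989.OutOrth.Basic Cfsg.Agent.H989.OutOrth.Tri Cfsg.Agent.H786.FC

section gen

variable {F V : Type} [Field F] [AddCommGroup V] [Module F V] {Q : QuadraticForm F V}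
  {Y : Subgroup (V ≃ₗ[F] V)}

variable (Q) in
/-- a basis of an anisotropic plane -/
structure Pl (a b : V) (t : F) : Prop where
  ne : Q a ≠ 0
  eq : Q b = Q a
  pol : polar Q a b = t * Q a
  t4 : t ^ 2 ≠ 4
  nr : ∀ c : F, c ^ 2 - t * c + 1 ≠ 0

namespace Pl

variable {a b : V} {t : F} (h : Pl Q a b t)
include h

theorem zero {α β : F} (h0 : Q (α • a + β • b) = 0) : α = 0 ∧ β = 0 := by
  rw [Q_add, QuadraticMap.map_smul, QuadraticMap.map_smul, polar_smul_left, polar_smul_right, h.eq, h.pol] at h0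
  simp only [smul_eq_mul] at h0
  have h1 : α * α + β * β + α * β * t = 0 := mul_right_cancel₀ h.ne (by linear_combination h0)
  have h2 : β = 0 := by_contra fun hβ => h.nr (-α / β) (by field_simp; linear_combination h1)
  rw [h2] at h1
  exact ⟨by simpa using h1, h2⟩

theorem finrank_eq : finrank F (Submodule.span F {a, b}) = 2 := by
  have h1 : LinearIndependent F ![a, b] := LinearIndependent.pair_iff.2 fun s t e => h.zero (by rw [e, map_zero])
  have h2 := finrank_span_eq_card h1
  rwa [Matrix.range_cons_cons_empty] at h2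

theorem aniso : Aniso Q (Submodule.span F {a, b}) := fun x hx h0 => by
  obtain ⟨α, β, rfl⟩ := Submodule.mem_span_pair.1 hx
  obtain ⟨rfl, rfl⟩ := h.zero h0
  simp

theorem nd : Nd Q (Submodule.span F {a, b}) := fun x hx h0 => by
  obtain ⟨α, β, rfl⟩ := Submodule.mem_span_pair.1 hx
  have h1 := h0 a (Submodule.subset_span (by simp))
  have h2 := h0 b (Submodule.subset_span (by simp))
  simp only [polar_add_left, polar_smul_left, polar_self', polar_comm _ b a, h.pol, h.eq, smul_eq_mul] at h1 h2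
  have h3 := mul_ne_zero (sub_ne_zero.2 h.t4) h.ne
  have h4 : α = 0 := mul_right_cancel₀ h3 (by linear_combination t * h2 - 2 * h1)
  have h5 : β = 0 := mul_right_cancel₀ h3 (by linear_combination t * h1 - 2 * h2)
  simp [h4, h5]

theorem eq_span [FiniteDimensional F V] {P : Submodule F V} (hP : finrank F P = 2) (ha : a ∈ P) (hb : b ∈ P) :
    Submodule.span F {a, b} = P :=
  Submodule.eq_of_le_of_finrank_eq (Submodule.span_le.2 (by rintro _ (rfl | rfl); exacts [ha, hb]))
    (h.finrank_eq.trans hP.symm)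

end Pl

theorem pl_of_rel {x : V ≃ₗ[F] V} (hx : x ∈ O Q) {u : V} {t : F} (h : x (x u) = t • x u - u) (ht : t ^ 2 ≠ 4)
    (hn : ∀ c : F, c ^ 2 - t * c + 1 ≠ 0) (hu : Q u ≠ 0) : Pl Q u (x u) t :=
  ⟨hu, mem_O.1 hx u, polar_rot hx h ht, ht, hn⟩

theorem aniso_of_rel [FiniteDimensional F V] {x : V ≃ₗ[F] V} (hx : x ∈ O Q) {P : Submodule F V} (hP : finrank F P = 2)
    (hN : Nd Q P) (hi : ∀ v ∈ P, x v ∈ P) {t : F} (h : ∀ v ∈ P, x (x v) = t • x v - v) (ht : t ^ 2 ≠ 4)
    (hn : ∀ c : F, c ^ 2 - t * c + 1 ≠ 0) : Aniso Q P := by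
  obtain ⟨u, hu, hu'⟩ := hN.exists_nonsing (by rintro rfl; simp at hP)
  have h1 := pl_of_rel hx (h u hu) ht hn hu'
  rw [← h1.eq_span hP hu (hi u hu)]
  exact h1.aniso

variable (Q) in
/-- the orthogonal sum of two anisotropic planes -/
structure Sp2 (W P P' : Submodule F V) : Prop where
  d : finrank F P = 2
  d' : finrank F P' = 2
  a : Aniso Q P
  a' : Aniso Q P'
  o : P ≤ prp Q P'
  s : P ⊔ P' = W

theorem sp2_of [FiniteDimensional F V] (hQ : Nondeg Q) {W P : Submodule F V} (h4 : finrank F W = 4)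
    (hP : P ≤ W) (h2 : finrank F P = 2) (hN : Nd Q P) (hA : Aniso Q P)
    (hA' : finrank F ↥(W ⊓ prp Q P) = 2 → Aniso Q (W ⊓ prp Q P)) : Sp2 Q W (W ⊓ prp Q P) P := by
  have h1 := hN.finrank_inf_prp hQ hP
  have h3 : finrank F ↥(W ⊓ prp Q P) = 2 := by omega
  exact ⟨h3, h2, hA' h3, hA, inf_le_right, by rw [sup_comm, hN.sup_inf_prp hQ hP]⟩

theorem Gen.sp2 [FiniteDimensional F V] (hQ : Nondeg Q) (hO : Y ≤ O Q) {W : Submodule F V} {x : V ≃ₗ[F] V} {t : F}
    (hG : Gen Y W x t) (hn : ∀ c : F, c ^ 2 - t * c + 1 ≠ 0) (h4 : finrank F W = 4) (hN : Nd Q W) :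
    ∃ P P', Sp2 Q W P P' ∧ ∀ v ∈ P', x v ∈ P' := by
  obtain ⟨u, hu, hu'⟩ := hN.exists_nonsing (by rintro rfl; simp at h4)
  have h1 := pl_of_rel (hO hG.mem) (hG.rel u hu) hG.ne hn hu'
  have h2 : Submodule.span F {u, x u} ≤ W := Submodule.span_le.2 (by rintro _ (rfl | rfl); exacts [hu, hG.inv u hu])
  have h3 : ∀ v ∈ Submodule.span F {u, x u}, x v ∈ Submodule.span F {u, x u} := fun v hv => by
    obtain ⟨α, β, rfl⟩ := Submodule.mem_span_pair.1 hv
    refine Submodule.mem_span_pair.2 ⟨-β, α + β * t, ?_⟩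
    rw [map_add, map_smul, map_smul, hG.rel u hu]
    module
  exact ⟨_, _, sp2_of hQ h4 h2 h1.finrank_eq h1.nd h1.aniso fun h5 => aniso_of_rel (hO hG.mem) h5
    (h1.nd.nd_inf_prp hQ h2 hN) (fun v hv => ⟨hG.inv v hv.1, prp_inv (hO hG.mem) h3 hv.2⟩)
    (fun v hv => hG.rel v hv.1) hG.ne hn, h3⟩

theorem sp2_of_ts [FiniteDimensional F V] (hQ : Nondeg Q) (h2 : (2 : F) = 0) (hn : ∀ c : F, c ^ 2 - 1 * c + 1 ≠ 0)
    {W : Submodule F V} (h4 : finrank F W = 4) (hN : Nd Q W) (hT : HasTS Q W) : ∃ P P', Sp2 Q W P P' := by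
  obtain ⟨e, he, e', he', f, hf, f', hf', k1, k2, k3, k4, k5, k6, k7, k8, k9, k10⟩ := opp hN hT
  have ht : (1 : F) ^ 2 ≠ 4 := fun e => one_ne_zero (α := F) (by linear_combination e + 2 * h2)
  have h11 : (1 : F) + 1 = 0 := one_add_one_eq_two.trans h2
  have hp : ∀ x y, polar Q x y = polar Q y x := polar_comm _
  have h1 : Pl Q (e + f) (e' + f' + e) 1 := ⟨by simp [Q_add, k1, k3, k7], by
    simp [Q_add, polar_add_left, *, hp e' e, hp f' e], by
    simp only [Q_add, polar_add_left, polar_add_right, *, hp f e', hp f e, _root_.add_zero, _root_.QuadraticMap.polar_self, _root_.nsmul_zero, _root_.zero_add, _root_.mul_one, hp, k5, k10, k9, k6, k1, k7, k3], ht, hn⟩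
  have h3 : Pl Q (e' + f') (e + f + e') 1 := ⟨by simp [Q_add, k2, k4, k8], by
    simp [Q_add, polar_add_left, *, hp f e'], by
    simp [Q_add, polar_add_left, polar_add_right, *, hp e' e, hp f' e, hp f' f, hp f' e'], ht, hn⟩
  refine ⟨_, _, sp2_of hQ h4 (Submodule.span_le.2 ?_) h1.finrank_eq h1.nd h1.aniso fun h5 => ?_⟩
  · rintro _ (rfl | rfl)
    exacts [add_mem he hf, add_mem (add_mem he' hf') he]
  have key : ∀ v, polar Q v (e + f) = 0 → polar Q v (e' + f' + e) = 0 →
      v ∈ prp Q (Submodule.span F {e + f, e' + f' + e}) := fun v h6 h7 => mem_prp.2 fun y hy => by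
    obtain ⟨α, β, rfl⟩ := Submodule.mem_span_pair.1 hy
    rw [polar_add_right, polar_smul_right, polar_smul_right, h6, h7, smul_zero, smul_zero, add_zero]
  rw [← h3.eq_span h5 ⟨add_mem he' hf', key _ ?_ ?_⟩ ⟨add_mem (add_mem he hf) he', key _ ?_ ?_⟩]
  · exact h3.aniso
  all_goals simp only [polar_add_left, polar_add_right, *, hp e' e, hp f' e, hp f' f, hp f' e', hp f e, hp f e', _root_.add_zero, hp, k5, k10, k9, k6, _root_.QuadraticMap.polar_self, _root_.nsmul_eq_mul, _root_.Nat.cast_ofNat, _root_.MulZeroClass.zero_mul, h2, _root_.nsmul_zero, _root_.zero_add, k2, k8, k1, k7, h11]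

theorem dec4 [FiniteDimensional F V] (hQ : Nondeg Q) {W P₀ P₁ P₂ P₃ : Submodule F V} (hW : Nd Q W)
    (h : Sp2 Q (prp Q W) P₀ P₁) (h' : Sp2 Q W P₂ P₃) : Dec Q ![P₀, P₁, P₂, P₃] := by
  have h0 : P₀ ≤ prp Q W := h.s ▸ le_sup_left
  have h1 : P₁ ≤ prp Q W := h.s ▸ le_sup_right
  have h2 : P₂ ≤ W := h'.s ▸ le_sup_left
  have h3 : P₃ ≤ W := h'.s ▸ le_sup_right
  have sw : ∀ {A B : Submodule F V}, A ≤ prp Q B → B ≤ prp Q A := fun hA => (le_prp_prp _).trans (prp_anti hA)
  refine ⟨fun i j hij x hx => mem_prp.1 ((?_ : _ ≤ prp Q _) hx), ?_⟩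
  · fin_cases i <;> fin_cases j
    exacts [(hij rfl).elim, h.o, h0.trans (prp_anti h2), h0.trans (prp_anti h3),
      sw h.o, (hij rfl).elim, h1.trans (prp_anti h2), h1.trans (prp_anti h3),
      sw (h0.trans (prp_anti h2)), sw (h1.trans (prp_anti h2)), (hij rfl).elim, h'.o,
      sw (h0.trans (prp_anti h3)), sw (h1.trans (prp_anti h3)), sw h'.o, (hij rfl).elim]
  · rw [eq_top_iff, ← hW.sup_prp hQ]
    exact sup_le (h'.s.ge.trans (sup_le (le_iSup ![P₀, P₁, P₂, P₃] 2) (le_iSup ![P₀, P₁, P₂, P₃] 3)))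
      (h.s.ge.trans (sup_le (le_iSup ![P₀, P₁, P₂, P₃] 0) (le_iSup ![P₀, P₁, P₂, P₃] 1)))

theorem zero_or_one [Finite F] (hq : Nat.card F = 2) (c : F) : c = 0 ∨ c = 1 := by
  obtain ⟨y, -, hy⟩ := (Nat.card_eq_two_iff' (0 : F)).1 hq
  by_cases h : c = 0
  · exact Or.inl h
  · exact Or.inr ((hy c h).trans (hy 1 one_ne_zero).symm)

theorem two_eq_zero [Finite F] (hq : Nat.card F = 2) : (2 : F) = 0 :=
  (zero_or_one hq 2).resolve_right fun e => one_ne_zero (α := F) (by linear_combination e)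

theorem no_root [Finite F] (hq : Nat.card F = 2) (c : F) : c ^ 2 - 1 * c + 1 ≠ 0 := by
  rcases zero_or_one hq c with rfl | rfl <;> simp

theorem eq_one_of_ne [Finite F] (hq : Nat.card F = 2) {t : F} (ht : t ^ 2 ≠ 4) : t = 1 :=
  (zero_or_one hq t).resolve_left fun e => ht (by rw [e]; linear_combination (-2) * two_eq_zero hq)

end gen

variable {F : Type} [Field F] [Fintype F]

namespace Cx

variable {S : Subgroup (MulAut (G8 F))} {X : Subgroup (G8 F)} {r : ℕ} (h : Cx S X r) (ho : Odd r)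
  (hk : orderOf (Nat.card F : ZMod r) ∣ 2)
include h ho hk

theorem dvd_sq : r ∣ Nat.card F ^ 2 - 1 := by
  rw [← ZMod.natCast_eq_zero_iff, Nat.cast_sub (Nat.one_le_pow _ _ Nat.card_pos), Nat.cast_pow, Nat.cast_one,
    orderOf_dvd_iff_pow_eq_one.1 hk, sub_self]

theorem ne_three : Nat.card F ≠ 3 := fun e => by
  have h1 := h.dvd_sq ho hk
  rw [e] at h1
  rw [(Nat.prime_dvd_prime_iff_eq h.prime Nat.prime_two).1 (h.prime.dvd_of_dvd_pow (n := 3) h1)] at ho
  exact absurd ho (by decide)

variable (hq : Nat.card F = 2)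
include hq

theorem r_three : r = 3 := by
  have h1 := h.dvd_sq ho hk
  rw [hq] at h1
  exact (Nat.prime_dvd_prime_iff_eq h.prime Nat.prime_three).1 h1

theorem ex_gen1 {θ : h.Y ho → F} (hθ : ¬ Bl (h.Y ho) θ ≤ Fx (h.Y ho)) : ∃ x, Gen (h.Y ho) (Bl (h.Y ho) θ) x 1 := by
  obtain ⟨x, t, hG⟩ := h.ex_gen ho hθ
  exact ⟨x, eq_one_of_ne hq hG.ne ▸ hG⟩

theorem four_dvd_bl {e : V8 F} (he : Q8 F e = 0) (he0 : e ≠ 0) (heC : e ∈ Fx (h.Y ho)) {θ : h.Y ho → F}
    (hθ : ¬ Bl (h.Y ho) θ ≤ Fx (h.Y ho)) : 4 ∣ finrank F (Bl (h.Y ho) θ) := by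
  obtain ⟨U, -, h2, h3⟩ := h.half ho hk he he0 heC
  obtain ⟨x, hG⟩ := h.ex_gen1 ho hk hq hθ
  obtain ⟨m, h4, h5⟩ := order_dvd_one h.prime h.char (h.Y_pow ho x hG.mem) (U := U ⊓ Bl (h.Y ho) θ)
    fun v hv => ⟨h2 x hG.mem v hv.1, hG.inv v hv.2⟩
  have h6 : U ⊓ Bl (h.Y ho) θ ⊓ Fx (Subgroup.zpowers x) = ⊥ :=
    eq_bot_iff.2 fun v hv => hG.fpf v hv.1.2 (mem_Fx_zpowers.1 hv.2)
  rw [h6, finrank_bot, zero_add] at h4
  have h7 : orderOf (Nat.card F : ZMod r) = 2 := by
    refine ((Nat.dvd_prime Nat.prime_two).1 hk).resolve_left fun e => ?_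
    obtain rfl := h.r_three ho hk hq
    rw [orderOf_eq_one_iff, hq] at e
    exact absurd e (by decide)
  have h8 := h3 θ
  rw [h7] at h5
  omega

theorem aniso_bl {θ θ' : h.Y ho → F} (hθ : ¬ Bl (h.Y ho) θ ≤ Fx (h.Y ho)) (h4 : ¬ 4 ∣ finrank F (Bl (h.Y ho) θ))
    (h2 : finrank F (Bl (h.Y ho) θ') = 2) : Aniso (Q8 F) (Bl (h.Y ho) θ') := by
  by_cases h' : Bl (h.Y ho) θ' ≤ Fx (h.Y ho)
  · exact fun e he h0 => by_contra fun h1 => h4 (h.four_dvd_bl ho hk hq h0 h1 (h' he) hθ)
  · obtain ⟨x, hG⟩ := h.ex_gen1 ho hk hq h'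
    exact aniso_of_rel (h.Y_le ho hG.mem) h2 ((h.dec ho hk).nd nondeg8' θ') hG.inv hG.rel hG.ne (no_root hq)

theorem eq_block {P : Submodule F (V8 F)} (h2 : finrank F P = 2) (hP : ∀ g ∈ h.Y ho, ∀ v ∈ P, g v ∈ P)
    (hb : ∀ θ, P ⊓ Bl (h.Y ho) θ ≠ ⊥ → Bl (h.Y ho) θ ≤ P) : ∃ θ, Bl (h.Y ho) θ = P := by
  have := finite_sub (h.Y ho)
  have h1 := le_iSup_Bl (h.Y_comm ho) (h.sym_card ho hk) hP
  by_contra hc
  push Not at hc
  have h3 : ∀ θ, P ⊓ Bl (h.Y ho) θ = ⊥ := fun θ => by_contra fun h3 => hc θ (by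
    have h4 := Submodule.finrank_mono (hb θ h3)
    have h5 : finrank F (Bl (h.Y ho) θ) ≠ 0 := fun e => h3 (by rw [Submodule.finrank_eq_zero.1 e, inf_bot_eq])
    obtain ⟨m, hm⟩ := h.bl_even ho hk θ
    exact Submodule.eq_of_le_of_finrank_eq (hb θ h3) (by omega))
  simp only [h3, iSup_bot, le_bot_iff] at h1
  rw [h1, finrank_bot] at h2
  omega

theorem eight {θ : h.Y ho → F} (h8 : finrank F (Bl (h.Y ho) θ) = 8) : False := by
  have hT : Bl (h.Y ho) θ = ⊤ := Submodule.eq_top_of_finrank_eq (h8.trans finrank8.symm)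
  have hrel : ∀ g ∈ h.Y ho, g ≠ 1 → ∀ v, g (g v) = g v - v := fun g hg h1 v => by
    have h2 : ∀ v, g (g v) = θ ⟨g, hg⟩ • g v - v := fun v => Bl_rel (hT ▸ Submodule.mem_top) ⟨g, hg⟩
    rw [h2, eq_one_of_ne hq fun e => h1 (LinearEquiv.ext fun v =>
      fix_of_sq h.prime ho h.char (h.Y_pow ho g hg) e (h2 v)), one_smul]
  obtain ⟨_, ⟨a, rfl, ha, ha'⟩, ha1⟩ := h.Y_ne ho
  obtain ⟨b, c, ht, hb, hc⟩ := exists_T3_odd ho ha'
  have hb1 : b ≠ 1 := by
    rintro rfl
    obtain ⟨d, d', -, h1, -⟩ := ht.rot.sc Sc.one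
    exact ha1 (congrArg Subtype.val (odd_sc ho h1 ha'))
  have hc1 : c ≠ 1 := by
    rintro rfl
    obtain ⟨d, d', h1, -⟩ := ht.rot.rot.sc Sc.one
    exact ha1 (congrArg Subtype.val (odd_sc ho h1 ha'))
  have key : ∀ (M : Gam (Q8 F)) (z : E8 F), z ≠ 1 → conjLin M z.1 ∈ h.Y ho → ∀ v, z.1 (z.1 v) = z.1 v - v :=
    fun M z h1 h2 v => by
      have h3 := hrel _ h2 (fun e => h1 ((conjE (Q8 F) M).injective ((Subtype.ext e).trans (map_one _).symm))) (M.1 v)
      obtain ⟨σ, c, hM⟩ := M.2
      rw [conjLin_apply', conjLin_apply', ← hM.sub] at h3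
      exact M.1.injective h3
  obtain ⟨M₁, hM₁⟩ := h.sym1
  obtain ⟨M₂, hM₂⟩ := h.sym2
  have k1 := key M₁ b hb1 ((h.conjE_mem_Y ho ha' hb (hM₁ a b c ht)).1 ⟨a, rfl, ha, ha'⟩)
  have k2 := key M₂ c hc1 ((h.conjE_mem_Y ho ha' hc (hM₂ a b c ht)).1 ⟨a, rfl, ha, ha'⟩)
  have k3 : Tr 1 b.1 c.1⁻¹ := fun x y => by
    obtain ⟨y, rfl⟩ := c.1.surjective y
    have k4 := hrel _ ⟨a, rfl, ha, ha'⟩ ha1 (pm x y)
    rw [ht, ht, k1, k2, sub_pm, pm_sub, pm_sub] at k4
    rw [show c.1⁻¹ (c.1 y) = y from c.1.symm_apply_apply y]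
    show pm x (c.1 y) = _
    have k5 : (2 : F) • (pm x y - pm (b.1 x) y) = 0 := by rw [two_eq_zero hq, zero_smul]
    linear_combination (norm := module) k5 - k4
  obtain ⟨e, -, k4, -⟩ := Tr.unique Tr.one k3
  exact hb1 (odd_sc ho k4 hb)

theorem six (G : Geo) {θ : h.Y ho → F} (h6 : finrank F (Bl (h.Y ho) θ) = 6) : Kill3 (LL S) := by
  have hD := h.dec ho hk
  have hN := hD.nd nondeg8' θ
  have hθ : ¬ Bl (h.Y ho) θ ≤ Fx (h.Y ho) := fun hθ => by
    obtain ⟨e, heC, he0, he⟩ := LieClassical.OrthFinite.exists_sing_mem (Q := Q8 F) (Bl (h.Y ho) θ) (by omega)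
    obtain ⟨θ', hθ'⟩ := h.ex_block ho hk
    have h1 := h.four_dvd_bl ho hk hq he he0 (hθ heC) hθ'
    have h2 := hD.add_le nondeg8' (i := θ) (j := θ') (by rintro rfl; exact hθ' hθ)
    have h3 : finrank F (Bl (h.Y ho) θ') ≠ 0 := fun e => hθ' (Submodule.finrank_eq_zero.1 e ▸ bot_le)
    rw [finrank8] at h2
    omega
  obtain ⟨x, hG⟩ := h.ex_gen1 ho hk hq hθ
  have hP := finrank_prp nondeg8' (Bl (h.Y ho) θ)
  rw [finrank8] at hP
  obtain ⟨θ', hθ'⟩ := h.eq_block ho hk hq (P := prp (Q8 F) (Bl (h.Y ho) θ)) (by omega)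
    (fun g hg v hv => prp_inv (h.Y_le ho hg) (fun w hw => Bl_inv (h.Y_comm ho) θ hg hw) hv) fun θ' h1 =>
      hD.le_prp (by rintro rfl; exact h1 (by rw [inf_comm, hN.inf_prp]))
  refine G.c F (V8 F) (Q8 F) _ (Bl (h.Y ho) θ) (prp (Q8 F) (Bl (h.Y ho) θ)) x 1 nondeg8' (by omega)
    (fun x hx y hy => (polar_comm _ _ _).trans (mem_prp.1 hy x hx)) (hN.sup_prp nondeg8') h6 (by omega)
    (hθ' ▸ h.aniso_bl ho hk hq hθ (by omega) (by rw [hθ']; omega)) (h.Y_le ho hG.mem) hG.inv hG.rel (no_root hq)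
    (fun M hM => ?_) fun u hu hu' => h.gen_rot ho hG hu hu'
  have hW : ∀ v ∈ Bl (h.Y ho) θ, M.1 v ∈ Bl (h.Y ho) θ := by
    obtain ⟨θ'', h1⟩ := prm_Bl (h.Y_conj ho) M hM θ
    by_cases h2 : θ = θ''
    · exact h2 ▸ h1
    · have h3 := finrank_le_of_maps M h1
      have h4 := hD.add_le nondeg8' h2
      rw [finrank8] at h4
      omega
  refine ⟨hW, fun v hv => gam_prp M hW le_rfl hv, ?_⟩
  obtain ⟨j, hj⟩ := hG.pow _ (h.Y_conj ho M hM x hG.mem)
  have h3 : x ^ 3 = 1 := h.r_three ho hk hq ▸ h.Y_pow ho x hG.mem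
  have h4 : ∀ v ∈ Bl (h.Y ho) θ, M.1 (x v) = (x ^ (j % 3)) (M.1 v) := fun v hv => by
    rw [← conjLin_apply', hj _ (hW v hv), ← pow_eq_pow_mod j h3]
  obtain h5 | h5 | h5 : j % 3 = 0 ∨ j % 3 = 1 ∨ j % 3 = 2 := by omega
  · rw [h5] at h4
    exact (hθ fun v hv => hG.fpf v hv (M.1.injective (h4 v hv)) ▸ zero_mem _).elim
  · rw [h5, pow_one] at h4
    exact Or.inl h4
  · rw [h5] at h4
    exact Or.inr fun v hv => by rw [h4 v hv, ← LinearEquiv.mul_apply, ← pow_succ', h3]; rfl

theorem four_two (G : Geo) {θ : h.Y ho → F} (hθ : ¬ Bl (h.Y ho) θ ≤ Fx (h.Y ho))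
    (h4 : finrank F (Bl (h.Y ho) θ) = 4) : Kill3 (LL S) := by
  have := finite_sub (h.Y ho)
  have hD := h.dec ho hk
  have hN := hD.nd nondeg8' θ
  obtain ⟨x, hG⟩ := h.ex_gen1 ho hk hq hθ
  have hP := finrank_prp nondeg8' (Bl (h.Y ho) θ)
  rw [finrank8] at hP
  have hinv : ∀ θ, ∀ g ∈ h.Y ho, ∀ v ∈ prp (Q8 F) (Bl (h.Y ho) θ), g v ∈ prp (Q8 F) (Bl (h.Y ho) θ) :=
    fun θ g hg v hv => prp_inv (h.Y_le ho hg) (fun w hw => Bl_inv (h.Y_comm ho) θ hg hw) hv
  obtain ⟨P₂, P₃, h23, h3⟩ := hG.sp2 nondeg8' (h.Y_le ho) (no_root hq) h4 hN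
  obtain ⟨P₀, P₁, h01⟩ : ∃ P₀ P₁, Sp2 (Q8 F) (prp (Q8 F) (Bl (h.Y ho) θ)) P₀ P₁ := by
    by_cases hC : prp (Q8 F) (Bl (h.Y ho) θ) ≤ Fx (h.Y ho)
    · have h1 : Fx (h.Y ho) = prp (Q8 F) (Bl (h.Y ho) θ) := by
        refine le_antisymm ?_ hC
        rw [Fx_eq_Bl h.char (h.Y_pow ho)] at hθ ⊢
        exact hD.le_prp (by rintro rfl; exact hθ le_rfl)
      exact sp2_of_ts nondeg8' (two_eq_zero hq) (no_root hq) (by omega) (hN.nd_prp nondeg8')
        (h1 ▸ h.fx_ts ho hk (by rw [h1]; omega))
    obtain ⟨θ', h1⟩ : ∃ θ', ¬ prp (Q8 F) (Bl (h.Y ho) θ) ⊓ Bl (h.Y ho) θ' ≤ Fx (h.Y ho) := by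
      by_contra hc
      push Not at hc
      exact hC ((le_iSup_Bl (h.Y_comm ho) (h.sym_card ho hk) (hinv θ)).trans (iSup_le hc))
    have hθ' : ¬ Bl (h.Y ho) θ' ≤ Fx (h.Y ho) := fun e => h1 (inf_le_right.trans e)
    have h2 := hD.le_prp (i := θ') (j := θ) (by rintro rfl; exact h1 (by rw [inf_comm, hN.inf_prp]; exact bot_le))
    have hN' := hD.nd nondeg8' θ'
    have h5 := Submodule.finrank_mono h2
    have h6 : finrank F (Bl (h.Y ho) θ') ≠ 0 := fun e => hθ' (Submodule.finrank_eq_zero.1 e ▸ bot_le)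
    obtain ⟨m, hm⟩ := h.bl_even ho hk θ'
    by_cases h7 : finrank F (Bl (h.Y ho) θ') = 4
    · obtain ⟨x', hG'⟩ := h.ex_gen1 ho hk hq hθ'
      obtain ⟨P₀, P₁, h01, -⟩ := hG'.sp2 nondeg8' (h.Y_le ho) (no_root hq) h7 hN'
      exact ⟨P₀, P₁, Submodule.eq_of_le_of_finrank_eq h2 (by omega) ▸ h01⟩
    · refine ⟨_, _, sp2_of nondeg8' (by omega) h2 (by omega) hN' (h.aniso_bl ho hk hq hθ' (by omega) (by omega))
        fun h8 => ?_⟩
      obtain ⟨θ'', e⟩ := h.eq_block ho hk hq h8 (fun g hg v hv => ⟨hinv θ g hg v hv.1, hinv θ' g hg v hv.2⟩)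
        fun θ'' h9 => le_inf
          (hD.le_prp (by rintro rfl; exact h9 (by rw [inf_right_comm, inf_comm _ (Bl _ _), hN.inf_prp, bot_inf_eq])))
          (hD.le_prp (by rintro rfl; exact h9 (by rw [inf_assoc, inf_comm _ (Bl _ _), hN'.inf_prp, inf_bot_eq])))
      exact e ▸ h.aniso_bl ho hk hq hθ' (by omega) (e ▸ h8)
  refine G.d2 F (V8 F) (Q8 F) _ ![P₀, P₁, P₂, P₃] nondeg8' hq (dec4 nondeg8' hN h01 h23) (fun i => ?_) (fun i => ?_)
    (fun M hM => ?_) fun a ha b hb ha0 hb0 => ?_
  · fin_cases i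
    exacts [h01.d, h01.d', h23.d, h23.d']
  · fin_cases i
    exacts [h01.a, h01.a', h23.a, h23.a']
  · show ∀ i, ∃ j, ∀ v ∈ ![P₀ ⊔ P₁, P₂ ⊔ P₃] i, M.1 v ∈ ![P₀ ⊔ P₁, P₂ ⊔ P₃] j
    rw [h01.s, h23.s, Fin.forall_fin_two]
    obtain ⟨θ', h1⟩ := prm_Bl (h.Y_conj ho) M hM θ
    by_cases h2 : θ' = θ
    · subst h2
      exact ⟨⟨0, fun v hv => gam_prp M h1 le_rfl hv⟩, ⟨1, h1⟩⟩
    · have h5 : ∀ v ∈ Bl (h.Y ho) θ, M.1 v ∈ prp (Q8 F) (Bl (h.Y ho) θ) := fun v hv => hD.le_prp h2 (h1 v hv)
      exact ⟨⟨1, fun v hv => (prp_prp nondeg8' (Bl (h.Y ho) θ)).le (gam_prp M h5 (by omega) hv)⟩, ⟨0, h5⟩⟩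
  · have h5 : P₃ ≤ Bl (h.Y ho) θ := h23.s ▸ le_sup_right
    have ha' : Q8 F a ≠ 0 := fun e => ha0 (h23.a' a ha e)
    have h6 := pl_of_rel (h.Y_le ho hG.mem) (hG.rel a (h5 ha)) hG.ne (no_root hq) ha'
    have h7 := h.gen_rot ho hG (h5 ha) ha'
    obtain ⟨α, β, rfl⟩ := Submodule.mem_span_pair.1 ((h6.eq_span h23.d' ha (h3 a ha)).ge hb)
    rcases zero_or_one hq α with rfl | rfl <;> rcases zero_or_one hq β with rfl | rfl
    · simp at hb0
    · rwa [zero_smul, one_smul, zero_add]
    · rw [zero_smul, one_smul, add_zero, rr_mul_self]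
      exact one_mem _
    · have h8 := mul_mem h7 (h.gen_rot ho hG (hG.inv a (h5 ha)) (h6.eq ▸ ha'))
      rw [mul_assoc, ← mul_assoc (rr _ (x a)), rr_mul_self, one_mul, hG.rel a (h5 ha)] at h8
      have h9 : (2 : F) • a = 0 := by rw [two_eq_zero hq, zero_smul]
      rwa [show (1 : F) • a + (1 : F) • x a = (1 : F) • x a - a by linear_combination (norm := module) h9]

theorem two (G : Geo) : Kill3 (LL S) := by
  obtain ⟨θ, hθ⟩ := h.ex_block ho hk
  have hθ0 : finrank F (Bl (h.Y ho) θ) ≠ 0 := fun e => hθ (Submodule.finrank_eq_zero.1 e ▸ bot_le)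
  by_cases h2 : ∀ θ, finrank F (Bl (h.Y ho) θ) ≤ 2
  · exact h.planes ho hk G h2 (Or.inr fun θ' h' => h.aniso_bl ho hk hq hθ (by have := h2 θ; omega) h')
  push Not at h2
  obtain ⟨θ', h2⟩ := h2
  obtain ⟨m, hm⟩ := h.bl_even ho hk θ'
  have h3 := (Bl (h.Y ho) θ').finrank_le
  rw [finrank8] at h3
  obtain h4 | h4 | h4 : finrank F (Bl (h.Y ho) θ') = 4 ∨ finrank F (Bl (h.Y ho) θ') = 6 ∨
    finrank F (Bl (h.Y ho) θ') = 8 := by omega
  · by_cases hθ' : Bl (h.Y ho) θ' ≤ Fx (h.Y ho)
    · obtain ⟨e, heC, he0, he⟩ := LieClassical.OrthFinite.exists_sing_mem (Q := Q8 F) (Bl (h.Y ho) θ') (by omega)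
      have h5 := h.four_dvd_bl ho hk hq he he0 (hθ' heC) hθ
      have h6 := (h.dec ho hk).add_le nondeg8' (i := θ) (j := θ') (by rintro rfl; exact hθ hθ')
      rw [finrank8] at h6
      exact h.four_two ho hk hq G hθ (by omega)
    · exact h.four_two ho hk hq G hθ' h4
  · exact h.six ho hk hq G h4
  · exact (h.eight ho hk hq h4).elim

end Cx

/-- the case of odd `r` -/
theorem case_odd (G : Geo) {S : Subgroup (MulAut (G8 F))} {X : Subgroup (G8 F)} {r : ℕ} (h : Cx S X r) (ho : Odd r) :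
    Four (InnG (G8 F)) S := by
  by_cases hk : orderOf (Nat.card F : ZMod r) ∣ 2
  · refine four_of_kill3 ?_
    have h1 : 1 < Nat.card F := Finite.one_lt_card
    have h3 := h.ne_three ho hk
    by_cases h2 : Nat.card F = 2
    · exact h.two ho hk h2 G
    · exact h.big ho hk G (by omega)
  rcases h.order_cases with h1 | h1
  · refine four_of_kill2 h.solv (h.four ho ?_ G.b)
    have h2 := Nat.le_of_dvd (by norm_num) h1
    generalize orderOf (Nat.card F : ZMod r) = k at *
    interval_cases k <;> omega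
  · refine (h.three ho ?_).elim
    have h2 := Nat.le_of_dvd (by norm_num) h1
    generalize orderOf (Nat.card F : ZMod r) = k at *
    interval_cases k <;> omega

end Cfsg.Agent.SB.D4
end

private theorem dce_45f032a756d0 : _root_.True := by
  try have : _root_.True := by simp only [_root_.Cfsg.Agent.SB.D4.Cx.Y.congr_simp]
  try have : _root_.True := by simp only [_root_.Cfsg.Agent.SB.D4.sym.eq_1]
  exact _root_.True.intro
end

-- part: SB/D4/RB1
section
prune_inst 0x200064047422020000180500320000602800009200400000e84002400349e042a00020011220001218109c406808006003100030420000000a0004000003000000801202814883002a000e000000000000000000000000000000000000010000000000000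
set_option linter.all false
open scoped Cfsg.Agent.FastGrp

/-!
# S5765, `PΩ₈⁺(q)`, `r = 2`: eigenspaces of triality triples of involutions (helper61)
-/

set_option autoImplicit false
set_option linter.unusedSectionVars false

namespace Cfsg.Agent.SB.D4.RB

open QuadraticMap Module Cfsg.Agent.LieClassical.QuadForms Cfsg.Agent.LieClassical.OrthCore
  Cfsg.Agent.LieClassical.OrthTrans Cfsg.Agent.ClassicalGeometry.OrthSemi Cfsg.Agent.ClassicalGeometry.OrthAut1
  Cfsg.Agent.ClassicalGeometry.TrialityOct Cfsg.Agent.ClassicalGeometry.Triality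
  Cfsg.Agent.H989.OutOrth.Basic Cfsg.Agent.H989.OutOrth.Tri Cfsg.Agent.H786.FC

variable {F : Type} [Field F]

theorem sq_of_eig {a : E8 F} {z : V8 F} (hz : Q8 F z ≠ 0) {x : F} (h : a.1 z = x • z) : x * x = 1 := by
  have h1 := mem_O.1 (E_le_O a.2) z
  rw [h, QuadraticMap.map_smul, smul_eq_mul] at h1
  exact mul_right_cancel₀ hz (by rw [h1, one_mul])

/-- **EQ** -/
theorem eq_le {ι : Type} {a b c : ι → E8 F} (ht : ∀ i, T3 (a i) (b i) (c i)) {z z' u : V8 F} (hz : Q8 F z ≠ 0)
    (hz' : Q8 F z' ≠ 0) (hu : Q8 F u ≠ 0) {x x' y : ι → F} (h1 : ∀ i, (a i).1 z = x i • z)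
    (h2 : ∀ i, (a i).1 z' = x' i • z') (h3 : ∀ i, (b i).1 u = y i • u) {U U' : Submodule F (V8 F)}
    (hU : ∀ w ∈ U, ∀ i, (a i).1 w = x i • w) (hU' : ∀ w, (∀ i, (a i).1 w = x' i • w) → w ∈ U') :
    finrank F U ≤ finrank F U' := by
  let φ : V8 F →ₗ[F] V8 F := pl u ∘ₗ pl z' ∘ₗ pr z ∘ₗ pr u
  have hφ : Function.Injective φ :=
    (pl_injective hu).comp ((pl_injective hz').comp ((pr_injective hz).comp (pr_injective hu)))
  have hm : ∀ w ∈ U, φ w ∈ U' := fun w hw => hU' _ fun i => by
    have e1 : (c i).1 (pm w u) = (x i * y i) • pm w u := by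
      rw [(ht i).rot.rot, hU w hw, h3, smul_pm, pm_smul, smul_smul]
    have e2 : (b i).1 (pm (pm w u) z) = y i • pm (pm w u) z := by
      rw [(ht i).rot, e1, h1, smul_pm, pm_smul, smul_smul, mul_right_comm, sq_of_eig hz (h1 i), one_mul]
    have e3 : (c i).1 (pm z' (pm (pm w u) z)) = (x' i * y i) • pm z' (pm (pm w u) z) := by
      rw [(ht i).rot.rot, h2, e2, smul_pm, pm_smul, smul_smul]
    show (a i).1 (pm u (pm z' (pm (pm w u) z))) = x' i • pm u (pm z' (pm (pm w u) z))
    rw [ht i, h3, e3, smul_pm, pm_smul, smul_smul, mul_left_comm, sq_of_eig hu (h3 i), mul_one]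
  exact LinearMap.finrank_le_finrank_of_injective (f := φ.restrict hm) fun v w e =>
    Subtype.ext (hφ (congrArg Subtype.val e))

/-- eigenspaces -/
def Eg (a : E8 F) (e : F) : Submodule F (V8 F) := LinearMap.ker (a.1.toLinearMap - e • 1)

theorem mem_Eg {a : E8 F} {e : F} {v : V8 F} : v ∈ Eg a e ↔ a.1 v = e • v := by
  rw [Eg, LinearMap.mem_ker, LinearMap.sub_apply, sub_eq_zero]
  rfl

theorem aa {a : E8 F} (ha : a * a = 1) (v : V8 F) : a.1 (a.1 v) = v :=
  LinearEquiv.congr_fun (congrArg Subtype.val ha) v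

theorem add_mem_Eg {a : E8 F} (ha : a * a = 1) {e : F} (he : e * e = 1) (v : V8 F) : v + e • a.1 v ∈ Eg a e := by
  rw [mem_Eg, map_add, map_smul, aa ha, smul_add, smul_smul, he, one_smul, add_comm]

theorem dec_Eg (h2 : (2 : F) ≠ 0) {a : E8 F} (ha : a * a = 1) {e : F} (he : e * e = 1) :
    Dec (Q8 F) ![Eg a e, Eg a (-e)] := by
  have key : ∀ x ∈ Eg a e, ∀ y ∈ Eg a (-e), polar (Q8 F) x y = 0 := fun x hx y hy => by
    have h1 := polar_map (E_le_O a.2) x y
    rw [mem_Eg.1 hx, mem_Eg.1 hy, polar_smul_left, polar_smul_right, smul_eq_mul, smul_eq_mul] at h1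
    apply mul_left_cancel₀ h2
    linear_combination -h1 - polar (Q8 F) x y * he
  refine ⟨fun i j hij x hx y hy => ?_, eq_top_iff.2 fun v _ => ?_⟩
  · fin_cases i <;> fin_cases j
    · exact absurd rfl hij
    · exact key x hx y hy
    · exact (polar_comm _ _ _).trans (key y hy x hx)
    · exact absurd rfl hij
  · have h1 : v = (2 : F)⁻¹ • (v + e • a.1 v) + (2 : F)⁻¹ • (v + (-e) • a.1 v) := by
      rw [← smul_add, show v + e • a.1 v + (v + (-e) • a.1 v) = (2 : F) • v by module, smul_smul, inv_mul_cancel₀ h2,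
        one_smul]
    rw [h1]
    exact add_mem (Submodule.mem_iSup_of_mem 0 (Submodule.smul_mem _ _ (add_mem_Eg ha he v)))
      (Submodule.mem_iSup_of_mem 1 (Submodule.smul_mem _ _ (add_mem_Eg ha (by rw [neg_mul_neg, he]) v)))

variable [Fintype F]

theorem nd_Eg (h2 : (2 : F) ≠ 0) {a : E8 F} (ha : a * a = 1) {e : F} (he : e * e = 1) : Nd (Q8 F) (Eg a e) :=
  (dec_Eg h2 ha he).nd nondeg8' 0

theorem sum_Eg (h2 : (2 : F) ≠ 0) {a : E8 F} (ha : a * a = 1) {e : F} (he : e * e = 1) :
    finrank F (Eg a e) + finrank F (Eg a (-e)) = 8 := by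
  have h1 := (dec_Eg h2 ha he).sum_finrank nondeg8'
  rwa [Fin.sum_univ_two, finrank8] at h1

theorem ne_bot_Eg (h2 : (2 : F) ≠ 0) {a : E8 F} (ha : a * a = 1) (hn : ∀ e, ¬ Sc a e) {e : F} (he : e * e = 1) :
    Eg a e ≠ ⊥ := by
  intro h0
  have h1 := sum_Eg h2 ha he
  rw [h0, finrank_bot, zero_add] at h1
  have h3 : Eg a (-e) = ⊤ := Submodule.eq_top_of_finrank_eq (by rw [h1, finrank8])
  exact hn (-e) fun x => mem_Eg.1 (h3 ▸ Submodule.mem_top)

theorem exists_eig (h2 : (2 : F) ≠ 0) {b : E8 F} (hb : b * b = 1) : ∃ (u : V8 F) (y : F), Q8 F u ≠ 0 ∧ b.1 u = y • u := by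
  by_cases h0 : Eg b 1 = ⊥
  · have h1 := sum_Eg h2 hb (one_mul (1 : F))
    rw [h0, finrank_bot, zero_add] at h1
    obtain ⟨u, hu, hu'⟩ := (nd_Eg h2 hb (e := -1) (by ring)).exists_nonsing fun h3 => by
      rw [h3, finrank_bot] at h1
      omega
    exact ⟨u, -1, hu', mem_Eg.1 hu⟩
  · obtain ⟨u, hu, hu'⟩ := (nd_Eg h2 hb (one_mul (1 : F))).exists_nonsing h0
    exact ⟨u, 1, hu', mem_Eg.1 hu⟩

theorem four_Eg (h2 : (2 : F) ≠ 0) {a b c : E8 F} (ht : T3 a b c) (ha : a * a = 1) (hb : b * b = 1)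
    (hn : ∀ e, ¬ Sc a e) {e : F} (he : e * e = 1) : finrank F (Eg a e) = 4 := by
  obtain ⟨u, y, hu, hy⟩ := exists_eig h2 hb
  have key : ∀ e : F, e * e = 1 → finrank F (Eg a e) ≤ finrank F (Eg a (-e)) := fun e he => by
    have he' : -e * -e = 1 := by rw [neg_mul_neg, he]
    obtain ⟨z, hz, hz'⟩ := (nd_Eg h2 ha he).exists_nonsing (ne_bot_Eg h2 ha hn he)
    obtain ⟨w, hw, hw'⟩ := (nd_Eg h2 ha he').exists_nonsing (ne_bot_Eg h2 ha hn he')
    exact eq_le (ι := Unit) (fun _ => ht) hz' hw' hu (x := fun _ => e) (x' := fun _ => -e) (y := fun _ => y)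
      (fun _ => mem_Eg.1 hz) (fun _ => mem_Eg.1 hw) (fun _ => hy) (fun _ h _ => mem_Eg.1 h) fun _ h => mem_Eg.2 (h ())
  have h1 := key e he
  have h3 := key (-e) (by rw [neg_mul_neg, he])
  have h4 := sum_Eg h2 ha he
  rw [neg_neg] at h3
  omega

/-- **Z1** -/
theorem hasTS_Eg (h2 : (2 : F) ≠ 0) {a b c : E8 F} (ht : T3 a b c) (ha : a * a = 1) (hb : b * b = 1) (hc : c * c = 1)
    (hn : ∀ e, ¬ Sc a e) {e : F} (he : e * e = 1) : HasTS (Q8 F) (Eg a e) := by
  have nb : ∀ e, ¬ Sc b e := fun e h => by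
    obtain ⟨_, d, -, h1, -⟩ := ht.rot.sc h
    exact hn d h1
  have nc : ∀ e, ¬ Sc c e := fun e h => by
    obtain ⟨d, _, h1, -, -⟩ := ht.rot.rot.sc h
    exact hn d h1
  have h4b := four_Eg h2 ht.rot hb hc nb (one_mul (1 : F))
  have h4c := four_Eg h2 ht.rot.rot hc ha nc he
  obtain ⟨x, hx, hx0, hxs⟩ := LieClassical.OrthFinite.exists_sing_mem (Q := Q8 F) (Eg b 1) (by omega)
  refine hasTS_of_le (U := (Eg c e).map (pl x)) ?_ ?_ ?_
  · rintro _ ⟨w, hw, rfl⟩
    rw [mem_Eg, pl_apply, ht, mem_Eg.1 hx, mem_Eg.1 hw, one_smul, pm_smul]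
  · rintro _ ⟨w, -, rfl⟩
    rw [pl_apply, norm_pm, hxs, zero_mul]
  · have h1 := ((pl x).domRestrict (Eg c e)).finrank_range_add_finrank_ker
    rw [LinearMap.range_domRestrict, h4c] at h1
    have hs : ∀ u ∈ (LinearMap.ker ((pl x).domRestrict (Eg c e))).map (Eg c e).subtype, Q8 F u = 0 := by
      rintro _ ⟨u, hu, rfl⟩
      have h3 : pm x u = 0 := hu
      have h4 := pm_pm_right (u : V8 F) x
      rw [h3, pm_zero] at h4
      exact (smul_eq_zero.1 h4.symm).resolve_right hx0
    have h3 := (nd_Eg h2 hc he).two_mul_le (Submodule.map_subtype_le _ _) fun u hu v hv => polar_of_ts hs hu hv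
    rw [Submodule.finrank_map_subtype_eq, h4c] at h3
    omega

end Cfsg.Agent.SB.D4.RB

private theorem dce_e2e0ae28d736 : _root_.True := by
  try have : _root_.True := by simp only [_root_.Cfsg.Agent.SB.D4.RB.Eg.eq_1]
  exact _root_.True.intro
end

-- part: SB/D4/RB2
section
prune_inst 0x200064040422020000180000320000606800009000000000e0400a400a0020400000200010200000980000c04008006003000100420000000a000400000400000080000081480000000000000000000000000000000000000000000000010000000000000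
set_option linter.all false
open scoped Cfsg.Agent.FastGrp

/-!
# S5765, `PΩ₈⁺(q)`, `r = 2`, case I: all lifts are involutions (helper61)
-/

set_option autoImplicit false
set_option linter.unusedSectionVars false

namespace Cfsg.Agent.SB.D4

open QuadraticMap Module Cfsg.Agent.LieClassical.QuadForms Cfsg.Agent.LieClassical.OrthCore
  Cfsg.Agent.LieClassical.OrthTrans Cfsg.Agent.ClassicalGeometry.OrthSemi Cfsg.Agent.ClassicalGeometry.OrthAut1
  Cfsg.Agent.ClassicalGeometry.TrialityOct Cfsg.Agent.ClassicalGeometry.Triality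
  Cfsg.Agent.H989.OutOrth.Basic Cfsg.Agent.H989.OutOrth.Tri Cfsg.Agent.H786.FC

namespace RB

section sign

variable {F V : Type} [Field F] [AddCommGroup V] [Module F V] {Q : QuadraticForm F V} {e : Fin 8 → V}

theorem exists_vec (h : GF.OB Q e) (h8 : finrank F V = 8) (v : V) : ∃ x : Fin 8 → F, v = GF.vec e x := by
  have h1 : v ∈ Submodule.span F (Set.range e) := by rw [h.span h8]; trivial
  obtain ⟨x, hx⟩ := (Submodule.mem_span_range_iff_exists_fun F).1 h1
  exact ⟨x, hx.symm⟩

theorem line_of_plane {p p' : V} (hp : Q p = 0) (hp' : Q p' = 0) (hpp : polar Q p p' = 0) (h0 : p ≠ 0)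
    (h1 : ∀ c : F, p' ≠ c • p) (s : V) : ∃ a b : F, a • p + b • p' ≠ 0 ∧ polar Q (a • p + b • p') s = 0 ∧
      Q (a • p + b • p') = 0 := by
  have hq : ∀ a b : F, Q (a • p + b • p') = 0 := fun a b => by
    rw [Q_add, QuadraticMap.map_smul, QuadraticMap.map_smul, polar_smul_left, polar_smul_right, hp, hp', hpp]
    simp
  by_cases h : polar Q p s = 0
  · exact ⟨1, 0, by simpa using h0, by simpa using h, hq _ _⟩
  · refine ⟨-polar Q p' s, polar Q p s, fun h2 => h (G.ind_of_ne h0 h1 _ _ h2).2, ?_, hq _ _⟩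
    rw [polar_add_left, polar_smul_left, polar_smul_left, smul_eq_mul, smul_eq_mul]
    ring

/-- the form `⟨d, -d, -d, -d⟩` over the field with three elements has Witt index one -/
theorem no_ts [Finite F] (h3 : Nat.card F = 3) (h : GF.OB Q e) (h8 : finrank F V = 8) {i : Fin 8}
    (hi : ∀ j, j ≠ i → Q (e j) = -Q (e i)) {A : Submodule F V} (h4 : finrank F A = 4) (hiA : e i ∈ A)
    (hA : ∀ j, e j ∈ A ∨ ∀ v ∈ A, polar Q v (e j) = 0) : ¬ HasTS Q A := by
  classical
  rintro ⟨p, hpA, p', hp'A, hp, hp', hpp, h0, h1⟩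
  have := Fintype.ofFinite F
  have hc' : Fintype.card F = 3 := by rw [← Nat.card_eq_fintype_card, h3]
  have : Fact (Nat.Prime 3) := ⟨Nat.prime_three⟩
  have hch : CharP F 3 := charP_of_card_eq_prime hc'
  have hfd : FiniteDimensional F V := Module.finite_of_finrank_pos (by omega)
  set I : Finset (Fin 8) := Finset.univ.filter fun j => e j ∈ A with hI
  have hI4 : I.card ≤ 4 := by
    have h2 : LinearIndependent F e := by
      rw [Fintype.linearIndependent_iff]
      intro x hx j
      have h2 := h.polar_vec x j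
      rw [GF.vec, hx, polar_zero_left] at h2
      exact (mul_eq_zero.1 h2.symm).resolve_right (h.self j)
    have h5 : LinearIndependent F fun j : I => (⟨e j, (Finset.mem_filter.1 j.2).2⟩ : A) :=
      LinearIndependent.of_comp A.subtype (h2.comp (fun j : I => (j : Fin 8)) Subtype.val_injective)
    have h6 := h5.fintype_card_le_finrank
    rwa [Fintype.card_coe, h4] at h6
  have hz : ∀ x : Fin 8 → F, GF.vec e x ∈ A → ∀ j, j ∉ I → x j = 0 := fun x hx j hj => by
    have h2 := (hA j).resolve_left (fun h5 => hj (Finset.mem_filter.2 ⟨Finset.mem_univ _, h5⟩)) _ hx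
    rw [h.polar_vec] at h2
    exact (mul_eq_zero.1 h2).resolve_right (h.self j)
  have hiI : i ∈ I := Finset.mem_filter.2 ⟨Finset.mem_univ _, hiA⟩
  obtain ⟨j, hjI, hji⟩ : ∃ j ∈ I, j ≠ i := by
    by_contra hc
    push Not at hc
    obtain ⟨x, rfl⟩ := exists_vec h h8 p
    have h2 : ∀ j, j ≠ i → x j = 0 := fun j hj => hz x hpA j fun h5 => hj (hc j h5)
    rw [h.Q_vec, Finset.sum_eq_single i (fun j _ hj => by rw [h2 j hj]; ring) (by simp)] at hp
    have h5 : x i = 0 := pow_eq_zero_iff two_ne_zero |>.1 ((mul_eq_zero.1 hp).resolve_right (h.ne i))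
    apply h0
    refine Finset.sum_eq_zero fun j _ => ?_
    by_cases hj : j = i
    · rw [hj, h5, zero_smul]
    · rw [h2 j hj, zero_smul]
  have hd := h.ne i
  have key : ∀ ς : F, ς * ς = 1 → ∃ a b c : F, c ≠ 0 ∧ a • p + b • p' = c • (ς • e i + e j) := by
    intro ς hς
    obtain ⟨a, b, t0, t1, t2⟩ := line_of_plane hp hp' hpp h0 h1 (e i + ς • e j)
    have tA : a • p + b • p' ∈ A := add_mem (A.smul_mem _ hpA) (A.smul_mem _ hp'A)
    obtain ⟨x, hx⟩ := exists_vec h h8 (a • p + b • p')
    rw [hx] at t0 t1 t2 tA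
    rw [polar_add_right, polar_smul_right, h.polar_vec, h.polar_vec, polar_self', polar_self', hi j hji,
      smul_eq_mul] at t1
    have e1 : x i = ς * x j := by
      apply mul_right_cancel₀ (mul_ne_zero h.two hd)
      linear_combination t1
    set K := (I.erase i).erase j with hK
    have hK2 : K.card ≤ 2 := by
      rw [hK, Finset.card_erase_of_mem (Finset.mem_erase.2 ⟨hji, hjI⟩), Finset.card_erase_of_mem hiI]
      omega
    have e2 : ∑ k ∈ K, x k ^ 2 = 0 := by
      rw [h.Q_vec, ← Finset.sum_subset (Finset.subset_univ I) (fun k _ hk => by rw [hz x tA k hk]; ring),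
        ← Finset.add_sum_erase _ _ hiI, ← Finset.add_sum_erase _ _ (Finset.mem_erase.2 ⟨hji, hjI⟩), ← hK,
        Finset.sum_congr rfl (g := fun k => x k ^ 2 * -Q (e i)) fun k hk => by
          rw [hi k (Finset.mem_erase.1 (Finset.mem_erase.1 hk).2).1], ← Finset.sum_mul, hi j hji, e1] at t2
      apply mul_right_cancel₀ hd
      linear_combination -t2 + x j ^ 2 * Q (e i) * hς
    have e3 : ∀ k ∈ K, x k = 0 := by
      have e4 : ∑ k ∈ K, x k ^ 2 = ((K.filter fun k => x k ≠ 0).card : F) := by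
        rw [Finset.card_filter, Nat.cast_sum]
        refine Finset.sum_congr rfl fun k _ => ?_
        by_cases hk : x k = 0
        · simp [hk]
        · have h5 := FiniteField.pow_card_sub_one_eq_one _ hk
          rw [hc'] at h5
          simpa [hk] using h5
      rw [e4, CharP.cast_eq_zero_iff F 3] at e2
      have e5 := Finset.card_filter_le K fun k => x k ≠ 0
      have e6 : (K.filter fun k => x k ≠ 0).card = 0 := by omega
      intro k hk
      by_contra h5
      exact Finset.filter_eq_empty_iff.1 (Finset.card_eq_zero.1 e6) hk h5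
    have e7 : GF.vec e x = x j • (ς • e i + e j) := by
      rw [GF.vec, ← Finset.sum_subset (Finset.subset_univ I) (fun k _ hk => by rw [hz x tA k hk, zero_smul]),
        ← Finset.add_sum_erase _ _ hiI, ← Finset.add_sum_erase _ _ (Finset.mem_erase.2 ⟨hji, hjI⟩), ← hK,
        Finset.sum_eq_zero fun k hk => by rw [e3 k hk, zero_smul], e1]
      module
    exact ⟨a, b, x j, fun h5 => t0 (by rw [e7, h5, zero_smul]), hx.trans e7⟩
  obtain ⟨a, b, c, hc, e1⟩ := key 1 (one_mul 1)
  obtain ⟨a', b', c', hc'', e2⟩ := key (-1) (by ring)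
  have e3 : polar Q (a • p + b • p') (a' • p + b' • p') = 0 := by
    simp only [polar_add_left, polar_add_right, polar_smul_left, polar_smul_right, polar_self_of_sing hp,
      polar_self_of_sing hp', hpp, polar_comm Q p' p, smul_zero, add_zero]
  rw [e1, e2] at e3
  simp only [polar_add_left, polar_add_right, polar_smul_left, polar_smul_right, polar_self', h.orth i j hji.symm,
    h.orth j i hji, hi j hji, smul_eq_mul] at e3
  apply mul_ne_zero (mul_ne_zero hc hc'') (mul_ne_zero (mul_ne_zero h.two h.two) hd)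
  linear_combination -e3

end sign

variable {F : Type} [Field F] [Fintype F] {S : Subgroup (MulAut (G8 F))} {X : Subgroup (G8 F)}

/-- all lifts -/
def Y2 (X : Subgroup (G8 F)) : Subgroup (GL8 F) := (X.comap (QuotientGroup.mk' _)).map (E (Q8 F)).subtype

section

variable (h : Cx S X 2) (hx : ∀ a : E8 F, (a : G8 F) ∈ X → a * a = 1)
include h hx

omit hx in
theorem two_ne : (2 : F) ≠ 0 := by simpa using h.char

omit h in
theorem Y2_inv {g : GL8 F} (hg : g ∈ Y2 X) : g⁻¹ = g := by
  obtain ⟨a, ha, rfl⟩ := hg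
  exact inv_eq_of_mul_eq_one_left (congrArg Subtype.val (hx a ha))

omit h in
theorem Y2_comm : ∀ g ∈ Y2 X, ∀ g' ∈ Y2 X, g * g' = g' * g := fun g hg g' hg' => by
  rw [← Y2_inv hx (mul_mem hg hg'), mul_inv_rev, Y2_inv hx hg, Y2_inv hx hg']

theorem mem_Bl2 {θ : Y2 X → F} {v : V8 F} : v ∈ Bl (Y2 X) θ ↔ ∀ a : Y2 X, a.1 v = (θ a / 2) • v := by
  have h2 := two_ne h
  rw [mem_Bl]
  refine forall_congr' fun a => ?_
  rw [Y2_inv hx a.2, ← two_smul F]
  constructor
  · intro h1
    rw [div_eq_inv_mul, mul_smul, ← h1, smul_smul, inv_mul_cancel₀ h2, one_smul]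
  · intro h1
    rw [h1, smul_smul, mul_div_cancel₀ _ h2]

theorem dec2 : Dec (Q8 F) (Bl (Y2 X)) := by
  have : Finite (Y2 X) :=
    Finite.of_injective (fun a : Y2 X => (a.1 : V8 F → V8 F)) fun _ _ h => Subtype.ext (DFunLike.coe_injective h)
  refine dec_Bl ?_ (Y2_comm hx) fun g hg => ?_
  · rintro _ ⟨a, -, rfl⟩
    exact E_le_O a.2
  · have h1 : sym g = (2 : F) • g.toLinearMap := by rw [sym, Y2_inv hx hg, two_smul]
    have h3 : g.toLinearMap * g.toLinearMap = 1 := by
      obtain ⟨a, ha, rfl⟩ := hg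
      exact LinearMap.ext (aa (hx a ha))
    obtain ⟨k, hk⟩ : Odd (Fintype.card F) := by
      rw [← Nat.not_even_iff_odd]
      intro he
      have h4 : ringChar F = 2 := FiniteField.even_card_iff_char_two.2 (Nat.even_iff.1 he)
      exact two_ne h (by simpa using (ringChar.spec F 2).2 (h4 ▸ dvd_rfl))
    simp_rw [h1, smul_pow, FiniteField.pow_card, hk, pow_succ, pow_mul, pow_two, h3, one_pow, one_mul]

omit hx in
theorem prm2 : Prm (LL S) (Bl (Y2 X)) := prm_Bl (by
  rintro M hM _ ⟨a, ha, rfl⟩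
  exact ⟨conjE (Q8 F) M a, h.conjE_mem hM ha, rfl⟩)

theorem eig2 {θ : Y2 X → F} {v : V8 F} (hv : v ∈ Bl (Y2 X) θ) {a : E8 F} (ha : (a : G8 F) ∈ X) :
    a.1 v = (θ ⟨a.1, a, ha, rfl⟩ / 2) • v := (mem_Bl2 h hx).1 hv ⟨a.1, a, ha, rfl⟩

theorem eig2' {θ : Y2 X → F} {v : V8 F} (hv : v ∈ Bl (Y2 X) θ) (hv0 : v ≠ 0) {a : E8 F} (ha : (a : G8 F) ∈ X) :
    θ ⟨a.1, a, ha, rfl⟩ / 2 * (θ ⟨a.1, a, ha, rfl⟩ / 2) = 1 := by
  have h1 := aa (hx a ha) v
  rw [eig2 h hx hv ha, map_smul, eig2 h hx hv ha, smul_smul] at h1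
  exact smul_left_injective F hv0 (h1.trans (one_smul F v).symm)

theorem rank_le {θ θ' : Y2 X → F} (h0 : Bl (Y2 X) θ ≠ ⊥) (h0' : Bl (Y2 X) θ' ≠ ⊥) :
    finrank F (Bl (Y2 X) θ) ≤ finrank F (Bl (Y2 X) θ') := by
  obtain ⟨z, hz, hz'⟩ := ((dec2 h hx).nd nondeg8' θ).exists_nonsing h0
  obtain ⟨w, hw, hw'⟩ := ((dec2 h hx).nd nondeg8' θ').exists_nonsing h0'
  obtain ⟨M, hM⟩ := h.sym1
  let ι := {a : E8 F // (a : G8 F) ∈ X}
  choose b c ht using fun a : ι => exists_T3 a.1
  have hy : ∀ a : ι, ∃ y : F, (b a).1 (M⁻¹.1 z) = y • M⁻¹.1 z := fun a => by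
    have h1 := conjE_eig (M := M⁻¹) (eig2 h hx hz ((hM _ _ _ (ht a)).1 a.2))
    rwa [conjE_inv_conjE] at h1
  choose y hy using hy
  refine eq_le ht hz' hw' (Q_ne M⁻¹ hz') (fun a => eig2 h hx hz a.2) (fun a => eig2 h hx hw a.2) hy
    (fun v hv a => eig2 h hx hv a.2) fun v hv => (mem_Bl2 h hx).2 ?_
  rintro ⟨_, a, ha, rfl⟩
  exact hv ⟨a, ha⟩

theorem rot2 {θ θ' : Y2 X → F} {u v : V8 F} (hu : u ∈ Bl (Y2 X) θ) (hv : v ∈ Bl (Y2 X) θ') (h1 : Q8 F u ≠ 0)
    (h2 : Q8 F v = Q8 F u) : rr (Q8 F) u * rr (Q8 F) v ∈ LL S := by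
  refine h.rot_mem h1 h2 fun x hx' => ?_
  obtain ⟨a, rfl⟩ := QuotientGroup.mk_surjective x
  refine ⟨a, rfl, ?_⟩
  simp only [eig2 h hx hu hx', eig2 h hx hv hx',
    rr_smul (left_ne_zero_of_mul_eq_one (eig2' h hx hu (fun h0 => h1 (by rw [h0, map_zero])) hx')),
    rr_smul (left_ne_zero_of_mul_eq_one (eig2' h hx hv (fun h0 => h1 (by rw [← h2, h0, map_zero])) hx'))]

theorem ts2 {a : E8 F} (ha : (a : G8 F) ∈ X) (hn : ∀ e, ¬ Sc a e) {e : F} (he : e * e = 1) :
    finrank F (Eg a e) = 4 ∧ HasTS (Q8 F) (Eg a e) := by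
  obtain ⟨b, c, ht⟩ := exists_T3 a
  obtain ⟨M, hM⟩ := h.sym1
  obtain ⟨N, hN⟩ := h.sym2
  have hb : b * b = 1 := (conjE (Q8 F) M).injective (by rw [map_mul, map_one]; exact hx _ ((hM a b c ht).1 ha))
  have hc : c * c = 1 := (conjE (Q8 F) N).injective (by rw [map_mul, map_one]; exact hx _ ((hN a b c ht).1 ha))
  exact ⟨four_Eg (two_ne h) ht (hx a ha) hb hn he, hasTS_Eg (two_ne h) ht (hx a ha) hb hc hn he⟩

omit hx in
theorem exists_nonsc : ∃ a : E8 F, (a : G8 F) ∈ X ∧ ∀ e, ¬ Sc a e := by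
  obtain ⟨⟨x, hx⟩, hx1⟩ := Subgroup.ne_bot_iff_exists_ne_one.1 h.ne
  obtain ⟨a, rfl⟩ := QuotientGroup.mk_surjective x
  exact ⟨a, hx, fun e he => hx1 (Subtype.ext (mk_eq_one_iff.2 ⟨e, he⟩))⟩

/-- a block of dimension four is an eigenspace -/
theorem ts_block {θ : Y2 X → F} (h4 : finrank F (Bl (Y2 X) θ) = 4) : HasTS (Q8 F) (Bl (Y2 X) θ) := by
  obtain ⟨a, ha, hn⟩ := exists_nonsc h
  obtain ⟨v, hv, hv0⟩ := G.exists_ne_zero (W := Bl (Y2 X) θ) (by omega)
  obtain ⟨h1, h2⟩ := ts2 h hx ha hn (eig2' h hx hv hv0 ha)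
  rwa [← Submodule.eq_of_le_of_finrank_eq (fun w hw => mem_Eg.2 (eig2 h hx hw ha)) (h4.trans h1.symm)] at h2

theorem block_le {θ : Y2 X → F} (h0 : Bl (Y2 X) θ ≠ ⊥) : finrank F (Bl (Y2 X) θ) ≤ 4 := by
  obtain ⟨a, ha, hn⟩ := exists_nonsc h
  obtain ⟨v, hv, hv0⟩ := (Submodule.ne_bot_iff _).1 h0
  exact (Submodule.finrank_mono fun w hw => mem_Eg.2 (eig2 h hx hw ha)).trans
    (ts2 h hx ha hn (eig2' h hx hv hv0 ha)).1.le

theorem exists_blocks : ∃ (n d : ℕ) (f : Fin (n + 1) → (Y2 X → F)), (n + 1) * d = 8 ∧ d ≤ 4 ∧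
    (∀ k, finrank F (Bl (Y2 X) (f k)) = d) ∧ Dec (Q8 F) (Bl (Y2 X) ∘ f) ∧ Prm (LL S) (Bl (Y2 X) ∘ f) := by
  classical
  have : Finite (Y2 X) :=
    Finite.of_injective (fun a : Y2 X => (a.1 : V8 F → V8 F)) fun _ _ h => Subtype.ext (DFunLike.coe_injective h)
  have := Fintype.ofFinite (Y2 X → F)
  set s : Finset (Y2 X → F) := Finset.univ.filter fun θ => Bl (Y2 X) θ ≠ ⊥ with hs
  have hm : ∀ θ, θ ∈ s ↔ Bl (Y2 X) θ ≠ ⊥ := fun θ => by simp [hs]
  obtain ⟨θ, hθ⟩ : ∃ θ, Bl (Y2 X) θ ≠ ⊥ := by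
    by_contra hc
    push Not at hc
    have h1 := (dec2 h hx).sum_finrank nondeg8'
    rw [Finset.sum_eq_zero fun θ _ => by rw [hc θ, finrank_bot], finrank8] at h1
    omega
  obtain ⟨n, hn⟩ : ∃ n, s.card = n + 1 := Nat.exists_eq_succ_of_ne_zero (Finset.card_ne_zero.2 ⟨θ, (hm θ).2 hθ⟩)
  obtain ⟨f, f1, f2, f3, -⟩ := exists_enum s hn ((hm θ).2 hθ)
  have hd : ∀ k, finrank F (Bl (Y2 X) (f k)) = finrank F (Bl (Y2 X) θ) := fun k =>
    le_antisymm (rank_le h hx ((hm _).1 (f2 k)) hθ) (rank_le h hx hθ ((hm _).1 (f2 k)))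
  have hD := (dec2 h hx).reindex f f1 fun i hi => f3 i ((hm i).2 hi)
  refine ⟨n, _, f, ?_, block_le h hx hθ, hd, hD, (prm2 h).reindex f fun i hi => f3 i ((hm i).2 hi)⟩
  have h1 := hD.sum_finrank nondeg8'
  have h2 : ∑ i, finrank F ((Bl (Y2 X) ∘ f) i) = ∑ _i : Fin (n + 1), finrank F (Bl (Y2 X) θ) :=
    Finset.sum_congr rfl fun k _ => hd k
  rw [finrank8, h2] at h1
  simpa using h1

omit hx in
theorem three_le : 3 ≤ Nat.card F := by
  by_contra hc
  have h1 : (Nat.card F : F) = 0 := by rw [Nat.card_eq_fintype_card]; exact FiniteField.cast_card_eq_zero F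
  have h4 : 1 < Nat.card F := Finite.one_lt_card
  rw [show Nat.card F = 2 by omega] at h1
  exact h.char h1

end

end RB

open RB in
/-- **Case I** -/
theorem case_two_I {F : Type} [Field F] [Fintype F] {S : Subgroup (MulAut (G8 F))} {X : Subgroup (G8 F)} (G : Geo)
    (h : Cx S X 2) (hx : ∀ a : E8 F, (a : G8 F) ∈ X → a * a = 1) : Kill3 (LL S) := by
  obtain ⟨n, d, f, h8, h4, hd, hD, hP⟩ := exists_blocks h hx
  have h2 := two_ne h
  have h3 := three_le h
  have hc : (n = 1 ∧ d = 4) ∨ (n = 3 ∧ d = 2) ∨ (n = 7 ∧ d = 1) := by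
    interval_cases d <;> omega
  rcases hc with ⟨rfl, rfl⟩ | ⟨rfl, rfl⟩ | ⟨rfl, rfl⟩
  · by_cases hq : 4 ≤ Nat.card F
    · exfalso
      obtain ⟨e, he, e', he', g, hg, g', hg', a1, a2, a3, a4, a5, a6, a7, a8, a9, a10⟩ :=
        opp (hD.nd nondeg8' 0) (ts_block h hx (hd 0))
      refine h.no_sl2 G.sl2 hq a1 a2 a3 a4 a5 a6 (by rw [a7, a8, a9, a10]; simp) fun x hx' => ?_
      obtain ⟨a, rfl⟩ := QuotientGroup.mk_surjective x
      have he0 : e ≠ 0 := fun h0 => by rw [h0, polar_zero_left] at a7; exact zero_ne_one a7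
      have h1 := eig2' h hx he he0 hx'
      refine ⟨a, rfl, ?_, ?_⟩
      · rw [eig2 h hx he hx', eig2 h hx he' hx', wd_smul h1]
      · rw [eig2 h hx hg hx', eig2 h hx hg' hx', wd_smul h1]
    · exact G.d3 F _ _ _ _ nondeg8' (by omega) hD hd (fun i => ts_block h hx (hd i)) hP
        fun a ha b hb h1 h5 => rot2 h hx ha hb h1 h5
  · exact G.a F _ _ _ _ nondeg8' hD hd hP (Or.inl h3) (Or.inr ⟨h2, fun a ha b hb h1 h5 => rot2 h hx ha hb h1 h5⟩)
  · have he : ∀ k, ∃ v ∈ Bl (Y2 X) (f k), Q8 F v ≠ 0 := fun k => (hD.nd nondeg8' k).exists_nonsing fun h0 => by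
      have h1 := hd k
      rw [show Bl (Y2 X) (f k) = ⊥ from h0, finrank_bot] at h1
      exact zero_ne_one h1
    choose e he he' using he
    have hO : GF.OB (Q8 F) e := ⟨h2, he', fun i j hij => hD.orth i j hij _ (he i) _ (he j)⟩
    refine G.fr F _ _ _ e nondeg8' finrank8 h2 he' hO.orth (fun M hM i => ?_)
      (fun i j _ c h1 => rot2 h hx (he i) (Submodule.smul_mem _ _ (he j)) (he' i) h1) ?_
    · obtain ⟨j, hj⟩ := hP M hM i
      obtain ⟨c, hc⟩ := (finrank_eq_one_iff_of_nonzero' (⟨e j, he j⟩ : Bl (Y2 X) (f j))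
        (fun h0 => hO.ne0 j (congrArg Subtype.val h0))).1 (hd j) ⟨_, hj _ (he i)⟩
      exact ⟨j, c, (congrArg Subtype.val hc).symm⟩
    · rintro hq ⟨i, hi⟩
      obtain ⟨a, ha, hn⟩ := exists_nonsc h
      have h1 := eig2' h hx (he i) (hO.ne0 i) ha
      obtain ⟨h5, h6⟩ := ts2 h hx ha hn h1
      refine no_ts hq hO finrank8 hi h5 (mem_Eg.2 (eig2 h hx (he i) ha)) (fun j => ?_) h6
      have h7 := eig2' h hx (he j) (hO.ne0 j) ha
      rcases mul_self_eq_mul_self_iff.1 (h7.trans h1.symm) with h9 | h9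
      · exact Or.inl (mem_Eg.2 (h9 ▸ eig2 h hx (he j) ha))
      · exact Or.inr fun v hv => (dec_Eg h2 (hx a ha) h1).orth 0 1 (by decide) v hv _
          (mem_Eg.2 (h9 ▸ eig2 h hx (he j) ha))

end Cfsg.Agent.SB.D4

private theorem dce_78dc38a41243 : _root_.True := by
  try have : _root_.True := by simp only [_root_.Cfsg.Agent.SB.D4.sym.eq_1]
  exact _root_.True.intro
end

-- part: SB/D4/GS_mg
section

end

-- part: SB/SporD/Fi/D23
section
prune_inst 0x10000000000000
set_option linter.all false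
open scoped Cfsg.Agent.FastGrp

/-!
# S5765 : the transpositions of `Fi23` (helper46)

**`boxD23`**.
-/

set_option autoImplicit false
set_option maxRecDepth 100000

namespace Cfsg.Agent.SB.SporD.Fi

namespace D23

open Cfsg Subgroup Equiv Cfsg.Agent.LThreeFi23 Cfsg.Agent.H838.Three Cfsg.Agent.Lib.PermNet Cfsg.Agent.H837.Base23
  Cfsg.Agent.Fischer.Fi23Hom Cfsg.Agent.KFacts.FiTTh Cfsg.Agent.KFacts.FiTTh.BasDef Cfsg.Agent.KFacts.FiTTh.BasFi
  Cfsg.Agent.H831.Short
open Cfsg.Agent.KFacts.FiTTh.BasInv (base)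
open Cfsg.Agent.KFacts.FiTTh.BasTau (tau_mem_M24 tau_none)
open Cfsg.Agent.R08.FiTwentyThree (D isThreeTranspositionClass)
open Cfsg.Spor (Fi23)

theorem tt : IsThreeTranspositionSet D := isThreeTranspositionClass.1

theorem uq {l l' : List Fi23} (h : H816.Prods.Good D l) (h' : H816.Prods.Good D l') (h3 : l.length ≤ 3)
    (h3' : l'.length ≤ 3) (e : l.prod = l'.prod) : ∀ x, x ∈ l ↔ x ∈ l' :=
  unique tt (m := 3) (noRel_seven tt H830.Con23.isT7) le_rfl l l' h.nodup h'.nodup h3 h3' h.mem h'.mem h.comm h'.comm e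

theorem good2 {a b : Fi23} (ha : a ∈ D) (hb : b ∈ D) (h : a ≠ b) (hc : Commute a b) : H816.Prods.Good D [a, b] :=
  ⟨by simpa using h, (H816.Conc.list_two ha hb hc).1, (H816.Conc.list_two ha hb hc).2⟩

theorem solv_conj {G : Type*} [Group G] {K : Subgroup G} (hK : Group.IsSolvable K) (g : G) :
    Group.IsSolvable (K.comap (MulAut.conj g⁻¹).toMonoidHom) :=
  Group.isSolvable_of_isSolvable_injective (f := (MulAut.conj g⁻¹).toMonoidHom.subgroupComap K)
    fun _ _ h => Subtype.ext ((MulAut.conj g⁻¹).injective (congrArg Subtype.val h))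

/-! ### factorisations -/

theorem invol (r : Fi23) (h2 : r * r = 1) (h1 : r ≠ 1) (hD : r ∉ D) : ∃ H : Finset Fi23, (∀ h ∈ H, h ∈ D) ∧
    (∀ h ∈ H, ∀ k ∈ H, Commute h k) ∧ ¬ 4 ∣ H.card ∧ (∀ g : Fi23, Commute g r → ∀ h ∈ H, g * h * g⁻¹ ∈ H) ∧
      ∀ h ∈ H, ∀ k ∈ H, h ≠ k → ∀ x ∈ D, ∀ y ∈ D, x ≠ y → Commute x y → r * h * k ≠ x * y := by
  classical
  obtain ⟨l, hl, h3, rfl⟩ := H816.Conc.cover_fi23 r h2 h1
  refine ⟨l.toFinset, fun h hh => hl.mem h (List.mem_toFinset.1 hh), fun h hh k hk =>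
    hl.comm h (List.mem_toFinset.1 hh) k (List.mem_toFinset.1 hk), fun h4 => ?_, fun g hg h hh => ?_,
    fun h hh k hk hne x hx y hy hxy hc e => ?_⟩
  · rw [List.toFinset_card_of_nodup hl.nodup] at h4
    rw [List.length_eq_zero_iff.1 (Nat.eq_zero_of_dvd_of_lt h4 (by omega))] at h1
    exact h1 rfl
  · have h4 := hl.map (MulAut.conj g) (E := D) (Set.ext fun y => ⟨fun ⟨x, hx, e⟩ => e ▸ isConj_conj hx g, fun hy =>
      ⟨g⁻¹ * y * g⁻¹⁻¹, isConj_conj hy _, by simp only [mul_assoc, _root_.inv_inv, _root_.MulAut.conj_apply, _root_.mul_inv_cancel_left, _root_.mul_inv_cancel, _root_.mul_one]⟩⟩)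
    refine List.mem_toFinset.2 ((uq h4 hl (by simpa using h3) h3 ?_ _).1
      (List.mem_map_of_mem (List.mem_toFinset.1 hh)))
    rw [← map_list_prod, MulAut.conj_apply, hg.eq, mul_inv_cancel_right]
  · rw [List.mem_toFinset] at hh hk
    have p1 := List.perm_cons_erase hh
    have hk' : k ∈ l.erase h := (List.mem_erase_of_ne hne.symm).2 hk
    have p2 := p1.trans ((List.perm_cons_erase hk').cons h)
    set t := (l.erase h).erase k
    have ht : ∀ z ∈ t, z ∈ l := fun z hz => List.mem_of_mem_erase (List.mem_of_mem_erase hz)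
    have g1 : H816.Prods.Good D t := ⟨(hl.nodup.erase _).erase _, fun z hz => hl.mem z (ht z hz),
      fun z hz w hw => hl.comm z (ht z hz) w (ht w hw)⟩
    have h5 : t.length ≤ 1 := by
      have := p2.length_eq
      simp only [List.length_cons] at this
      omega
    have c1 : ∀ z ∈ l, Commute z t.prod := fun z hz => Commute.list_prod_right _ _ fun w hw => hl.comm z hz w (ht w hw)
    have h6 : t.prod = [x, y].prod := by
      rw [p2.prod_eq' (List.pairwise_of_forall_mem_list hl.comm), List.prod_cons, List.prod_cons, (c1 k hk).eq,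
        ← mul_assoc, (c1 h hh).eq, mul_assoc t.prod, (hl.comm h hh k hk).eq, mul_assoc, mul_assoc, mul_assoc,
        ← mul_assoc h, _root_.Cfsg.Agent.H837.Base23.sq_of (hl.mem h hh), one_mul, _root_.Cfsg.Agent.H837.Base23.sq_of (hl.mem k hk), mul_one] at e
      rw [e, List.prod_cons, List.prod_singleton]
    have h7 := uq g1 (good2 hx hy hxy hc) (by omega) (by simp) h6
    obtain ⟨h8, h9⟩ : x ∈ t ∧ y ∈ t := ⟨(h7 x).2 (by simp), (h7 y).2 (by simp)⟩
    match t, h5, h8, h9 with
    | [z], _, h8, h9 => exact hxy ((List.mem_singleton.1 h8).trans (List.mem_singleton.1 h9).symm)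

/-! ### diagrams of type `A₃` -/

theorem o_tri : orbChk wJ1 8005 12 [(.z, false), (.j, true)] [0] = true := by decide +kernel
theorem f_tri : fixChk [[.a, .b, .c, .d], [.b, .d]] [0, 8006, 8005] = true := by decide +kernel
theorem k5 : checkEq 15 (ntw [.a, .b, .c, .d, .a, .b, .c, .d, .a, .b, .c, .d, .a, .b, .c, .d, .a, .b, .c, .d])
    (ntw []) = true := by decide +kernel
theorem k2 : checkEq 15 (ntw [.b, .d, .b, .d]) (ntw []) = true := by decide +kernel
theorem k3 : checkEq 15 (ntw [.a, .b, .c, .d, .b, .d, .a, .b, .c, .d, .b, .d, .a, .b, .c, .d, .b, .d])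
    (ntw []) = true := by decide +kernel
theorem k1 : Nat.beq (ptw [.a, .b, .c, .d] 8000) 8000 = false := by decide +kernel

theorem tri (a : Fi23) (ha : a ∈ D) (b : Fi23) (hb : b ∈ D) (c : Fi23) (hc : c ∈ D) (hne : a ≠ c) (h1 : Commute a c)
    (h2 : ¬ Commute a b) (h3 : ¬ Commute c b) : ¬ Group.IsSolvable (centralizer ({a, b, c} : Set Fi23)) := by
  obtain ⟨p, hp, rfl⟩ := exists_T ha
  obtain ⟨q, hq, rfl⟩ := exists_T hb
  obtain ⟨r, hr, rfl⟩ := exists_T hc
  obtain ⟨g, e1, e2⟩ := conjJ0 hp hq fun h => h2 ((com_iff hq).1 h)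
  obtain ⟨k, hk, hk'⟩ := step f_J1 o_tri (g := g) hr (by
    intro c hc
    fin_cases hc
    · change ¬ Com 0 _ ↔ _
      rw [com_g hp e1, com_iff hr]
      simp [h1.eq]
    · change ¬ Com 8006 _ ↔ _
      rw [com_g hq e2, com_iff hr]
      exact ⟨fun _ => rfl, fun _ h => h3 (Commute.symm h)⟩) (by
    rw [List.mem_singleton]
    exact ne_g e1 fun h => hne (h ▸ rfl))
  have hs : ∀ u ∈ [[Lt.a, .b, .c, .d], [.b, .d]], elw u ∈ (centralizer ({T p, T q, T r} : Set Fi23)).comap
      (MulAut.conj k⁻¹).toMonoidHom := fun u hu => by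
    have h4 : ∀ s s', s < 31671 → rho k s = s' → s' ∈ [0, 8006, 8005] →
        T s * (k⁻¹ * elw u * k⁻¹⁻¹) = k⁻¹ * elw u * k⁻¹⁻¹ * T s := fun s s' hs h5 h6 => by
      refine ((fix_iff _ hs).1 ?_).symm
      rw [inv_inv, map_mul, map_mul, Perm.mul_apply, Perm.mul_apply, h5, fixChk_spec f_tri u hu _ h6, map_inv,
        Perm.inv_eq_iff_eq, h5]
    rintro _ (rfl | rfl | rfl)
    exacts [h4 p _ hp (hk' _ _ (by simp) e1) (by simp), h4 q _ hq (hk' _ _ (by simp) e2) (by simp),
      h4 r _ hr hk (by simp)]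
  intro hS
  have h5 := Spor.eq_one_of_coprime (solv_conj hS k) (hs [.a, .b, .c, .d] (by simp)) (hs [.b, .d] (by simp))
    (a := 5) (b := 2) (c := 3) (by simp only [pow_succ, pow_zero, one_mul, ← elw_append]; exact elw_eq_of_checkEq k5)
    (by simp only [pow_succ, pow_zero, one_mul, ← elw_append]; exact elw_eq_of_checkEq k2)
    (by simp only [pow_succ, pow_zero, one_mul, ← elw_append]; exact elw_eq_of_checkEq k3) rfl rfl rfl
  have h6 := k1
  rw [ptw_eq, h5, map_one] at h6
  exact absurd h6 (by decide)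

/-! ### cliques -/

/-- words in the generators of `M23` -/
def tw (w : List ℕ) : Perm GolayPt := (w.map BasTau.tau).prod

theorem tw_mem {w : List ℕ} (h : ∀ k ∈ w, k < 7) : tw w ∈ Spor.M23 :=
  list_prod_mem fun x hx => by
    obtain ⟨k, hk, rfl⟩ := List.mem_map.1 hx
    exact mem_M23.2 ⟨tau_mem_M24 k (h k hk), tau_none k (h k hk)⟩

theorem not_solv {K : Subgroup Fi23} {u v : Perm GolayPt} (hu : u ∈ Spor.M23) (hv : v ∈ Spor.M23) {c : ℕ}
    (h2 : u ^ 2 = 1) (h3 : v ^ 3 = 1) (hc : (u * v) ^ c = 1) (c2 : Nat.gcd 2 c = 1) (c3 : Nat.gcd 3 c = 1) (h1 : u ≠ 1)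
    (hK : ∀ n m, m = u ∨ m = v → (∀ p, n * e p * n⁻¹ = e (m p)) → n ∈ K) : ¬ Group.IsSolvable K := fun hS => by
  let f := Spor.M23.subtype.comp base.ind
  let L := K.comap (normalizer (A e : Set Fi23)).subtype
  have h4 : Group.IsSolvable L := Group.isSolvable_of_isSolvable_injective
    (f := (normalizer (A e : Set Fi23)).subtype.subgroupComap K) fun _ _ h =>
      Subtype.ext (Subtype.ext (congrArg (fun x : K => (x : Fi23)) h))
  have h5 : Group.IsSolvable (L.map f) := Group.isSolvable_of_surjective (f.subgroupMap_surjective L)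
  have h6 : ∀ m, m = u ∨ m = v → m ∈ L.map f := fun m hm => by
    obtain ⟨n, hn⟩ := base.full m (by rcases hm with rfl | rfl; exacts [hu, hv])
    exact ⟨⟨n, Base.mem_normalizer_of hn⟩, hK n m hm hn, base.ind_eq hn⟩
  exact h1 (Spor.eq_one_of_coprime h5 (h6 u (.inl rfl)) (h6 v (.inr rfl)) h2 h3 hc rfl c2 c3)

theorem exists_M23 {S U : Finset GolayPt} (hS : none ∉ S) (hU : none ∉ U) (h4 : S.card ≤ 4) (h : S.card = U.card) :
    ∃ m ∈ Spor.M23, (∀ p ∈ S, m p ∈ U) ∧ ∀ q ∈ U, ∃ p ∈ S, m p = q := by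
  let eS : Fin S.card ≃ S := (Finset.equivFin S).symm
  let eU : Fin S.card ≃ U := (Finset.equivFinOfCardEq h.symm).symm
  have hi : ∀ {V : Finset GolayPt} (f : Fin S.card ≃ V), none ∉ V →
      Function.Injective (Fin.cons none (fun i => ((f i : V) : GolayPt)) : Fin (S.card + 1) → GolayPt) :=
    fun f hf => Fin.cons_injective_iff.2 ⟨fun ⟨i, hi⟩ => hf (hi ▸ (f i).2), fun i j h => f.injective (Subtype.ext h)⟩
  obtain ⟨m, hm⟩ := BasCode.exists_map_emb (n := S.card + 1) (by omega) ⟨_, hi eS hS⟩ ⟨_, hi eU hU⟩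
  have h1 : ∀ i, (m : Perm GolayPt) (eS i) = eU i := fun i => hm i.succ
  refine ⟨m, mem_M23.2 ⟨m.2, hm 0⟩, fun p hp => ?_, fun q hq => ⟨eS (eU.symm ⟨q, hq⟩), (eS _).2, ?_⟩⟩
  · have h2 := h1 (eS.symm ⟨p, hp⟩)
    rw [apply_symm_apply] at h2
    exact h2 ▸ (eU _).2
  · rw [h1, apply_symm_apply]

/-- the standard heptad -/
def H0 : Finset GolayPt := {some 0, some 1, some 2, some 3, some 5, some 17, some 14}

theorem com_H0 {d : Fi23} (hd : d ∈ D) (h : ∀ p ∈ ({some 0, some 1, some 2, some 3} : Finset GolayPt), Commute d (e p)) :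
    ∀ p ∈ H0, Commute d (e p) := by
  have h1 : [e (some 5), e (some 17), e (some 14)].prod = (e (some 0) * e (some 1) * e (some 2) * e (some 3))⁻¹ :=
    eq_inv_of_mul_eq_one_right (by
      simpa only [BasChk.oct0, List.map_cons, List.map_nil, List.prod_cons, base.zero, one_mul, mul_assoc] using
        word_WO.symm.trans WO_eq_one)
  have h2 := commute_of_prod tt [e (some 5), e (some 17), e (some 14)]
    ((by decide : ([some 5, some 17, some 14] : List GolayPt).Nodup).map e_inj)
    (by simp only [List.forall_mem_cons]; exact ⟨isConj_e _, isConj_e _, isConj_e _, by simp⟩)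
    (by simp only [List.forall_mem_cons, Commute, SemiconjBy, e_comm]; simp only [_root_.List.not_mem_nil, _root_.IsEmpty.forall_iff, _root_.implies_true, _root_.and_self, _root_.and_true]) le_rfl hd (h1 ▸
      ((((h _ (by simp only [_root_.Finset.mem_insert, _root_.Option.some.injEq, _root_.Finset.mem_singleton, _root_.true_or])).mul_right (h _ (by simp only [_root_.Finset.mem_insert, _root_.Option.some.injEq, _root_.Finset.mem_singleton, _root_.true_or, _root_.or_true]))).mul_right (h _ (by simp only [_root_.Finset.mem_insert, _root_.Option.some.injEq, _root_.Finset.mem_singleton, _root_.true_or, _root_.or_true]))).mul_right (h _ (by simp only [_root_.Finset.mem_insert, _root_.Option.some.injEq, _root_.Finset.mem_singleton, _root_.or_true]))).inv_right)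
  intro p hp
  simp only [H0, Finset.mem_insert, Finset.mem_singleton] at hp
  rcases hp with rfl | rfl | rfl | rfl | rfl | rfl | rfl
  exacts [h _ (by simp only [_root_.Finset.mem_insert, _root_.Option.some.injEq, _root_.Finset.mem_singleton, _root_.true_or]), h _ (by simp), h _ (by simp), h _ (by simp), h2 _ (by simp), h2 _ (by simp), h2 _ (by simp)]

theorem com_conj {G : Type*} [Group G] {a b : G} (h : Commute a b) (g : G) : Commute (g * a * g⁻¹) (g * b * g⁻¹) :=
  h.map (MulAut.conj g)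

theorem mem_N {X : Set Fi23} {n : Fi23} (h : ∀ d ∈ X, n * d * n⁻¹ ∈ X) : n ∈ normalizer (closure X : Set Fi23) :=
  mem_normalizer_fintype fun _ hx => (closure_le ((_root_.Subgroup.closure X).comap (MulAut.conj n).toMonoidHom)).2
    (fun d hd => _root_.Subgroup.subset_closure (h d hd)) hx

/-- cliques in standard position -/
theorem std {S : Finset GolayPt} (h0 : none ∉ S) (hS : S ⊆ {some 0, some 1, some 4} ∨ {some 0, some 1, some 2, some 3} ⊆ S)
    {K : Subgroup Fi23} (hK : ∀ n, (∀ d ∈ CD D (e '' S), n * d * n⁻¹ ∈ CD D (e '' S)) → n ∈ K) :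
    ¬ Group.IsSolvable K := by
  rcases hS with hS | hS
  · refine not_solv (tw_mem (w := [4, 5, 4]) (by decide)) (tw_mem (w := [5, 6]) (by decide)) (c := 5)
      (by decide +kernel) (by decide +kernel) (by decide +kernel) rfl rfl (by decide +kernel)
      fun n m hm hn => hK n fun d hd => ⟨isConj_conj hd.1 n, ?_⟩
    rintro _ ⟨p, hp, rfl⟩
    have h1 : ∀ p ∈ ({some 0, some 1, some 4} : Finset GolayPt), m p = p := by
      rcases hm with rfl | rfl <;> decide +kernel
    rw [← h1 p (hS hp), ← hn]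
    exact com_conj (hd.2 _ ⟨p, hp, rfl⟩) n
  refine not_solv (tw_mem (w := [5]) (by decide)) (tw_mem (w := [1, 4]) (by decide)) (c := 7)
    (by decide +kernel) (by decide +kernel) (by decide +kernel) rfl rfl (by decide +kernel)
    fun n m hm hn => hK n fun d hd => ⟨isConj_conj hd.1 n, ?_⟩
  rintro _ ⟨p, hp, rfl⟩
  have h1 := com_H0 hd.1 fun q hq => hd.2 _ ⟨q, hS hq, rfl⟩
  by_cases h2 : S ⊆ H0
  · obtain ⟨q, hq, rfl⟩ : ∃ q ∈ H0, m q = p := by
      have : ∀ p ∈ H0, ∃ q ∈ H0, m q = p := by rcases hm with rfl | rfl <;> decide +kernel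
      exact this p (h2 hp)
    rw [← hn]
    exact com_conj (h1 q hq) n
  obtain ⟨q, hq, h3⟩ := Finset.not_subset.1 h2
  obtain ⟨i, rfl⟩ := Option.ne_none_iff_exists'.1 fun h : q = none => h0 (h ▸ hq)
  obtain ⟨j, rfl⟩ := mem_base_of_eight hd.1 (S := {i, 0, 1, 2, 3, 5, 17, 14})
    ((by decide +kernel : ∀ i : ZMod 23, some i ∉ H0 → 8 ≤ ({i, 0, 1, 2, 3, 5, 17, 14} : Finset (ZMod 23)).card) i h3)
    fun j hj => by
      rcases Finset.mem_insert.1 hj with rfl | hj
      · exact hd.2 _ ⟨_, hq, rfl⟩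
      · exact h1 _ ((by decide +kernel : ∀ j ∈ ({0, 1, 2, 3, 5, 17, 14} : Finset (ZMod 23)), some j ∈ H0) j hj)
  rw [hn]
  exact e_comm _ _

theorem clique (E : Set Fi23) (hE : E ⊆ D) (hc : ∀ a ∈ E, ∀ b ∈ E, Commute a b) :
    ¬ Group.IsSolvable (normalizer (closure (CD D E) : Set Fi23)) := by
  classical
  obtain ⟨g, hg⟩ := exists_conj_base hE hc
  let S (g : Fi23) : Finset GolayPt := Finset.univ.filter fun p => g⁻¹ * e p * g ∈ E
  have m1 : ∀ g p, p ∈ S g ↔ g⁻¹ * e p * g ∈ E := fun g p => by simp only [S, _root_.Finset.mem_filter, _root_.Finset.mem_univ, _root_.true_and]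
  have h0 : ∀ g, none ∉ S g := fun g h => ne_one_of (hE ((m1 g _).1 h)) (by simp [base.zero])
  obtain ⟨m, hm, h1⟩ : ∃ m ∈ Spor.M23, (∀ p ∈ S g, m p ∈ ({some 0, some 1, some 4} : Finset GolayPt)) ∨
      ∀ q ∈ ({some 0, some 1, some 2, some 3} : Finset GolayPt), ∃ p ∈ S g, m p = q := by
    rcases le_or_gt (S g).card 3 with h | h
    · obtain ⟨U, h1, h2⟩ := Finset.exists_subset_card_eq (s := ({some 0, some 1, some 4} : Finset GolayPt)) h
      obtain ⟨m, hm, h3, -⟩ := exists_M23 (h0 g) (fun h => absurd (h1 h) (by decide)) (by omega) h2.symm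
      exact ⟨m, hm, .inl fun p hp => h1 (h3 p hp)⟩
    · obtain ⟨U, h1, h2⟩ := Finset.exists_subset_card_eq (n := 4) h
      obtain ⟨m, hm, -, h3⟩ := exists_M23 (U := {some 0, some 1, some 2, some 3}) (fun h => h0 g (h1 h)) (by decide)
        h2.le h2
      exact ⟨m, hm, .inr fun q hq => (h3 q hq).imp fun p hp => ⟨h1 hp.1, hp.2⟩⟩
  obtain ⟨n, hn⟩ := base.full m hm
  have h2 : ∀ p, m p ∈ S (n * g) ↔ p ∈ S g := fun p => by
    rw [m1, m1, ← hn]
    simp only [mul_assoc, _root_.mul_inv_rev, _root_.inv_mul_cancel_left]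
  have h3 : ∀ t ∈ E, n * g * t * (n * g)⁻¹ ∈ e '' S (n * g) := fun t ht => by
    obtain ⟨i, hi⟩ := hg t ht
    exact ⟨m (some i), (h2 _).2 ((m1 _ _).2 (by simpa [← hi, mul_assoc] using ht)), by simp only [← hn, ← hi, mul_assoc, _root_.mul_inv_rev]⟩
  refine fun hS => std (h0 (n * g)) (h1.imp (fun h p hp => ?_) fun h q hq => ?_) (fun x hx => mem_N (X := CD D E)
    (n := (n * g)⁻¹ * x * (n * g)⁻¹⁻¹) fun d hd => ⟨isConj_conj hd.1 _, fun t ht => ?_⟩) (solv_conj hS (n * g))
  · obtain ⟨p, rfl⟩ := m.surjective p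
    exact h p ((h2 p).1 hp)
  · obtain ⟨p, hp, rfl⟩ := h q hq
    exact (h2 p).2 hp
  · have h4 := com_conj ((hx (n * g * d * (n * g)⁻¹) ⟨isConj_conj hd.1 _, by
      rintro _ ⟨p, hp, rfl⟩
      simpa only [mul_assoc, _root_.mul_inv_rev, _root_.mul_inv_cancel_left, _root_.mul_inv_cancel, _root_.mul_one] using com_conj (hd.2 _ ((m1 _ _).1 hp)) (n * g)⟩).2 _ (h3 t ht)) (n * g)⁻¹
    simpa only [mul_assoc, _root_.mul_inv_rev, _root_.inv_inv, _root_.inv_mul_cancel_left, _root_.inv_mul_cancel, _root_.mul_one] using h4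

end D23

open D23 Cfsg.Agent.H837.Base23 in
/-- **the transpositions of `Fi23`** -/
theorem boxD23 : BoxD23 :=
  ⟨R08.FiTwentyThree.D,
    { sq := fun _ => sq_of
      ne := fun _ => ne_one_of
      aut := fun σ a ha => by
        obtain ⟨g, rfl⟩ := KFacts.FiTTh.Has.inn σ
        exact isConj_conj ha g
      three := fun _ ha _ hb => braid_of ha hb
      uniq := fun a ha b hb c hc d hd hne h1 h2 e => by
        have h3 : c ≠ d := by
          rintro rfl
          exact hne ((eq_inv_of_mul_eq_one_left (e.trans (sq_of hc))).trans (inv_of hb))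
        simpa using (uq (good2 ha hb hne h1) (good2 hc hd h3 h2) (by simp) (by simp) (by simpa only [_root_.List.prod_cons, _root_.List.prod_nil, _root_.mul_one] using e) c).2 (by simp)
      invol := invol
      clique := fun E hE _ => clique E hE
      tri := tri }⟩

end Cfsg.Agent.SB.SporD.Fi

private theorem dce_14b4c9725394 : _root_.True := by
  try have : _root_.True := by simp only [_root_.Cfsg.Agent.KFacts.FiTTh.BasChk.oct0.eq_1]
  try have : _root_.True := by simp only [_root_.Cfsg.Agent.SB.SporD.Fi.D23.H0.eq_1]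
  exact _root_.True.intro
end
end
end
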